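import Cfsg.Agent.H3.OT.Weyl
import Cfsg.Agent.H460.OT.BruConc
import Cfsg.Agent.S1039
import Cfsg.Agent.S1092
import Cfsg.Agent.S1093
import Cfsg.Agent.ChevalleyStructure.XColumns
import Cfsg.Agent.Nodes.PosPair
import Cfsg.Agent.ChevFast.E6
import Cfsg.Agent.ChevFast.E7
import Cfsg.Agent.ChevFast.E8
import Cfsg.Agent.ChevFast.F4
import Cfsg.Agent.ChevalleyStructure.SL2Hom
import Cfsg.Agent.ChevalleyStructure.SharpSign
import Cfsg.Agent.ChevalleyStructure.NBlock_mg
import Cfsg.Agent.Lib.ListFast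
import Cfsg.Agent.H134.PairFacts
import Cfsg.Agent.Lib.MinNormalNonabelian
import Cfsg.Agent.Solvable.FpfCyclic
import Cfsg.Agent.S0033
import Mathlib
import Cfsg.Agent.H927.SzMouf
import Cfsg.Agent.S1038
import Cfsg.Agent.Involutions.BaerSuzuki
import Cfsg.Agent.S1027
import Cfsg.Agent.S1030
import Cfsg.Agent.H334.Symp.ModelSetup
import Cfsg.Agent.LieClassical.SLTwoUnipotent
import Cfsg.Agent.ClassicalGeometry.PSL2Basic
import Cfsg.Agent.ChevalleyStructure.NPerm
import Cfsg.Agent.FastGrp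
import Cfsg.Agent.Prune
set_option linter.all false

section
prune_inst 0x7ffcbcfbaff8bddedfff7e7ffefddffc39901fffa6dff94b7fe061ff2b9f230009c5fb8d0de010fe1eb6c01410387853f97eca3fe86bdc7ffffd5ff41ffbee0fa5e7b508519498340fbc0fff03f0778e7f3fffffffffffffffffffffffffffbeffbdffffffff

-- part: H274/OT/BT
section
set_option linter.all false
open scoped Cfsg.Agent.FastGrp

-- part: H274/OT/FrameConc
section
/-!
# The frame of S2539 (piece 0.4) for `D.group K`

* `exists_minBad` : a bad overgroup of `T` gives a least one;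
* `MinBad.le_MF_of_lt` : proper overgroups of `T` in `F` lie in `MF D K F`;
* `BT` : the Borel–Tits input; `MinBad.op_eq_bot`, `MinBad.local_le` : consequences.
-/

set_option autoImplicit false

namespace Cfsg.Agent.H274.OT

open Cfsg Cfsg.Lie Cfsg.Lie.ChevalleyDatum
open Cfsg.Agent.ChevalleyStructure Cfsg.Agent.ChevalleyStructure.Elts
open Cfsg.Agent.H412.OT

universe u

variable {D : ChevalleyDatum} {K : Type u} [Field K]

theorem isPGroup_root (hD : InList D) (p : ℕ) [CharP K p] (r : ℕ) : IsPGroup p ↥(D.rootSubgroup K r) := by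
  rintro ⟨x, hx⟩
  refine ⟨1, Subtype.ext ?_⟩
  obtain ⟨a, rfl⟩ := (mem_rootSubgroup_iff hD r x).1 hx
  have key : ∀ k : ℕ, (xG hD r a : GL D.Idx K) ^ k = xG hD r (k • a) := by
    intro k
    induction k with
    | zero => rw [pow_zero, zero_smul, xG_zero]
    | succ k ih => rw [pow_succ, ih, xG_add, succ_nsmul]
  rw [SubgroupClass.coe_pow]
  change (xG hD r a : GL D.Idx K) ^ p ^ 1 = 1
  rw [pow_one, key, nsmul_eq_mul, CharP.cast_eq_zero, zero_mul, xG_zero]

theorem root_ne_bot (hD : InList D) {r : ℕ} (hr : r < D.nroots) : D.rootSubgroup K r ≠ ⊥ := by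
  intro h
  have h1 : (xG hD r 1 : GL D.Idx K) ∈ D.rootSubgroup K r := xG_mem_rootSubgroup hD r 1
  rw [h, Subgroup.mem_bot, xG_eq_one_iff hD hr] at h1
  exact one_ne_zero h1

theorem tor_le_normalizer_root (hD : InList D) {r : ℕ} (hr : r < D.nroots) :
    D.diagonalSubgroup K ≤ Subgroup.normalizer (D.rootSubgroup K r : Set (GL D.Idx K)) := by
  intro t ht
  rw [Subgroup.mem_normalizer_iff]
  intro x
  refine ⟨fun hx => tor_conj_root hD ht hr hx, fun hx => ?_⟩
  have h1 := tor_conj_root hD (inv_mem ht) hr hx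
  have e : t⁻¹ * (t * x * t⁻¹) * t⁻¹⁻¹ = x := by group
  rwa [e] at h1

theorem MF_mono {F F' : Subgroup (GL D.Idx K)} (h : F ≤ F') : MF D K F ≤ MF D K F' :=
  sup_le_sup (DF_mono h) (inf_le_inf_right _ h)

/-- a bad overgroup of `T` gives a least one -/
theorem exists_minBad [Finite K] {F : Subgroup (GL D.Idx K)} (hT : D.diagonalSubgroup K ≤ F)
    (hG : F ≤ D.group K) (hbad : ¬ Good D K F) : ∃ F₀, F₀ ≤ F ∧ MinBad D K F₀ := by
  classical
  have hne : ∃ k, ∃ F₁ : Subgroup (GL D.Idx K), D.diagonalSubgroup K ≤ F₁ ∧ F₁ ≤ F ∧ ¬ Good D K F₁ ∧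
      Nat.card F₁ = k := ⟨_, F, hT, le_rfl, hbad, rfl⟩
  obtain ⟨F₀, h1, h2, h3, hcard⟩ := Nat.find_spec hne
  refine ⟨F₀, h2, h1, le_trans h2 hG, h3, fun H hH hlt => ?_⟩
  by_contra h4
  have h5 : Nat.card H < Nat.card F₀ := by
    refine lt_of_le_of_ne (Nat.card_le_card_of_injective (Subgroup.inclusion hlt.le)
      (Subgroup.inclusion_injective hlt.le)) fun h5 => ?_
    exact hlt.ne (Subgroup.eq_of_le_of_card_ge hlt.le (le_of_eq h5.symm))
  rw [hcard] at h5
  exact Nat.find_min hne h5 ⟨H, hH, le_trans hlt.le h2, h4, rfl⟩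

/-- all overgroups of `T` are good if there is no least bad one -/
theorem good_of_no_minBad [Finite K] (h : ∀ F₀, ¬ MinBad D K F₀) {F : Subgroup (GL D.Idx K)}
    (hT : D.diagonalSubgroup K ≤ F) (hG : F ≤ D.group K) : Good D K F := by
  by_contra hbad
  obtain ⟨F₀, -, h1⟩ := exists_minBad hT hG hbad
  exact h F₀ h1

end Cfsg.Agent.H274.OT

namespace Cfsg.Agent.H412.OT.MinBad

open Cfsg Cfsg.Lie Cfsg.Lie.ChevalleyDatum
open Cfsg.Agent.ChevalleyStructure Cfsg.Agent.ChevalleyStructure.Elts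
open Cfsg.Agent.H412.OT Cfsg.Agent.H274.OT

universe u

variable {D : ChevalleyDatum} {K : Type u} [Field K] {F : Subgroup (GL D.Idx K)}

/-- proper overgroups of `T` in `F` lie in `M` -/
theorem le_MF_of_lt (hF : MinBad D K F) {H : Subgroup (GL D.Idx K)} (hT : D.diagonalSubgroup K ≤ H)
    (hlt : H < F) : H ≤ MF D K F := le_trans (hF.min H hT hlt).le_MF (MF_mono hlt.le)

end Cfsg.Agent.H412.OT.MinBad

namespace Cfsg.Agent.H274.OT

open Cfsg Cfsg.Lie Cfsg.Lie.ChevalleyDatum
open Cfsg.Agent.ChevalleyStructure Cfsg.Agent.ChevalleyStructure.Elts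
open Cfsg.Agent.H412.OT

universe u

/-- The Borel–Tits input: an overgroup `F` of `T` with `O_p(F) ≠ 1` is `V L`, `V` generated by root subgroups
in `F`, `T ≤ L < F`. -/
def BT (D : ChevalleyDatum) (K : Type u) [Field K] (p : ℕ) : Prop :=
  ∀ F : Subgroup (GL D.Idx K), D.diagonalSubgroup K ≤ F → F ≤ D.group K → ∀ Q : Subgroup (GL D.Idx K), Q ≤ F →
    IsPGroup p ↥Q → Q ≠ ⊥ → F ≤ Subgroup.normalizer (Q : Set (GL D.Idx K)) →
    ∃ L : Subgroup (GL D.Idx K), D.diagonalSubgroup K ≤ L ∧ L < F ∧ ∀ x ∈ F, ∃ v ∈ DF D K F, ∃ l ∈ L, x = v * l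

end Cfsg.Agent.H274.OT

namespace Cfsg.Agent.H412.OT.MinBad

open Cfsg Cfsg.Lie Cfsg.Lie.ChevalleyDatum
open Cfsg.Agent.ChevalleyStructure Cfsg.Agent.ChevalleyStructure.Elts
open Cfsg.Agent.H412.OT Cfsg.Agent.H274.OT

universe u

variable {D : ChevalleyDatum} {K : Type u} [Field K] {F : Subgroup (GL D.Idx K)} {p : ℕ}

/-- `O_p(F) = 1` -/
theorem op_eq_bot (hBT : BT D K p) (hF : MinBad D K F) {Q : Subgroup (GL D.Idx K)} (hQF : Q ≤ F)
    (hQ : IsPGroup p ↥Q) (hN : F ≤ Subgroup.normalizer (Q : Set (GL D.Idx K))) : Q = ⊥ := by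
  by_contra hQ1
  obtain ⟨L, hTL, hLF, hall⟩ := hBT F hF.tor hF.le Q hQF hQ hQ1 hN
  apply hF.bad
  intro x hx
  obtain ⟨v, hv, l, hl, rfl⟩ := hall x hx
  obtain ⟨d, hd, n, hn, hn', rfl⟩ := hF.min L hTL hLF l hl
  exact ⟨v * d, mul_mem hv (DF_mono hLF.le hd), n, hLF.le hn, hn', by rw [mul_assoc]⟩

/-- normalisers of `T`-invariant `p`-subgroups are proper and lie in `M` -/
theorem local_lt (hBT : BT D K p) (hF : MinBad D K F) {Q : Subgroup (GL D.Idx K)} (hQF : Q ≤ F)
    (hQ : IsPGroup p ↥Q) (hQ1 : Q ≠ ⊥) : F ⊓ Subgroup.normalizer (Q : Set (GL D.Idx K)) < F := by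
  refine lt_of_le_of_ne inf_le_left fun e => hQ1 (hF.op_eq_bot hBT hQF hQ ?_)
  rw [← e]
  exact inf_le_right

theorem local_le (hBT : BT D K p) (hF : MinBad D K F) {Q : Subgroup (GL D.Idx K)} (hQF : Q ≤ F)
    (hQ : IsPGroup p ↥Q) (hQ1 : Q ≠ ⊥) (hT : D.diagonalSubgroup K ≤ Subgroup.normalizer (Q : Set (GL D.Idx K))) :
    F ⊓ Subgroup.normalizer (Q : Set (GL D.Idx K)) ≤ MF D K F :=
  hF.le_MF_of_lt (le_inf hF.tor hT) (hF.local_lt hBT hQF hQ hQ1)

/-- the normaliser of a root subgroup in `F` lies in `M` -/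
theorem local_root (hD : InList D) [CharP K p] (hBT : BT D K p) (hF : MinBad D K F) {r : ℕ} (hr : r ∈ SF D K F) :
    F ⊓ Subgroup.normalizer (D.rootSubgroup K r : Set (GL D.Idx K)) ≤ MF D K F :=
  hF.local_le hBT hr.2 (isPGroup_root hD p r) (root_ne_bot hD hr.1) (tor_le_normalizer_root hD hr.1)

end Cfsg.Agent.H412.OT.MinBad
end

-- part: H274/OT/BT
section
/-!
# S2539 (piece 0.4): the Borel–Tits input and the frame without hypotheses

* `bt : Hyp K p D → BT D K p`;
* `mem_MF` : the elements of `MF D K F` are `d n`; `good_iff : Good D K F ↔ F ≤ MF D K F`;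
* for `h : Hyp K p D`, `hF : MinBad D K F`: `hF.MF_lt h`, `hF.op h`, `hF.loc_lt h`, `hF.loc h`, `hF.root h`,
  `hF.eq_iSup h` (`T`-invariant `p`-subgroups of `F` are products of root subgroups in `S_F`).
-/

set_option autoImplicit false

namespace Cfsg.Agent.H274.OT

open Cfsg Cfsg.Lie Cfsg.Lie.ChevalleyDatum
open Cfsg.Agent.ChevalleyStructure Cfsg.Agent.ChevalleyStructure.Elts
open Cfsg.Agent.H412.OT

universe u

variable {D : ChevalleyDatum} {K : Type u} [Field K] [Fintype K] {p : ℕ}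

theorem mem7 {D : ChevalleyDatum} (h : D ∈ [chevG2, chevD4, chevF4, chevE6, chevE7, chevE8]) :
    D ∈ [chevG2, chevB2, chevD4, chevF4, chevE6, chevE7, chevE8] := by
  simp only [List.mem_cons, List.not_mem_nil, or_false] at h ⊢
  tauto

theorem card13 (h : Hyp K p D) : 13 ≤ Nat.card K := by
  rw [Nat.card_eq_fintype_card]; exact h.card

/-- **The Borel–Tits input.** -/
theorem bt [Fact p.Prime] [CharP K p] (h : Hyp K p D) : BT D K p := by
  intro F hTF hFG Q hQF hQ hQ1 hN
  obtain ⟨V, L, hVF, hLF, hTL, hV, hQV, hVL, hFV, hall⟩ :=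
    H460.OT.overgroup_split (p := p) (mem7 h.mem) (card13 h) hTF hFG hQF hQ hQ1 hN
  refine ⟨L, hTL, lt_of_le_of_ne hLF fun e => hQ1 ?_, fun x hx => ?_⟩
  · rw [eq_bot_iff, ← hVL]
    exact le_inf hQV (e ▸ hQF)
  · obtain ⟨v, hv, l, hl, e⟩ := hall x hx
    refine ⟨v, ?_, l, hl, e⟩
    have h1 := H460.OT.inv_pgroup (p := p) (mem7 h.mem) (card13 h) (le_trans hVF hFG) hV (le_trans hTF hFV)
    have h2 : V ≤ DF D K F := by
      rw [h1]
      exact iSup₂_le fun r hr => rootSubgroup_le_DF ⟨hr.1, le_trans hr.2 hVF⟩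
    exact h2 hv

/-- `N_F(T)` normalises `D_F` -/
theorem norm_le_normalizer_DF (h : Hyp K p D) {F : Subgroup (GL D.Idx K)} (hFG : F ≤ D.group K) :
    F ⊓ Subgroup.normalizer (D.diagonalSubgroup K : Set (GL D.Idx K)) ≤
      Subgroup.normalizer (DF D K F : Set (GL D.Idx K)) := by
  have key : ∀ g ∈ F ⊓ Subgroup.normalizer (D.diagonalSubgroup K : Set (GL D.Idx K)), ∀ x ∈ DF D K F,
      g * x * g⁻¹ ∈ DF D K F := by
    intro g hg x hx
    have h1 : DF D K F ≤ (DF D K F).comap (MulAut.conj g).toMonoidHom := by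
      refine iSup₂_le fun r hr => ?_
      rw [← Subgroup.map_le_iff_le_comap]
      obtain ⟨s, hs, e⟩ := H460.OT.conj_rootSubgroup (mem7 h.mem) (card13 h) (hFG hg.1) hg.2 hr.1
      rw [e]
      refine rootSubgroup_le_DF ⟨hs, ?_⟩
      rw [← e]
      rintro _ ⟨y, hy, rfl⟩
      exact F.mul_mem (F.mul_mem hg.1 (hr.2 hy)) (F.inv_mem hg.1)
    have h2 := h1 hx
    rw [Subgroup.mem_comap] at h2
    exact h2
  intro g hg
  rw [Subgroup.mem_normalizer_iff]
  intro x
  refine ⟨key g hg x, fun h1 => ?_⟩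
  have h2 := key g⁻¹ (inv_mem hg) _ h1
  have e : g⁻¹ * (g * x * g⁻¹) * g⁻¹⁻¹ = x := by group
  rwa [e] at h2

/-- the elements of `M_F` -/
theorem mem_MF (h : Hyp K p D) {F : Subgroup (GL D.Idx K)} (hFG : F ≤ D.group K) {x : GL D.Idx K} :
    x ∈ MF D K F ↔ ∃ d ∈ DF D K F, ∃ n ∈ F,
      n ∈ Subgroup.normalizer (D.diagonalSubgroup K : Set (GL D.Idx K)) ∧ x = d * n := by
  constructor
  · intro hx
    have h1 : x ∈ ((DF D K F ⊔ (F ⊓ Subgroup.normalizer (D.diagonalSubgroup K : Set (GL D.Idx K))) :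
        Subgroup (GL D.Idx K)) : Set (GL D.Idx K)) := hx
    rw [Subgroup.coe_mul_of_right_le_normalizer_left _ _ (norm_le_normalizer_DF h hFG), Set.mem_mul] at h1
    obtain ⟨d, hd, n, hn, e⟩ := h1
    exact ⟨d, hd, n, hn.1, hn.2, e.symm⟩
  · rintro ⟨d, hd, n, hn, hn', rfl⟩
    exact mul_mem (DF_le_MF F hd) (norm_le_MF F ⟨hn, hn'⟩)

theorem good_iff (h : Hyp K p D) {F : Subgroup (GL D.Idx K)} (hFG : F ≤ D.group K) :
    Good D K F ↔ F ≤ MF D K F :=
  ⟨fun h1 => h1.le_MF, fun h1 _ hx => (mem_MF h hFG).1 (h1 hx)⟩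

theorem good_iff_eq (h : Hyp K p D) {F : Subgroup (GL D.Idx K)} (hFG : F ≤ D.group K) :
    Good D K F ↔ MF D K F = F :=
  ⟨fun h1 => h1.eq_MF, fun h1 => (good_iff h hFG).2 (le_of_eq h1.symm)⟩

end Cfsg.Agent.H274.OT

namespace Cfsg.Agent.H412.OT.MinBad

open Cfsg Cfsg.Lie Cfsg.Lie.ChevalleyDatum
open Cfsg.Agent.ChevalleyStructure Cfsg.Agent.ChevalleyStructure.Elts
open Cfsg.Agent.H412.OT Cfsg.Agent.H274.OT

universe u

variable {D : ChevalleyDatum} {K : Type u} [Field K] [Fintype K] {F : Subgroup (GL D.Idx K)} {p : ℕ}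

/-- `M < F` -/
theorem MF_lt (hF : MinBad D K F) (h : Hyp K p D) : MF D K F < F :=
  lt_of_le_of_ne (MF_le F) fun e => hF.bad ((good_iff_eq h hF.le).2 e)

/-- `M` is the unique maximal subgroup of `F` containing `T` -/
theorem lt_iff_le_MF (hF : MinBad D K F) (h : Hyp K p D) {H : Subgroup (GL D.Idx K)}
    (hT : D.diagonalSubgroup K ≤ H) : H < F ↔ H ≤ MF D K F :=
  ⟨fun h1 => hF.le_MF_of_lt hT h1, fun h1 => lt_of_le_of_lt h1 (hF.MF_lt h)⟩

/-- `O_p(F) = 1` -/
theorem op [Fact p.Prime] [CharP K p] (hF : MinBad D K F) (h : Hyp K p D) {Q : Subgroup (GL D.Idx K)}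
    (hQF : Q ≤ F) (hQ : IsPGroup p ↥Q) (hN : F ≤ Subgroup.normalizer (Q : Set (GL D.Idx K))) : Q = ⊥ :=
  hF.op_eq_bot (bt h) hQF hQ hN

/-- `N_F(Q) ≤ M` -/
theorem loc [Fact p.Prime] [CharP K p] (hF : MinBad D K F) (h : Hyp K p D) {Q : Subgroup (GL D.Idx K)}
    (hQF : Q ≤ F) (hQ : IsPGroup p ↥Q) (hQ1 : Q ≠ ⊥)
    (hT : D.diagonalSubgroup K ≤ Subgroup.normalizer (Q : Set (GL D.Idx K))) :
    F ⊓ Subgroup.normalizer (Q : Set (GL D.Idx K)) ≤ MF D K F := hF.local_le (bt h) hQF hQ hQ1 hT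

/-- `N_F(X_r) ≤ M` -/
theorem root [Fact p.Prime] [CharP K p] (hF : MinBad D K F) (h : Hyp K p D) {r : ℕ} (hr : r ∈ SF D K F) :
    F ⊓ Subgroup.normalizer (D.rootSubgroup K r : Set (GL D.Idx K)) ≤ MF D K F :=
  hF.local_root h.inList (bt h) hr

/-- `T`-invariant `p`-subgroups of `F` are generated by root subgroups of `F` -/
theorem eq_iSup [Fact p.Prime] [CharP K p] (hF : MinBad D K F) (h : Hyp K p D) {Q : Subgroup (GL D.Idx K)}
    (hQF : Q ≤ F) (hQ : IsPGroup p ↥Q)
    (hT : D.diagonalSubgroup K ≤ Subgroup.normalizer (Q : Set (GL D.Idx K))) :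
    Q = ⨆ r ∈ {r ∈ SF D K F | D.rootSubgroup K r ≤ Q}, D.rootSubgroup K r := by
  have h1 := H460.OT.inv_pgroup (p := p) (mem7 h.mem) (card13 h) (le_trans hQF hF.le) hQ hT
  apply le_antisymm
  · conv_lhs => rw [h1]
    exact iSup₂_le fun r hr => le_iSup₂ (f := fun r (_ : r ∈ {r ∈ SF D K F | D.rootSubgroup K r ≤ Q}) =>
      D.rootSubgroup K r) r ⟨⟨hr.1, le_trans hr.2 hQF⟩, hr.2⟩
  · exact iSup₂_le fun r hr => hr.2

/-- a `T`-invariant `p`-subgroup of `F` lies in `D_F`; it is trivial if `S_F` is empty -/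
theorem le_DF [Fact p.Prime] [CharP K p] (hF : MinBad D K F) (h : Hyp K p D) {Q : Subgroup (GL D.Idx K)}
    (hQF : Q ≤ F) (hQ : IsPGroup p ↥Q)
    (hT : D.diagonalSubgroup K ≤ Subgroup.normalizer (Q : Set (GL D.Idx K))) : Q ≤ DF D K F := by
  rw [hF.eq_iSup h hQF hQ hT]
  exact iSup₂_le fun r hr => rootSubgroup_le_DF hr.1

end Cfsg.Agent.H412.OT.MinBad
end
end

-- part: H412/OT/Ind
section
set_option linter.all false
open scoped Cfsg.Agent.FastGrp

/-!
# S2539: indices (helper412)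

`relIndex_dvd` : `|N : T|` divides `696729600` (the order of `W(E8)`).
`MF_norm`, `MF_index` : `D_F T` is normal in `M = D_F N_F(T)` and `|M : D_F T|` divides `696729600`.
-/

set_option autoImplicit false

namespace Cfsg.Agent.H412.OT

open Cfsg.Lie Cfsg.Agent.ChevalleyStructure Cfsg.Agent.ChevalleyStructure.Elts

universe u

section Abs

variable {G : Type*} [Group G] {T D M : Subgroup G}

theorem abs_norm (hMD : M ≤ Subgroup.normalizer (D : Set G))
    (hM : M ≤ D ⊔ (M ⊓ Subgroup.normalizer (T : Set G))) :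
    M ≤ Subgroup.normalizer ((T ⊔ D : Subgroup G) : Set G) := by
  refine hM.trans (sup_le (le_sup_right.trans Subgroup.le_normalizer) ?_)
  intro m hm
  have key : ∀ m ∈ M ⊓ Subgroup.normalizer (T : Set G), (T ⊔ D : Subgroup G) ≤
      (T ⊔ D).comap (MulAut.conj m).toMonoidHom := by
    intro m hm
    refine sup_le (fun x hx => ?_) (fun x hx => ?_)
    · exact Subgroup.mem_sup_left ((Subgroup.mem_normalizer_iff.1 hm.2 x).1 hx)
    · exact Subgroup.mem_sup_right ((Subgroup.mem_normalizer_iff.1 (hMD hm.1) x).1 hx)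
  rw [Subgroup.mem_normalizer_iff]
  intro x
  refine ⟨fun hx => key m hm hx, fun hx => ?_⟩
  have h1 : m⁻¹ * (m * x * m⁻¹) * m⁻¹⁻¹ ∈ T ⊔ D := key m⁻¹ (inv_mem hm) hx
  have h2 : m⁻¹ * (m * x * m⁻¹) * m⁻¹⁻¹ = x := by group
  rwa [h2] at h1

theorem abs_index [Finite G] (hTM : T ≤ M) (hDM : D ≤ M) (hMD : M ≤ Subgroup.normalizer (D : Set G))
    (hM : M ≤ D ⊔ (M ⊓ Subgroup.normalizer (T : Set G))) :
    (T ⊔ D).relIndex M ∣ T.relIndex (M ⊓ Subgroup.normalizer (T : Set G)) := by
  have hle : T ⊔ D ≤ M := sup_le hTM hDM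
  have hn : ((T ⊔ D).subgroupOf M).Normal := by
    constructor
    intro x hx y
    exact (Subgroup.mem_normalizer_iff.1 (abs_norm hMD hM y.2) _).1 hx
  set P := M ⊓ Subgroup.normalizer (T : Set G) with hP
  have hPM : P ≤ M := inf_le_left
  have htop : P.subgroupOf M ⊔ (T ⊔ D).subgroupOf M = ⊤ := by
    rw [← Subgroup.subgroupOf_sup hPM hle, Subgroup.subgroupOf_eq_top]
    refine hM.trans (sup_le (le_sup_right.trans le_sup_right) le_sup_left)
  have h1 : (T ⊔ D).relIndex M = (T ⊔ D).relIndex P := by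
    rw [← Subgroup.relIndex_subgroupOf (H := T ⊔ D) hPM, ← Subgroup.relIndex_sup_right (K := (T ⊔ D).subgroupOf M),
      htop, Subgroup.relIndex_top_right]
    rfl
  rw [h1]
  exact Subgroup.relIndex_dvd_of_le_left _ le_sup_left

end Abs

variable {D : ChevalleyDatum} {K : Type u} [Field K]

/-- `|N : T|` divides `|W(E8)|` -/
theorem relIndex_dvd (hD : D ∈ [chevG2, chevD4, chevF4, chevE6, chevE7, chevE8]) :
    (D.diagonalSubgroup K).relIndex (D.monomialSubgroup K) ∣ 696729600 := by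
  have key : ∀ (p : ChevalleyDatum × (Σ n : ℕ, CoxeterMatrix (Fin n))),
      p ∈ [(chevG2, (⟨2, CoxeterMatrix.G₂⟩ : Σ n : ℕ, CoxeterMatrix (Fin n))), (chevB2, ⟨2, CoxeterMatrix.B 2⟩),
        (chevD4, ⟨4, coxeterD4⟩), (chevF4, ⟨4, CoxeterMatrix.F₄⟩),
        (chevE6, ⟨6, CoxeterMatrix.E₆⟩), (chevE7, ⟨7, CoxeterMatrix.E₇⟩), (chevE8, ⟨8, CoxeterMatrix.E₈⟩)] →
      (p.1.diagonalSubgroup K).relIndex (p.1.monomialSubgroup K) = Nat.card p.2.2.Group := by
    intro p hp
    obtain ⟨φ, h1, h2, -⟩ := Cfsg.Agent.S1039.result (F := K) p hp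
    rw [Subgroup.relIndex, ← h2, Subgroup.index_ker, MonoidHom.range_eq_top.2 h1, Subgroup.card_top]
  simp only [List.mem_cons, List.not_mem_nil, or_false] at hD
  rcases hD with rfl | rfl | rfl | rfl | rfl | rfl
  · rw [key (chevG2, ⟨2, CoxeterMatrix.G₂⟩) (by simp), Cfsg.Agent.S1092.result (⟨2, CoxeterMatrix.G₂⟩, 12) (by simp)]
    norm_num
  · rw [key (chevD4, ⟨4, coxeterD4⟩) (by simp), Cfsg.Agent.S1092.result (⟨4, coxeterD4⟩, 192) (by simp)]
    norm_num
  · rw [key (chevF4, ⟨4, CoxeterMatrix.F₄⟩) (by simp), Cfsg.Agent.S1092.result (⟨4, CoxeterMatrix.F₄⟩, 1152) (by simp)]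
    norm_num
  · rw [key (chevE6, ⟨6, CoxeterMatrix.E₆⟩) (by simp), Cfsg.Agent.S1093.result (⟨6, CoxeterMatrix.E₆⟩, 51840) (by simp)]
    norm_num
  · rw [key (chevE7, ⟨7, CoxeterMatrix.E₇⟩) (by simp), Cfsg.Agent.S1093.result (⟨7, CoxeterMatrix.E₇⟩, 2903040) (by simp)]
    norm_num
  · rw [key (chevE8, ⟨8, CoxeterMatrix.E₈⟩) (by simp), Cfsg.Agent.S1093.result (⟨8, CoxeterMatrix.E₈⟩, 696729600) (by simp)]

variable [Fintype K] {p : ℕ}

/-- `|N_F(T) : T|` divides `|W(E8)|` -/
theorem relIndex_norm_dvd (h : Hyp K p D) {F : Subgroup (GL D.Idx K)} (hTF : D.diagonalSubgroup K ≤ F)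
    (hFG : F ≤ D.group K) :
    (D.diagonalSubgroup K).relIndex (F ⊓ Subgroup.normalizer (D.diagonalSubgroup K : Set (GL D.Idx K))) ∣
      696729600 := by
  refine Dvd.dvd.trans ?_ (relIndex_dvd (K := K) h.mem)
  have h13 := Cfsg.Agent.H274.OT.card13 h
  have h1 : F ⊓ Subgroup.normalizer (D.diagonalSubgroup K : Set (GL D.Idx K)) ≤ D.monomialSubgroup K :=
    fun g hg => Cfsg.Agent.H3.OT.mem_monomial_of_norm h.inList (by omega) (hFG hg.1) hg.2
  rw [← Subgroup.relIndex_mul_relIndex _ _ _ (le_inf hTF (tor_le_norm D K)) h1]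
  exact Dvd.intro _ rfl

theorem MF_le_normalizer_DF (h : Hyp K p D) {F : Subgroup (GL D.Idx K)} (hFG : F ≤ D.group K) :
    MF D K F ≤ Subgroup.normalizer (DF D K F : Set (GL D.Idx K)) :=
  sup_le Subgroup.le_normalizer (Cfsg.Agent.H274.OT.norm_le_normalizer_DF h hFG)

omit [Fintype K] in
theorem MF_le_sup (F : Subgroup (GL D.Idx K)) : MF D K F ≤ DF D K F ⊔
    (MF D K F ⊓ Subgroup.normalizer (D.diagonalSubgroup K : Set (GL D.Idx K))) :=
  sup_le le_sup_left ((le_inf (norm_le_MF F) inf_le_right).trans le_sup_right)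

/-- `T D_F` is normal in `M` -/
theorem MF_norm (h : Hyp K p D) {F : Subgroup (GL D.Idx K)} (hFG : F ≤ D.group K) :
    MF D K F ≤ Subgroup.normalizer ((D.diagonalSubgroup K ⊔ DF D K F : Subgroup (GL D.Idx K)) : Set (GL D.Idx K)) :=
  abs_norm (MF_le_normalizer_DF h hFG) (MF_le_sup F)

theorem MF_normal (h : Hyp K p D) {F : Subgroup (GL D.Idx K)} (hFG : F ≤ D.group K) :
    ((D.diagonalSubgroup K ⊔ DF D K F).subgroupOf (MF D K F)).Normal := by
  constructor
  intro x hx y
  exact (Subgroup.mem_normalizer_iff.1 (MF_norm h hFG y.2) _).1 hx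

/-- `|M : T D_F|` divides `|W(E8)|` -/
theorem MF_index (h : Hyp K p D) {F : Subgroup (GL D.Idx K)} (hTF : D.diagonalSubgroup K ≤ F)
    (hFG : F ≤ D.group K) : (D.diagonalSubgroup K ⊔ DF D K F).relIndex (MF D K F) ∣ 696729600 := by
  have hfin : Finite (GL D.Idx K) := inferInstance
  exact (abs_index (tor_le_MF hTF) (DF_le_MF F) (MF_le_normalizer_DF h hFG) (MF_le_sup F)).trans
    (relIndex_norm_dvd h (tor_le_MF hTF) ((MF_le F).trans hFG))

end Cfsg.Agent.H412.OT
end

-- part: H650/OT/SFC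
section
set_option linter.all false
open scoped Cfsg.Agent.FastGrp

-- part: H650/OT/Tab
section
/-!
# S2539, 0.1: facts on the tables (helper650)

* `chain_step` : the entries of a chain are consecutive; `Nz` : `chainM r s 1 ≠ 0` in `K`; `exists_cartan` : for every
  root `r` some `⟨r, p_i^∨⟩ ≠ 0` in `K`.
-/

set_option autoImplicit false

namespace Cfsg.Agent.H650.OT

open Cfsg Cfsg.Lie Cfsg.Lie.ChevalleyDatum
open Cfsg.Agent.ChevalleyStructure Cfsg.Agent.ChevalleyStructure.Elts Cfsg.Agent.ChevalleyStructure.RootVec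
open Cfsg.Agent.H412.OT

universe u

def chk2 (D : ChevalleyDatum) (r : ℕ) : List (ℕ × ℤ) → Bool
  | [] => true
  | [_] => true
  | q :: q' :: l => (D.chainRoot r q.1 1 == some q'.1) && chk2 D r (q' :: l)

def chk1 (m : ℕ) : List (ℕ × ℤ) → Bool
  | [] => true
  | q :: _ => decide (q.2 ≠ 0) && Nat.ble q.2.natAbs m

/-- the chains are consecutive, the first coefficients are nonzero of size at most `m` -/
def consOK (D : ChevalleyDatum) (m : ℕ) : Bool :=
  D.chain.toList.zipIdx.all fun rw => rw.1.toList.all fun e => chk1 m e.2.toList && chk2 D rw.2 e.2.toList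

def cartOK (D : ChevalleyDatum) (m : ℕ) : Bool :=
  (List.range D.nroots).all fun r => (List.range D.rank).any fun i =>
    decide (D.cartan i r ≠ 0) && Nat.ble (D.cartan i r).natAbs m

theorem consOK_G2 : consOK chevG2 3 = true := by decide +kernel
theorem consOK_D4 : consOK chevD4 1 = true := by decide +kernel
theorem consOK_F4 : consOK chevF4 2 = true := by (delta Cfsg.Agent.H650.OT.chk2 Cfsg.Agent.H650.OT.chk2._f Cfsg.Agent.H650.OT.consOK Cfsg.Lie.ChevalleyDatum.chainRoot; rewrite [Cfsg.Agent.ChevFast.F4.chainEntry]; decide +kernel)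
theorem consOK_E6 : consOK chevE6 1 = true := by decide +kernel
theorem consOK_E7 : consOK chevE7 1 = true := by decide +kernel
theorem consOK_E8 : consOK chevE8 1 = true := by (delta Cfsg.Agent.H650.OT.chk2 Cfsg.Agent.H650.OT.chk2._f Cfsg.Agent.H650.OT.consOK Cfsg.Lie.ChevalleyDatum.chainRoot; rewrite [Cfsg.Agent.ChevFast.E8.chainEntry]; decide +kernel)
theorem cartOK_G2 : cartOK chevG2 3 = true := by decide +kernel
theorem cartOK_D4 : cartOK chevD4 1 = true := by decide +kernel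
theorem cartOK_F4 : cartOK chevF4 2 = true := by (delta Cfsg.Agent.H650.OT.cartOK; rewrite [Cfsg.Agent.ChevFast.F4.cartan]; decide +kernel)
theorem cartOK_E6 : cartOK chevE6 1 = true := by (delta Cfsg.Agent.H650.OT.cartOK; rewrite [Cfsg.Agent.ChevFast.E6.cartan]; decide +kernel)
theorem cartOK_E7 : cartOK chevE7 1 = true := by (delta Cfsg.Agent.H650.OT.cartOK; rewrite [Cfsg.Agent.ChevFast.E7.cartan]; decide +kernel)
theorem cartOK_E8 : cartOK chevE8 1 = true := by (delta Cfsg.Agent.H650.OT.cartOK; rewrite [Cfsg.Agent.ChevFast.E8.cartan]; decide +kernel)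

variable {D : ChevalleyDatum}

theorem mem_zipIdx {r : ℕ} (hr : r < D.chain.toList.length) :
    (D.chain.getD r #[], r) ∈ D.chain.toList.zipIdx := by
  rw [List.mk_mem_zipIdx_iff_getElem?, getD_toList D.chain #[] hr]
  exact List.getElem?_eq_getElem hr

theorem chk2_sound {r : ℕ} : ∀ (l : List (ℕ × ℤ)) (k : ℕ) (q q' : ℕ × ℤ), chk2 D r l = true →
    l[k]? = some q → l[k + 1]? = some q' → D.chainRoot r q.1 1 = some q'.1 := by
  intro l
  induction l with
  | nil => intro k q q' _ h; simp at h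
  | cons a l ih =>
    intro k q q' hc h1 h2
    cases l with
    | nil =>
      rw [List.getElem?_cons_succ] at h2
      simp at h2
    | cons b l =>
      rw [chk2, Bool.and_eq_true] at hc
      cases k with
      | zero =>
        rw [List.getElem?_cons_zero] at h1
        rw [List.getElem?_cons_succ, List.getElem?_cons_zero] at h2
        cases h1
        cases h2
        simpa using hc.1
      | succ k =>
        rw [List.getElem?_cons_succ] at h1 h2
        exact ih k q q' hc.2 h1 h2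

theorem chk_entry {m : ℕ} (h : consOK D m = true) (r s : ℕ) :
    chk1 m (D.chainEntry r s) = true ∧ chk2 D r (D.chainEntry r s) = true := by
  by_cases h0 : D.chainEntry r s = []
  · rw [h0]
    exact ⟨rfl, rfl⟩
  obtain ⟨e, he, -, h1⟩ := chainEntry_eq_some (D := D) r s h0
  have hr : r < D.chain.toList.length := by
    by_contra hr
    have : D.chain.getD r #[] = #[] := by
      rw [Array.getD_eq_getD_getElem?, Array.getElem?_eq_none (by rw [Array.length_toList] at hr; omega)]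
      rfl
    rw [row_def, this] at he
    simp at he
  have h3 := List.all_eq_true.1 (List.all_eq_true.1 h _ (mem_zipIdx hr)) e he
  rw [Bool.and_eq_true] at h3
  rw [h1]
  exact h3

theorem mem_of_closed {m : ℕ} (h : consOK D m = true) {S : Set ℕ} (hS : Closed D S) {r s : ℕ} (hr : r ∈ S)
    (hs : s ∈ S) : ∀ (k : ℕ) (q : ℕ × ℤ), (D.chainEntry r s)[k]? = some q → q.1 ∈ S := by
  have h2 := (chk_entry h r s).2
  intro k
  induction k with
  | zero =>
    intro q hq
    refine hS r hr s hs q.1 ?_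
    change ((D.chainEntry r s)[1 - 1]?).map Prod.fst = some q.1
    rw [Nat.sub_self, hq]
    rfl
  | succ k ih =>
    intro q hq
    obtain ⟨q0, hq0⟩ : ∃ q0, (D.chainEntry r s)[k]? = some q0 := by
      have h3 : k + 1 < (D.chainEntry r s).length := by
        by_contra hcon
        rw [List.getElem?_eq_none (by omega)] at hq
        simp at hq
      exact ⟨_, List.getElem?_eq_getElem (by omega)⟩
    exact hS r hr q0.1 (ih q0 hq0) q.1 (chk2_sound _ k q0 q h2 hq0 hq)

section field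

variable {K : Type u} [Field K] {p : ℕ}

theorem intCast_ne_zero [CharP K p] {m : ℕ} (hm : m < p) {c : ℤ} (hc : c ≠ 0) (hcm : c.natAbs ≤ m) :
    (c : K) ≠ 0 := by
  intro h
  rw [CharP.intCast_eq_zero_iff K p] at h
  have h1 := Int.natAbs_dvd_natAbs.2 h
  have h2 := Nat.le_of_dvd (Int.natAbs_pos.2 hc) h1
  rw [Int.natAbs_natCast] at h2
  omega

theorem exists_bound [Fintype K] [Fact p.Prime] (h : Hyp K p D) :
    ∃ m < p, consOK D m = true ∧ cartOK D m = true := by
  have hp := (Fact.out : p.Prime).two_le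
  have hm := h.mem
  have h2 := h.ne2
  have h3 := h.ne3
  simp only [List.mem_cons, List.not_mem_nil, or_false] at hm h2
  rcases hm with rfl | rfl | rfl | rfl | rfl | rfl
  · have h4 := h2 (Or.inl rfl)
    have h5 := h3 rfl
    exact ⟨3, by omega, consOK_G2, cartOK_G2⟩
  · exact ⟨1, by omega, consOK_D4, cartOK_D4⟩
  · have h4 := h2 (Or.inr (Or.inr rfl))
    exact ⟨2, by omega, consOK_F4, cartOK_F4⟩
  · exact ⟨1, by omega, consOK_E6, cartOK_E6⟩
  · exact ⟨1, by omega, consOK_E7, cartOK_E7⟩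
  · exact ⟨1, by omega, consOK_E8, cartOK_E8⟩

/-- The first coefficient of a chain is nonzero in `K`. -/
theorem chainM_ne_zero [CharP K p] {m : ℕ} (hm : m < p) (h : consOK D m = true) {r s u : ℕ}
    (hu : D.chainRoot r s 1 = some u) : (D.chainM r s 1 : K) ≠ 0 := by
  have h1 := (chk_entry h r s).1
  have e1 : D.chainRoot r s 1 = ((D.chainEntry r s)[0]?).map Prod.fst := rfl
  have e2 : D.chainM r s 1 = (((D.chainEntry r s)[0]?).map Prod.snd).getD 0 := rfl
  rw [e1] at hu
  rcases hE : D.chainEntry r s with _ | ⟨q, L⟩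
  · rw [hE] at hu
    simp at hu
  · rw [hE] at h1
    rw [e2, hE, List.getElem?_cons_zero, Option.map_some, Option.getD_some]
    rw [chk1, Bool.and_eq_true] at h1
    exact intCast_ne_zero hm (by simpa using h1.1) (Nat.le_of_ble_eq_true h1.2)

theorem exists_cartan [CharP K p] {m : ℕ} (hm : m < p) (h : cartOK D m = true) {r : ℕ} (hr : r < D.nroots) :
    ∃ i < D.rank, (D.cartan i r : K) ≠ 0 := by
  have h1 := List.all_eq_true.1 h r (List.mem_range.2 hr)
  obtain ⟨i, hi, h2⟩ := List.any_eq_true.1 h1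
  rw [Bool.and_eq_true] at h2
  exact ⟨i, List.mem_range.1 hi, intCast_ne_zero hm (by simpa using h2.1) (Nat.le_of_ble_eq_true h2.2)⟩

end field

end Cfsg.Agent.H650.OT
end

-- part: H650/OT/Mod
section
/-!
# S2539, 0.1: the submodule `L(S)` of the adjoint module (helper650)

`InL S v` : the coordinates of `v` at `e_u`, `u ∉ S`, vanish.
* `GS_le_stab` : for closed `S` the group `G(S)` preserves `L(S)`;
* `mem_of_xG_mem` : `x_r(a) ∈ G(S)`, `a ≠ 0` ⇒ `r ∈ S`.
-/

set_option autoImplicit false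

namespace Cfsg.Agent.H650.OT

open Cfsg Cfsg.Lie Cfsg.Lie.ChevalleyDatum Matrix
open Cfsg.Agent.ChevalleyStructure Cfsg.Agent.ChevalleyStructure.Elts Cfsg.Agent.ChevalleyStructure.RootVec
  Cfsg.Agent.ChevalleyStructure.XColumns
open Cfsg.Agent.H412.OT

universe u

variable {D : ChevalleyDatum} {K : Type u} [Field K]

/-- the vectors of `L(S) = L₀ + ∑_S K e_s` -/
def InL (S : Set ℕ) (v : D.Idx → K) : Prop := ∀ w : Fin D.nroots, (w : ℕ) ∉ S → v (Sum.inr w) = 0

theorem InL.add {S : Set ℕ} {v w : D.Idx → K} (hv : InL S v) (hw : InL S w) : InL S (v + w) := by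
  intro u hu
  rw [Pi.add_apply, hv u hu, hw u hu, add_zero]

theorem InL.smul {S : Set ℕ} {v : D.Idx → K} (a : K) (hv : InL S v) : InL S (a • v) := by
  intro u hu
  rw [Pi.smul_apply, hv u hu, smul_zero]

theorem InL.sub {S : Set ℕ} {v w : D.Idx → K} (hv : InL S v) (hw : InL S w) : InL S (v - w) := by
  intro u hu
  rw [Pi.sub_apply, hv u hu, hw u hu, sub_zero]

theorem inL_ev {S : Set ℕ} {s : ℕ} (hs : s ∈ S) : InL S (ev D K s) := by
  intro u hu
  rw [ev_inr, if_neg]
  rintro rfl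
  exact hu hs

theorem inL_hv {S : Set ℕ} (i : ℕ) : InL S (hv D K i) := fun _ _ => rfl

theorem inL_corv {S : Set ℕ} (i : ℕ) : InL S (corv D K i) := fun _ _ => rfl

theorem inL_listSum {S : Set ℕ} {ι : Type*} (L : List ι) (f : ι → D.Idx → K) (h : ∀ q ∈ L, InL S (f q)) :
    InL S (L.map f).sum := by
  induction L with
  | nil => intro u _; rfl
  | cons a L ih =>
    rw [List.map_cons, List.sum_cons]
    exact (h a List.mem_cons_self).add (ih fun q hq => h q (List.mem_cons_of_mem _ hq))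

theorem row_nodup (hD : InList D) (r : ℕ) : ((XColumns.row D r).map Prod.fst).Nodup := by
  have h := row_pairwise (RootVecTab.checked_of_mem hD) r
  exact h.imp fun hab => ne_of_lt hab

/-- A matrix preserves `L(S)` if it maps the basis vectors of `L(S)` into `L(S)`. -/
theorem inL_mulVec {S : Set ℕ} {M : Matrix D.Idx D.Idx K}
    (h1 : ∀ i < D.rank, InL S (M *ᵥ hv D K i)) (h2 : ∀ s ∈ S, InL S (M *ᵥ ev D K s)) {v : D.Idx → K}
    (hv' : InL S v) : InL S (M *ᵥ v) := by
  intro w hw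
  rw [Matrix.mulVec, dotProduct]
  refine Finset.sum_eq_zero fun b _ => ?_
  rcases b with i | u
  · have h3 := h1 i i.2 w hw
    rw [mulVec_hv _ i.2] at h3
    rw [show (Sum.inl i : D.Idx) = Sum.inl ⟨(i : ℕ), i.2⟩ from rfl, h3, zero_mul]
  · by_cases hu : (u : ℕ) ∈ S
    · have h3 := h2 u hu w hw
      rw [mulVec_ev _ u.2] at h3
      rw [show (Sum.inr u : D.Idx) = Sum.inr ⟨(u : ℕ), u.2⟩ from rfl, h3, zero_mul]
    · rw [hv' u hu, mul_zero]

theorem inL_x (hD : InList D) {m : ℕ} (hm : consOK D m = true) {S : Set ℕ} (hS : S ⊆ {r | r < D.nroots})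
    (hcl : Closed D S) {s : ℕ} (hs : s ∈ S) (t : K) {v : D.Idx → K} (hv' : InL S v) :
    InL S (D.x K s t *ᵥ v) := by
  have hs' : s < D.nroots := hS hs
  have hch := RootVecTab.checked_of_mem hD
  refine inL_mulVec (fun i hi => ?_) (fun u hu => ?_) hv'
  · rw [x_mulVec_hv hs' hi]
    exact (inL_hv i).sub ((inL_ev hs).smul _)
  · have hu' : u < D.nroots := hS hu
    by_cases h1 : u = s
    · subst h1
      rw [x_mulVec_ev_self hs']
      exact inL_ev hs
    by_cases h2 : u = D.neg s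
    · subst h2
      rw [x_mulVec_ev_neg hs' hu' h1]
      exact ((inL_ev hu).add ((inL_corv s).smul _)).sub ((inL_ev hs).smul _)
    · rw [x_mulVec_ev hs' hu' h1 h2 (row_nodup hD s)]
      refine (inL_ev hu).add (inL_listSum _ _ fun q hq => ?_)
      refine (inL_ev ?_).smul _
      obtain ⟨q1, k⟩ := q
      rw [List.mk_mem_zipIdx_iff_getElem?] at hq
      exact mem_of_closed hm hcl hs hu k q1 hq

/-- The stabiliser of `L(S)`. -/
def Stab (D : ChevalleyDatum) (K : Type u) [Field K] (S : Set ℕ) : Subgroup (GL D.Idx K) where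
  carrier := {g | (∀ v, InL S v → InL S ((g : Matrix D.Idx D.Idx K) *ᵥ v)) ∧
    ∀ v, InL S v → InL S (((g⁻¹ : GL D.Idx K) : Matrix D.Idx D.Idx K) *ᵥ v)}
  one_mem' := by
    refine ⟨fun v hv => ?_, fun v hv => ?_⟩
    · rw [Units.val_one, Matrix.one_mulVec]; exact hv
    · rw [inv_one, Units.val_one, Matrix.one_mulVec]; exact hv
  mul_mem' := by
    rintro a b ⟨ha, ha'⟩ ⟨hb, hb'⟩
    refine ⟨fun v hv => ?_, fun v hv => ?_⟩
    · rw [Units.val_mul, ← Matrix.mulVec_mulVec]; exact ha _ (hb _ hv)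
    · rw [_root_.mul_inv_rev, Units.val_mul, ← Matrix.mulVec_mulVec]; exact hb' _ (ha' _ hv)
  inv_mem' := by
    rintro a ⟨ha, ha'⟩
    refine ⟨ha', fun v hv => ?_⟩
    rw [inv_inv]
    exact ha v hv

theorem GS_le_stab (hD : InList D) {m : ℕ} (hm : consOK D m = true) {S : Set ℕ} (hS : S ⊆ {r | r < D.nroots})
    (hcl : Closed D S) : GS D K S ≤ Stab D K S := by
  refine sup_le ?_ (iSup₂_le fun s hs => ?_)
  · have key : ∀ t ∈ D.diagonalSubgroup K, ∀ v : D.Idx → K, InL S v →
        InL S ((t : Matrix D.Idx D.Idx K) *ᵥ v) := by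
      intro t ht v hv w hw
      rw [coe_tor hD ht, Matrix.mulVec_diagonal, hv w hw, mul_zero]
    exact fun t ht => ⟨key t ht, key t⁻¹ (inv_mem ht)⟩
  · intro g hg
    obtain ⟨a, rfl⟩ := (mem_rootSubgroup_iff hD s g).1 hg
    refine ⟨fun v hv => ?_, fun v hv => ?_⟩
    · rw [coe_xG]
      exact inL_x hD hm hS hcl hs a hv
    · rw [xG_inv, coe_xG]
      exact inL_x hD hm hS hcl hs _ hv

/-- **`x_r(a) ∈ G(S)` with `a ≠ 0` only for `r ∈ S`.** -/
theorem mem_of_xG_mem [Fintype K] {p : ℕ} [Fact p.Prime] [CharP K p] (h : Hyp K p D) {S : Set ℕ}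
    (hS : S ⊆ {r | r < D.nroots}) (hcl : Closed D S) {r : ℕ} (hr : r < D.nroots) {a : K} (ha : a ≠ 0)
    (hx : xG h.inList r a ∈ GS D K S) : r ∈ S := by
  obtain ⟨m, hmp, hm, hm'⟩ := exists_bound h
  obtain ⟨i, hi, hc⟩ := exists_cartan (K := K) hmp hm' hr
  have h1 := (GS_le_stab h.inList hm hS hcl hx).1 (hv D K i) (inL_hv i)
  rw [coe_xG, x_mulVec_hv hr hi] at h1
  by_contra hcon
  have h2 := h1 ⟨r, hr⟩ hcon
  rw [Pi.sub_apply, hv_inr, Pi.smul_apply, ev_inr, if_pos rfl, smul_eq_mul, mul_one, zero_sub,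
    neg_eq_zero] at h2
  exact mul_ne_zero hc ha h2

theorem mem_of_root_le [Fintype K] {p : ℕ} [Fact p.Prime] [CharP K p] (h : Hyp K p D) {S : Set ℕ}
    (hS : S ⊆ {r | r < D.nroots}) (hcl : Closed D S) {r : ℕ} (hr : r < D.nroots)
    (hx : D.rootSubgroup K r ≤ GS D K S) : r ∈ S :=
  mem_of_xG_mem h hS hcl hr one_ne_zero (hx (xG_mem_rootSubgroup h.inList r 1))

end Cfsg.Agent.H650.OT
end

-- part: H650/OT/SFC
section
/-!
# S2539, 0.2: `S_F` is closed (helper650)
-/

set_option autoImplicit false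

namespace Cfsg.Agent.H650.OT

open Cfsg Cfsg.Lie Cfsg.Lie.ChevalleyDatum CoxeterSystem
open Cfsg.Agent.ChevalleyStructure Cfsg.Agent.ChevalleyStructure.Elts Cfsg.Agent.ChevalleyStructure.RootVec
open Cfsg.Agent.ChevalleyStructure.RootVecTab (Checked)
open Cfsg.Agent.Tits.Roots Cfsg.Agent.Tits.Core Cfsg.Agent.Nodes.RGDChev Cfsg.Agent.Nodes.BNOf
open Cfsg.Agent.ChevalleyStructure.CoxeterGeom
open Cfsg.Agent.H412.OT Cfsg.Agent.H460.OT
open scoped commutatorElement

universe u

variable {D : ChevalleyDatum} {K : Type u} [Field K]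

/-- the roots `i r + j s`, `i, j ≥ 1`, `i + j ≥ n` -/
def Rn (D : ChevalleyDatum) (r s n : ℕ) : Set ℕ :=
  {k | k < D.nroots ∧ ∃ i j : ℕ, 1 ≤ i ∧ 1 ≤ j ∧ n ≤ i + j ∧ ∀ a, rt D k a = i * rt D r a + j * rt D s a}

theorem Rn_sub (r s n : ℕ) : Rn D r s n ⊆ {r | r < D.nroots} := fun _ hk => hk.1

theorem Rn_closed (hch : Checked D) (r s n : ℕ) : Closed D (Rn D r s n) := by
  rintro k ⟨hk, i, j, hi, hj, hn, he⟩ k' ⟨hk', i', j', hi', hj', hn', he'⟩ u hu
  obtain ⟨h1, -, -, h2⟩ := chainRoot_rt hch le_rfl hu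
  refine ⟨h1, i + i', j + j', by omega, by omega, by omega, fun a => ?_⟩
  rw [h2, he, he']
  push_cast
  ring

/-- The commutator word: first term and the rest. -/
theorem commTerms_cons {r s u : ℕ} (hu : D.chainRoot r s 1 = some u) :
    ∃ R : List (ℕ × ℤ × ℕ × ℕ), D.commTerms r s = (u, D.chainM r s 1, 1, 1) :: R ∧
      ∀ c ∈ R, 3 ≤ c.2.2.1 + c.2.2.2 := by
  have hdef : D.commTerms r s = ([ (D.chainRoot r s 1, D.chainM r s 1, 1, 1),
      (D.chainRoot r s 2, D.chainM r s 2, 2, 1),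
      (D.chainRoot s r 2, D.chainM s r 2, 1, 2),
      (D.chainRoot r s 3, D.chainM r s 3, 3, 1),
      (D.chainRoot s r 3, - D.chainM s r 3, 1, 3),
      ((D.chainRoot r s 3).bind fun k => D.chainRoot k s 1, ((D.chainRoot r s 1).map fun k => D.chainM k r 2 / 3).getD 0, 3, 2),
      ((D.chainRoot s r 3).bind fun k => D.chainRoot k r 1, ((D.chainRoot r s 1).map fun k => -2 * D.chainM k s 2 / 3).getD 0, 2, 3) ] :
      List (Option ℕ × ℤ × ℕ × ℕ)).filterMap fun c => c.1.map fun k => (k, c.2) := rfl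
  rw [hdef, List.filterMap_cons_some (b := (u, D.chainM r s 1, 1, 1)) (by rw [hu]; rfl)]
  refine ⟨_, rfl, ?_⟩
  intro c hc
  rw [List.mem_filterMap] at hc
  obtain ⟨c', hc', he⟩ := hc
  rw [Option.map_eq_some_iff] at he
  obtain ⟨k, -, rfl⟩ := he
  simp only [List.mem_cons, List.mem_nil_iff, or_false] at hc'
  rcases hc' with rfl | rfl | rfl | rfl | rfl | rfl <;> norm_num

variable [Fintype K] {p : ℕ} [Fact p.Prime] [CharP K p]

/-- **`S_F` is closed.** -/
theorem SF_closed (h : Hyp K p D) {F : Subgroup (GL D.Idx K)}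
    (hFG : F ≤ D.group K) : Closed D (SF D K F) := by
  intro r hr s hs u hu
  have hD := h.inList
  have hD7 : D ∈ [chevG2, chevB2, chevD4, chevF4, chevE6, chevE7, chevE8] := by
    have := h.mem
    simp only [List.mem_cons, List.not_mem_nil, or_false] at this ⊢
    tauto
  have hK : 13 ≤ Nat.card K := by rw [Nat.card_eq_fintype_card]; exact h.card
  have hch : Checked D := RootVecTab.checked_of_mem hD
  obtain ⟨l, M, hp⟩ := exists_type hD7
  have hfin : Finite M.Group := finite_W hp M.toCoxeterSystem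
  obtain ⟨hu1, hr1, hs1, hu2⟩ := chainRoot_rt hch le_rfl hu
  obtain ⟨m, hmp, hm, hm'⟩ := exists_bound h
  by_contra hcon
  -- `s ≠ ± r`
  have hrr := isRoot_vec hp M.toCoxeterSystem hr1
  have hsr := isRoot_vec hp M.toCoxeterSystem hs1
  have hur := isRoot_vec hp M.toCoxeterSystem hu1
  have hvu : vec D l u = vec D l r + vec D l s := by
    funext a
    rw [Pi.add_apply, vec_apply, vec_apply, vec_apply, hu2]
    push_cast
    ring
  have hne : s ≠ r := by
    rintro rfl
    have h1 : vec D l u = (2 : ℤ) • vec D l s := by rw [hvu, two_smul]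
    have h2 := isUnit_of_smul M.toCoxeterSystem hp.isCartan hur 2 h1
    rw [Int.isUnit_iff] at h2
    omega
  have hneg : vec D l r ≠ -vec D l s := by
    intro h1
    apply hur.ne_zero
    rw [hvu, h1, neg_add_cancel]
  have hneg' : s ≠ D.neg r := by
    rintro rfl
    apply hneg
    rw [vec_neg hp hr1, _root_.neg_neg]
  -- the p-group
  have R := rgd_GL (K := K) hp M.toCoxeterSystem p
  let Q : Subgroup (GL D.Idx K) := D.rootSubgroup K r ⊔ D.rootSubgroup K s
  have hQp : IsPGroup p ↥Q := by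
    have h1 := Cfsg.Agent.Nodes.PosPair.isPGroup_pair R hrr hsr hneg
    refine h1.to_le ?_
    rw [XV_vec hp K hr1, XV_vec hp K hs1]
    exact le_sup_left
  have hQF : Q ≤ F := sup_le hr.2 hs.2
  have hTX : ∀ k, k < D.nroots → ∀ t ∈ D.diagonalSubgroup K, ∀ x ∈ D.rootSubgroup K k,
      t * x * t⁻¹ ∈ D.rootSubgroup K k := fun k hk t ht x hx => tor_conj_root hD ht hk hx
  have hnorm : ∀ (S : Set ℕ), S ⊆ {r | r < D.nroots} → ∀ t ∈ D.diagonalSubgroup K,
      ∀ x ∈ (⨆ k ∈ S, D.rootSubgroup K k : Subgroup (GL D.Idx K)),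
      t * x * t⁻¹ ∈ (⨆ k ∈ S, D.rootSubgroup K k : Subgroup (GL D.Idx K)) := by
    intro S hS t ht x hx
    have h1 : (⨆ k ∈ S, D.rootSubgroup K k : Subgroup (GL D.Idx K)) ≤
        (⨆ k ∈ S, D.rootSubgroup K k : Subgroup (GL D.Idx K)).comap (MulAut.conj t).toMonoidHom := by
      refine iSup₂_le fun k hk => ?_
      intro y hy
      exact (le_iSup₂ (f := fun k (_ : k ∈ S) => D.rootSubgroup K k) k hk)
        (hTX k (hS hk) t ht y hy)
    exact h1 hx
  let V : Subgroup (GL D.Idx K) := ⨆ k ∈ Rn D r s 2, D.rootSubgroup K k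
  let P : Subgroup (GL D.Idx K) := Q ⊓ V
  have hQsup : Q = (⨆ k ∈ ({r, s} : Set ℕ), D.rootSubgroup K k : Subgroup (GL D.Idx K)) := by
    rw [iSup_pair]
  have hPn : D.diagonalSubgroup K ≤ Subgroup.normalizer (P : Set (GL D.Idx K)) := by
    have h1 : ∀ t ∈ D.diagonalSubgroup K, ∀ x ∈ P, t * x * t⁻¹ ∈ P := by
      rintro t ht x ⟨hx1, hx2⟩
      refine ⟨?_, hnorm _ (Rn_sub r s 2) t ht x hx2⟩
      have h2 : x ∈ (⨆ k ∈ ({r, s} : Set ℕ), D.rootSubgroup K k : Subgroup (GL D.Idx K)) := by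
        rw [← hQsup]; exact hx1
      have h3 := hnorm {r, s} (by
        rintro k (rfl | hk)
        · exact hr1
        · rw [Set.mem_singleton_iff] at hk; rw [hk]; exact hs1) t ht x h2
      rw [← hQsup] at h3
      exact h3
    intro t ht
    rw [Subgroup.mem_normalizer_iff]
    intro x
    constructor
    · exact h1 t ht x
    · intro hx
      have h2 := h1 t⁻¹ (inv_mem ht) _ hx
      have h3 : t⁻¹ * (t * x * t⁻¹) * t⁻¹⁻¹ = x := by group
      rwa [h3] at h2
  have hPG : P ≤ D.group K := (inf_le_left.trans hQF).trans hFG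
  have hC1 := inv_pgroup (p := p) hD7 hK hPG (hQp.to_le inf_le_left) hPn
  -- the roots in `P`
  have hP3 : P ≤ GS D K (Rn D r s 3) := by
    rw [hC1]
    refine iSup₂_le fun k hk => ?_
    have hk2 : k ∈ Rn D r s 2 := by
      refine mem_of_root_le h (Rn_sub r s 2) (Rn_closed hch r s 2) hk.1 ?_
      exact (hk.2.trans inf_le_right).trans le_sup_right
    obtain ⟨hk1, i, j, hi, hj, hij, he⟩ := hk2
    have hk3 : k ∈ Rn D r s 3 := by
      refine ⟨hk1, i, j, hi, hj, ?_, he⟩
      by_contra hij3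
      have hi1 : i = 1 := by omega
      have hj1 : j = 1 := by omega
      subst hi1 hj1
      have hku : k = u := rt_inj hch hk1 hu1 (fun a _ => by rw [he, hu2]; push_cast; ring)
      subst hku
      exact hcon ⟨hk1, (hk.2.trans inf_le_left).trans hQF⟩
    exact (le_iSup₂ (f := fun k (_ : k ∈ Rn D r s 3) => D.rootSubgroup K k) k hk3).trans le_sup_right
  -- the commutator
  obtain ⟨L, hL, hL3⟩ := commTerms_cons (D := D) hu
  have hcomm := comm_xG hp (K := K) hr1 hs1 hne hneg' 1 1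
  have hword : D.commWord K r s 1 1 = (u, (D.chainM r s 1 : K) * (-1) ^ 1 * 1 ^ 1) ::
      L.map (fun c => (c.1, (c.2.1 : K) * (-1) ^ c.2.2.1 * 1 ^ c.2.2.2)) := by
    have hdef : D.commWord K r s 1 1 =
      (D.commTerms r s).map fun c => (c.1, (c.2.1 : K) * (-1) ^ c.2.2.1 * 1 ^ c.2.2.2) := rfl
    rw [hdef, hL, List.map_cons]
  have hrest : wordG hp.inList (L.map (fun c => (c.1, (c.2.1 : K) * (-1) ^ c.2.2.1 * 1 ^ c.2.2.2))) ∈
      (⨆ k ∈ Rn D r s 3, D.rootSubgroup K k : Subgroup (GL D.Idx K)) := by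
    refine wordG_mem hp _ _ ?_
    intro c hc
    rw [List.mem_map] at hc
    obtain ⟨⟨k, C, i, j⟩, hc, rfl⟩ := hc
    have h1 : (k, C, i, j) ∈ D.commTerms r s := by rw [hL]; exact List.mem_cons_of_mem _ hc
    obtain ⟨h2, -, -, h3, h4, h5⟩ := commTerms_rt hch h1
    exact (le_iSup₂ (f := fun k (_ : k ∈ Rn D r s 3) => D.rootSubgroup K k) k
      ⟨h2, i, j, h3, h4, hL3 _ hc, h5⟩) (xG_mem_rootSubgroup hp.inList k _)
  have hR32 : Rn D r s 3 ⊆ Rn D r s 2 := by
    rintro k ⟨h1, i, j, h2, h3, h4, h5⟩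
    exact ⟨h1, i, j, h2, h3, by omega, h5⟩
  have hu2' : u ∈ Rn D r s 2 := ⟨hu1, 1, 1, le_rfl, le_rfl, le_rfl, fun a => by rw [hu2]; push_cast; ring⟩
  have hle32 : (⨆ k ∈ Rn D r s 3, D.rootSubgroup K k : Subgroup (GL D.Idx K)) ≤ V :=
    iSup₂_le fun k hk => le_iSup₂ (f := fun k (_ : k ∈ Rn D r s 2) => D.rootSubgroup K k) k (hR32 hk)
  have hyP : ⁅(xG hp.inList s (1 : K))⁻¹, (xG hp.inList r (1 : K))⁻¹⁆ ∈ P := by
    refine ⟨?_, ?_⟩
    · have a1 : xG hp.inList r (1 : K) ∈ Q :=
        (le_sup_left : D.rootSubgroup K r ≤ Q) (xG_mem_rootSubgroup hp.inList r 1)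
      have a2 : xG hp.inList s (1 : K) ∈ Q :=
        (le_sup_right : D.rootSubgroup K s ≤ Q) (xG_mem_rootSubgroup hp.inList s 1)
      rw [commutatorElement_def]
      exact Q.mul_mem (Q.mul_mem (Q.mul_mem (Q.inv_mem a2) (Q.inv_mem a1)) (Q.inv_mem (Q.inv_mem a2)))
        (Q.inv_mem (Q.inv_mem a1))
    · rw [hcomm, hword, wordG_cons]
      exact mul_mem ((le_iSup₂ (f := fun k (_ : k ∈ Rn D r s 2) => D.rootSubgroup K k) u hu2')
        (xG_mem_rootSubgroup hp.inList u _)) (hle32 hrest)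
  have hy3 := hP3 hyP
  rw [hcomm, hword, wordG_cons] at hy3
  have hxu : xG hp.inList u ((D.chainM r s 1 : K) * (-1) ^ 1 * 1 ^ 1) ∈ GS D K (Rn D r s 3) := by
    have h1 := (le_sup_right : (⨆ k ∈ Rn D r s 3, D.rootSubgroup K k : Subgroup (GL D.Idx K)) ≤
      GS D K (Rn D r s 3)) hrest
    have h2 := mul_mem hy3 (inv_mem h1)
    rwa [mul_inv_cancel_right] at h2
  have hu3 := mem_of_xG_mem h (Rn_sub r s 3) (Rn_closed hch r s 3) hu1 (by
    have := chainM_ne_zero (K := K) hmp hm hu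
    simpa using this) hxu
  -- heights
  obtain ⟨-, i, j, hi, hj, hij, he⟩ := hu3
  obtain ⟨w, hw1, hw2⟩ := Cfsg.Agent.Nodes.PosPair.exists_pos_pair M.toCoxeterSystem hp.isCartan hrr hsr hneg
  have hvu2 : vec D l u = (i : ℤ) • vec D l r + (j : ℤ) • vec D l s := by
    funext a
    rw [Pi.add_apply, Pi.smul_apply, Pi.smul_apply, vec_apply, vec_apply, vec_apply, he, smul_eq_mul,
      smul_eq_mul]
  have hpos : ∀ x : Fin l → ℤ, IsRoot M.toCoxeterSystem hp.isCartan x →
      0 ≤ rep M.toCoxeterSystem hp.isCartan w x → 0 < ht (rep M.toCoxeterSystem hp.isCartan w x) := by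
    intro x hx h0
    have hne0 := (hx.act w).ne_zero
    unfold ht
    refine lt_of_le_of_ne (Finset.sum_nonneg fun k _ => h0 k) (fun h1 => hne0 ?_)
    funext k
    exact (Finset.sum_eq_zero_iff_of_nonneg fun k _ => h0 k).1 h1.symm k (Finset.mem_univ k)
  have hh1 := hpos _ hrr hw1
  have hh2 := hpos _ hsr hw2
  have hta : ∀ x y : Fin l → ℤ, ht (x + y) = ht x + ht y := fun x y => by
    unfold ht; rw [← Finset.sum_add_distrib]; rfl
  have hts : ∀ (c : ℤ) (x : Fin l → ℤ), ht (c • x) = c * ht x := fun c x => by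
    unfold ht; rw [Finset.mul_sum]; rfl
  have h5 : ht (rep M.toCoxeterSystem hp.isCartan w (vec D l r)) +
      ht (rep M.toCoxeterSystem hp.isCartan w (vec D l s)) =
      (i : ℤ) * ht (rep M.toCoxeterSystem hp.isCartan w (vec D l r)) +
      (j : ℤ) * ht (rep M.toCoxeterSystem hp.isCartan w (vec D l s)) := by
    rw [← hta, ← map_add, ← hvu, hvu2, map_add, map_smul, map_smul, hta, hts, hts]
  have hi' : (1 : ℤ) ≤ i := by exact_mod_cast hi
  have hj' : (1 : ℤ) ≤ j := by exact_mod_cast hj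
  have hij' : (3 : ℤ) ≤ (i : ℤ) + j := by exact_mod_cast hij
  rcases (show (2 : ℤ) ≤ i ∨ (2 : ℤ) ≤ j by omega) with h6 | h6
  · nlinarith
  · nlinarith

end Cfsg.Agent.H650.OT
end

private theorem dce_b174b5f5de2f : _root_.True := by
  try have : _root_.True := by simp only [_root_.Cfsg.Agent.H650.OT.chk2.eq_2]
  try have : _root_.True := by simp only [_root_.Cfsg.Agent.H650.OT.chk2.eq_3]
  try have : _root_.True := by simp only [_root_.Cfsg.Agent.H650.OT.chk1.eq_1]
  try have : _root_.True := by simp only [_root_.Cfsg.Agent.H650.OT.chk2.eq_def]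
  try have : _root_.True := by simp only [_root_.Cfsg.Agent.H650.OT.chk2.eq_1]
  try have : _root_.True := by simp only [_root_.Cfsg.Agent.H650.OT.chk1.eq_2]
  exact _root_.True.intro
end

-- part: H650/OT/Asm
section
set_option linter.all false
open scoped Cfsg.Agent.FastGrp

/-!
# S2539: assembly (helper650)

* `pr_self` : `⟨r, r^∨⟩ = 2`;
* `std_of_good` : a good overgroup of `T` is standard;
* `s2539_of` : if there is no least bad overgroup of `T`, then S2539 holds.
-/

set_option autoImplicit false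

namespace Cfsg.Agent.H650.OT

open Cfsg Cfsg.Lie Cfsg.Lie.ChevalleyDatum
open Cfsg.Agent.ChevalleyStructure Cfsg.Agent.ChevalleyStructure.Elts
open Cfsg.Agent.H412.OT

universe u

variable {D : ChevalleyDatum} {K : Type u} [Field K]

theorem pr_self (h : D ∈ [chevG2, chevD4, chevF4, chevE6, chevE7, chevE8]) {r : ℕ} (hr : r < D.nroots) :
    pr D r r = 2 :=
  (StringMem.rootOK_of_mem (inList_of_mem h) hr).cartan_self

variable [Fintype K] {p : ℕ} [Fact p.Prime] [CharP K p]

theorem exists_sq_ne (hK : 13 ≤ Fintype.card K) : ∃ c : K, c ≠ 0 ∧ c ^ (2 : ℤ) ≠ 1 := by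
  classical
  by_contra hcon
  push Not at hcon
  have h1 : (Finset.univ : Finset K) ⊆ {0, 1, -1} := by
    intro c _
    by_cases hc : c = 0
    · simp [hc]
    · have h2 := hcon c hc
      have h3 : c ^ 2 = 1 := by exact_mod_cast h2
      rcases eq_or_eq_neg_of_sq_eq_sq c 1 (by rw [h3, one_pow]) with h4 | h4 <;> simp [h4]
  have h2 := Finset.card_le_card h1
  rw [Finset.card_univ] at h2
  have h3 : ({0, 1, -1} : Finset K).card ≤ 3 := Finset.card_le_three
  omega

/-- **A good overgroup of `T` is standard.** -/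
theorem std_of_good (h : Hyp K p D) {F : Subgroup (GL D.Idx K)} (hTF : D.diagonalSubgroup K ≤ F)
    (hFG : F ≤ D.group K) (hg : Good D K F) : Std D K F := by
  have hD := h.inList
  have hnT : F ⊓ Subgroup.normalizer (D.diagonalSubgroup K : Set (GL D.Idx K)) ≤
      Subgroup.normalizer (GS D K (SF D K F) : Set (GL D.Idx K)) := by
    have key : ∀ g ∈ F ⊓ Subgroup.normalizer (D.diagonalSubgroup K : Set (GL D.Idx K)),
        ∀ x ∈ GS D K (SF D K F), g * x * g⁻¹ ∈ GS D K (SF D K F) := by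
      intro g hg x hx
      have h1 : GS D K (SF D K F) ≤ (GS D K (SF D K F)).comap (MulAut.conj g).toMonoidHom := by
        refine sup_le ?_ ?_
        · intro t ht
          exact (le_sup_left : D.diagonalSubgroup K ≤ GS D K (SF D K F))
            ((Subgroup.mem_normalizer_iff.1 hg.2 t).1 ht)
        · intro y hy
          exact (le_sup_right : DF D K F ≤ GS D K (SF D K F))
            ((Subgroup.mem_normalizer_iff.1 (H274.OT.norm_le_normalizer_DF h hFG hg) y).1 hy)
      exact h1 hx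
    intro g hg
    rw [Subgroup.mem_normalizer_iff]
    intro x
    refine ⟨key g hg x, fun hx => ?_⟩
    have h2 := key g⁻¹ (inv_mem hg) _ hx
    have h3 : g⁻¹ * (g * x * g⁻¹) * g⁻¹⁻¹ = x := by group
    rwa [h3] at h2
  refine ⟨SF D K F, ⟨fun r hr => hr.1, SF_closed h hFG, sup_le hTF (DF_le F), ?_⟩, ?_⟩
  · intro x hx
    obtain ⟨d, hd, n, hn, hn', rfl⟩ := hg x hx
    exact mul_mem (Subgroup.le_normalizer ((le_sup_right : DF D K F ≤ GS D K (SF D K F)) hd)) (hnT ⟨hn, hn'⟩)
  · rintro S' ⟨hS1, hS2, hS3, hS4⟩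
    apply Set.Subset.antisymm
    · intro r hr
      exact ⟨hS1 hr, ((le_iSup₂ (f := fun r (_ : r ∈ S') => D.rootSubgroup K r) r hr).trans
        le_sup_right).trans hS3⟩
    · intro r hr
      obtain ⟨c, hc0, hc⟩ := exists_sq_ne h.card
      have ht : hG hD r c ∈ GS D K S' := (le_sup_left : D.diagonalSubgroup K ≤ GS D K S') (hG_mem hD hr.1 hc0)
      have hx : xG hD r (1 : K) ∈ F := hr.2 (xG_mem_rootSubgroup hD r 1)
      have h1 : xG hD r (1 : K) * hG hD r c * (xG hD r (1 : K))⁻¹ ∈ GS D K S' :=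
        (Subgroup.mem_normalizer_iff.1 (hS4 hx) _).1 ht
      have h2 := mul_mem h1 (inv_mem ht)
      have h3 : xG hD r (1 : K) * hG hD r c * (xG hD r (1 : K))⁻¹ * (hG hD r c)⁻¹ =
          xG hD r (1 - c ^ (2 : ℤ)) := by
        have h4 : hG hD r c * (xG hD r (1 : K))⁻¹ * (hG hD r c)⁻¹ = xG hD r (-(c ^ (2 : ℤ))) := by
          rw [xG_inv, hG_conj_xG hD hr.1 hr.1 hc0, pr_self h.mem hr.1]
          congr 1
          ring
        rw [sub_eq_add_neg, ← xG_add, ← h4]
        group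
      rw [h3] at h2
      exact mem_of_xG_mem h hS1 hS2 hr.1 (sub_ne_zero.2 (Ne.symm hc)) h2

/-- **S2539 from "there is no least bad overgroup of `T`".** -/
theorem s2539_of (h : Hyp K p D) (hmb : ∀ F₀ : Subgroup (GL D.Idx K), ¬ MinBad D K F₀)
    (F : Subgroup (GL D.Idx K)) (hTF : D.diagonalSubgroup K ≤ F) (hFG : F ≤ D.group K) :
    ∃! S : Set ℕ, S ⊆ {r | r < D.nroots} ∧ (∀ r ∈ S, ∀ s ∈ S, ∀ u, D.chainRoot r s 1 = some u → u ∈ S) ∧
      (D.diagonalSubgroup K ⊔ ⨆ r ∈ S, D.rootSubgroup K r) ≤ F ∧ F ≤ Subgroup.normalizer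
        ((D.diagonalSubgroup K ⊔ ⨆ r ∈ S, D.rootSubgroup K r : Subgroup (GL D.Idx K)) : Set (GL D.Idx K)) :=
  (Std_iff F).1 (std_of_good h hTF hFG (H274.OT.good_of_no_minBad hmb hTF hFG))

end Cfsg.Agent.H650.OT

private theorem dce_27c52f83c192 : _root_.True := by
  try have : _root_.True := by simp only [_root_.Cfsg.Agent.H412.OT.pr.eq_1]
  try have : _root_.True := by simp only [_root_.Cfsg.Agent.H650.OT.prOK.eq_1]
  exact _root_.True.intro
end

-- part: H194/OT/RankOneChev
section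
prune_inst 0x34300100542210000000000020003c26fc0005920068080008c008440148af620040292004a01014122a2608000000600010007000200000000004000004040100880006b0480000000006000084000000000000000000000000000000000004200000000
set_option linter.all false
open scoped Cfsg.Agent.FastGrp

-- part: H194/OT/RankOne
section
/-!
# S2539, part 2.4: overgroups of a split torus in a group of rank one

`rank_one`: `φ : SL₂(K) → G`, `T` a subgroup of `G` acting on `φ(up u)`, `φ(lo u)` through all the scalars `c`, `c⁻¹`,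
containing `φ(diag(c, c⁻¹))` and normalized by `φ(0 1; -1 0)`.  If `T ≤ F ≤ ⟨T, φ(SL₂(K))⟩`, `|K| ≥ 6` and `F` contains
neither all the `φ(up u)` nor all the `φ(lo u)`, then `F` normalizes `T`.
-/

set_option autoImplicit false

namespace Cfsg.Agent.H194.OT

open Matrix
open Cfsg.Agent.ChevalleyStructure.SL2Hom (up lo mem_closure_SL2)

variable {K : Type*} [Field K] {G : Type*} [Group G]

local notation "SL2" => Matrix.SpecialLinearGroup (Fin 2)

/-- an element of `SL₂` by its entries -/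
def mk2 (a b c d : K) (h : a * d - b * c = 1) : SL2 K := ⟨!![a, b; c, d], by rw [det_fin_two_of]; exact h⟩

theorem ext2 {A B : SL2 K} (h00 : A.1 0 0 = B.1 0 0) (h01 : A.1 0 1 = B.1 0 1) (h10 : A.1 1 0 = B.1 1 0)
    (h11 : A.1 1 1 = B.1 1 1) : A = B := by
  apply Subtype.ext
  ext i j
  fin_cases i <;> fin_cases j
  · exact h00
  · exact h01
  · exact h10
  · exact h11

theorem mul2 (A B : SL2 K) (i j : Fin 2) : (A * B).1 i j = A.1 i 0 * B.1 0 j + A.1 i 1 * B.1 1 j := by
  show (A.1 * B.1) i j = _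
  rw [Matrix.mul_apply, Fin.sum_univ_two]

theorem det2 (A : SL2 K) : A.1 0 0 * A.1 1 1 - A.1 0 1 * A.1 1 0 = 1 := by
  rw [← det_fin_two]
  exact A.2

/-- the diagonal element of `SL₂` -/
def hd (c : Kˣ) : SL2 K := mk2 (c : K) 0 0 ((c⁻¹ : Kˣ) : K) (by simp)

/-- the antidiagonal element of `SL₂` -/
def wd : SL2 K := mk2 0 1 (-1) 0 (by simp)

/-- `t` acts on the root elements by the scalar `c` -/
def Act (φ : SL2 K →* G) (t : G) (c : Kˣ) : Prop :=
  (∀ u : K, t * φ (up u) * t⁻¹ = φ (up (c * u))) ∧ ∀ u : K, t * φ (lo u) * t⁻¹ = φ (lo (((c⁻¹ : Kˣ) : K) * u))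

variable {φ : SL2 K →* G}

theorem Act.mul {t t' : G} {c c' : Kˣ} (h : Act φ t c) (h' : Act φ t' c') : Act φ (t * t') (c * c') := by
  constructor
  · intro u
    have : t * t' * φ (up u) * (t * t')⁻¹ = t * (t' * φ (up u) * t'⁻¹) * t⁻¹ := by group
    rw [this, h'.1, h.1, Units.val_mul, mul_assoc]
  · intro u
    have : t * t' * φ (lo u) * (t * t')⁻¹ = t * (t' * φ (lo u) * t'⁻¹) * t⁻¹ := by group
    rw [this, h'.2, h.2, mul_inv, Units.val_mul, mul_assoc]

theorem cancel (c : Kˣ) : (c : K) * ((c⁻¹ : Kˣ) : K) = 1 := Units.mul_inv c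

/-- conjugation by a diagonal matrix -/
def cj (c : Kˣ) : SL2 K →* SL2 K where
  toFun A := mk2 (A.1 0 0) ((c : K) * A.1 0 1) (((c⁻¹ : Kˣ) : K) * A.1 1 0) (A.1 1 1) (by
    linear_combination det2 A - (A.1 0 1 * A.1 1 0) * cancel c)
  map_one' := ext2 rfl (by show (c : K) * 0 = 0; ring) (by show ((c⁻¹ : Kˣ) : K) * 0 = 0; ring) rfl
  map_mul' A B := by
    apply ext2
    · show (A * B).1 0 0 = _
      rw [mul2, mul2]
      show _ = A.1 0 0 * B.1 0 0 + ((c : K) * A.1 0 1) * (((c⁻¹ : Kˣ) : K) * B.1 1 0)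
      linear_combination -(A.1 0 1 * B.1 1 0) * cancel c
    · show (c : K) * (A * B).1 0 1 = _
      rw [mul2, mul2]
      show _ = A.1 0 0 * ((c : K) * B.1 0 1) + ((c : K) * A.1 0 1) * B.1 1 1
      ring
    · show ((c⁻¹ : Kˣ) : K) * (A * B).1 1 0 = _
      rw [mul2, mul2]
      show _ = (((c⁻¹ : Kˣ) : K) * A.1 1 0) * B.1 0 0 + A.1 1 1 * (((c⁻¹ : Kˣ) : K) * B.1 1 0)
      ring
    · show (A * B).1 1 1 = _
      rw [mul2, mul2]
      show _ = (((c⁻¹ : Kˣ) : K) * A.1 1 0) * ((c : K) * B.1 0 1) + A.1 1 1 * B.1 1 1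
      linear_combination -(A.1 1 0 * B.1 0 1) * cancel c

theorem Act.conj {t : G} {c : Kˣ} (h : Act φ t c) (A : SL2 K) : t * φ A * t⁻¹ = φ (cj c A) := by
  have hA := mem_closure_SL2 A
  induction hA using Subgroup.closure_induction with
  | mem x hx =>
    rcases hx with ⟨u, rfl⟩ | ⟨u, rfl⟩
    · rw [h.1]
      congr 1
      exact ext2 rfl rfl (by show (0 : K) = ((c⁻¹ : Kˣ) : K) * 0; ring) rfl
    · rw [h.2]
      congr 1
      exact ext2 rfl (by show (0 : K) = (c : K) * 0; ring) rfl rfl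
  | one => rw [map_one, map_one, map_one, mul_one, mul_inv_cancel]
  | mul x y _ _ hx hy =>
    rw [map_mul, map_mul, map_mul, ← hx, ← hy]
    group
  | inv x _ hx =>
    rw [map_inv, map_inv, map_inv, ← hx]
    group

/-- `g = φ(A) t` and `(a b; c d) = A diag(s, 1)` -/
def Rel (φ : SL2 K →* G) (T : Subgroup G) (g : G) (a b c d : K) : Prop :=
  ∃ (A : SL2 K) (t : G) (s : Kˣ), t ∈ T ∧ Act φ t s ∧ g = φ A * t ∧ a = A.1 0 0 * s ∧ b = A.1 0 1 ∧
    c = A.1 1 0 * s ∧ d = A.1 1 1

variable {T F : Subgroup G}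

theorem Rel.mul {g g' : G} {a b c d a' b' c' d' : K} (h : Rel φ T g a b c d) (h' : Rel φ T g' a' b' c' d') :
    Rel φ T (g * g') (a * a' + b * c') (a * b' + b * d') (c * a' + d * c') (c * b' + d * d') := by
  obtain ⟨A, t, s, ht, hs, h88⟩ := h
  revert h88; rintro ⟨rfl, rfl, rfl, rfl, rfl⟩
  obtain ⟨A', t', s', ht', hs', h88⟩ := h'
  revert h88; rintro ⟨rfl, rfl, rfl, rfl, rfl⟩
  refine ⟨A * cj s A', t * t', s * s', T.mul_mem ht ht', hs.mul hs', ?_, ?_, ?_, ?_, ?_⟩
  · rw [map_mul, ← hs.conj]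
    group
  · rw [mul2, Units.val_mul]
    show _ = (A.1 0 0 * A'.1 0 0 + A.1 0 1 * (((s⁻¹ : Kˣ) : K) * A'.1 1 0)) * (s * s')
    linear_combination -(A.1 0 1 * A'.1 1 0 * s') * cancel s
  · rw [mul2]
    show _ = A.1 0 0 * ((s : K) * A'.1 0 1) + A.1 0 1 * A'.1 1 1
    ring
  · rw [mul2, Units.val_mul]
    show _ = (A.1 1 0 * A'.1 0 0 + A.1 1 1 * (((s⁻¹ : Kˣ) : K) * A'.1 1 0)) * (s * s')
    linear_combination -(A.1 1 1 * A'.1 1 0 * s') * cancel s
  · rw [mul2]
    show _ = A.1 1 0 * ((s : K) * A'.1 0 1) + A.1 1 1 * A'.1 1 1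
    ring

theorem Rel.torus {t : G} {s : Kˣ} (ht : t ∈ T) (hs : Act φ t s) : Rel φ T t s 0 0 1 :=
  ⟨1, t, s, ht, hs, by rw [map_one, one_mul], by simp, by simp, by simp, by simp⟩

theorem Rel.det {g : G} {a b c d : K} (h : Rel φ T g a b c d) : a * d - b * c ≠ 0 := by
  obtain ⟨A, t, s, ht, hs, rfl, rfl, rfl, rfl, rfl⟩ := h
  have h1 : A.1 0 0 * s * A.1 1 1 - A.1 0 1 * (A.1 1 0 * s) = s := by linear_combination (s : K) * det2 A
  rw [h1]
  exact s.ne_zero

/-- the hypotheses of the rank one case -/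
structure Setup (φ : SL2 K →* G) (T F : Subgroup G) : Prop where
  act : ∀ t ∈ T, ∃ c, Act φ t c
  surj : ∀ c : Kˣ, ∃ t ∈ T, Act φ t c
  hdm : ∀ c, φ (hd c) ∈ T
  wdn : φ wd ∈ Subgroup.normalizer (T : Set G)
  le : T ≤ F
  sub : F ≤ T ⊔ φ.range
  nup : ¬ ∀ u, φ (up u) ∈ F
  nlo : ¬ ∀ u, φ (lo u) ∈ F

variable (S : Setup φ T F)

include S

theorem Setup.rel {g : G} (hg : g ∈ F) : ∃ a b c d, Rel φ T g a b c d := by
  have key : ∀ g ∈ T ⊔ φ.range, ∃ A : SL2 K, ∃ t ∈ T, g = φ A * t := by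
    intro g hg
    let H : Subgroup G :=
      { carrier := {g | ∃ A : SL2 K, ∃ t ∈ T, g = φ A * t}
        one_mem' := ⟨1, 1, T.one_mem, by rw [map_one, one_mul]⟩
        mul_mem' := by
          rintro _ _ ⟨A, t, ht, rfl⟩ ⟨A', t', ht', rfl⟩
          obtain ⟨s, hs⟩ := S.act t ht
          refine ⟨A * cj s A', t * t', T.mul_mem ht ht', ?_⟩
          rw [map_mul, ← hs.conj]
          group
        inv_mem' := by
          rintro _ ⟨A, t, ht, rfl⟩
          obtain ⟨s, hs⟩ := S.act t⁻¹ (T.inv_mem ht)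
          refine ⟨cj s A⁻¹, t⁻¹, T.inv_mem ht, ?_⟩
          rw [← hs.conj, map_inv]
          group }
    have hle : T ⊔ φ.range ≤ H := by
      refine sup_le ?_ ?_
      · intro t ht
        exact ⟨1, t, ht, by rw [map_one, one_mul]⟩
      · rintro _ ⟨A, rfl⟩
        exact ⟨A, 1, T.one_mem, by rw [mul_one]⟩
    exact hle hg
  obtain ⟨A, t, ht, rfl⟩ := key g (S.sub hg)
  obtain ⟨s, hs⟩ := S.act t ht
  exact ⟨_, _, _, _, A, t, s, ht, hs, rfl, rfl, rfl, rfl, rfl⟩

theorem Setup.claim1 {g : G} (hg : g ∈ F) {a b c d : K} (h : Rel φ T g a b c d) (hc : c = 0) : b = 0 := by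
  obtain ⟨A, t, s, ht, hs, h88⟩ := h
  revert h88; rintro ⟨rfl, rfl, rfl, rfl, rfl⟩
  have h10 : A.1 1 0 = 0 := (mul_eq_zero.1 hc).resolve_right s.ne_zero
  have hdet := det2 A
  rw [h10, mul_zero, sub_zero] at hdet
  have hα : A.1 0 0 ≠ 0 := left_ne_zero_of_mul_eq_one hdet
  by_contra hb
  apply S.nup
  set α : Kˣ := Units.mk0 _ hα with hαd
  have hαi : ((α⁻¹ : Kˣ) : K) = A.1 1 1 := by
    rw [Units.val_inv_eq_inv_val]
    exact inv_eq_of_mul_eq_one_right hdet
  have hA : A = up (A.1 0 1 * A.1 0 0) * hd α := by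
    apply ext2
    · rw [mul2]
      show A.1 0 0 = 1 * A.1 0 0 + (A.1 0 1 * A.1 0 0) * 0
      ring
    · rw [mul2]
      show A.1 0 1 = 1 * 0 + (A.1 0 1 * A.1 0 0) * ((α⁻¹ : Kˣ) : K)
      rw [hαi]
      linear_combination -(A.1 0 1) * hdet
    · rw [mul2, h10]
      show (0 : K) = 0 * A.1 0 0 + 1 * 0
      ring
    · rw [mul2]
      show A.1 1 1 = 0 * 0 + 1 * ((α⁻¹ : Kˣ) : K)
      rw [hαi]
      ring
  have hmem : φ (up (A.1 0 1 * A.1 0 0)) ∈ F := by
    have h1 : φ (up (A.1 0 1 * A.1 0 0)) = (φ A * t) * t⁻¹ * (φ (hd α))⁻¹ := by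
      rw [← map_inv, mul_assoc (φ A), mul_inv_cancel, mul_one, ← map_mul]
      conv_rhs => rw [hA]
      rw [mul_inv_cancel_right]
    rw [h1]
    exact F.mul_mem (F.mul_mem hg (F.inv_mem (S.le ht))) (F.inv_mem (S.le (S.hdm α)))
  have hw : A.1 0 1 * A.1 0 0 ≠ 0 := mul_ne_zero hb hα
  intro u
  by_cases hu : u = 0
  · subst hu
    have : (up (0 : K)) = 1 := ext2 rfl rfl rfl rfl
    rw [this, map_one]
    exact F.one_mem
  · obtain ⟨t', ht', hs'⟩ := S.surj (Units.mk0 _ hu * (Units.mk0 _ hw)⁻¹)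
    have h2 := hs'.1 (A.1 0 1 * A.1 0 0)
    have h3 : ((Units.mk0 u hu * (Units.mk0 _ hw)⁻¹ : Kˣ) : K) * (A.1 0 1 * A.1 0 0) = u := by
      rw [Units.val_mul, Units.val_inv_eq_inv_val]
      show u * (A.1 0 1 * A.1 0 0)⁻¹ * (A.1 0 1 * A.1 0 0) = u
      rw [mul_assoc, inv_mul_cancel₀ hw, mul_one]
    rw [h3] at h2
    rw [← h2]
    exact F.mul_mem (F.mul_mem (S.le ht') hmem) (F.inv_mem (S.le ht'))

theorem Setup.claim2 {g : G} (hg : g ∈ F) {a b c d : K} (h : Rel φ T g a b c d) (hb : b = 0) : c = 0 := by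
  obtain ⟨A, t, s, ht, hs, rfl, rfl, rfl, rfl, rfl⟩ := h
  have hdet := det2 A
  rw [hb, zero_mul, sub_zero] at hdet
  have hα : A.1 0 0 ≠ 0 := left_ne_zero_of_mul_eq_one hdet
  have hδ : A.1 1 1 ≠ 0 := right_ne_zero_of_mul_eq_one hdet
  by_contra hc
  have hc' : A.1 1 0 ≠ 0 := left_ne_zero_of_mul hc
  apply S.nlo
  set α : Kˣ := Units.mk0 _ hα with hαd
  have hαi : ((α⁻¹ : Kˣ) : K) = A.1 1 1 := by
    rw [Units.val_inv_eq_inv_val]
    exact inv_eq_of_mul_eq_one_right hdet
  have hA : A = lo (A.1 1 0 * A.1 1 1) * hd α := by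
    apply ext2
    · rw [mul2]
      show A.1 0 0 = 1 * A.1 0 0 + 0 * 0
      ring
    · rw [mul2, hb]
      show (0 : K) = 1 * 0 + 0 * ((α⁻¹ : Kˣ) : K)
      ring
    · rw [mul2]
      show A.1 1 0 = (A.1 1 0 * A.1 1 1) * A.1 0 0 + 1 * 0
      linear_combination -(A.1 1 0) * hdet
    · rw [mul2]
      show A.1 1 1 = (A.1 1 0 * A.1 1 1) * 0 + 1 * ((α⁻¹ : Kˣ) : K)
      rw [hαi]
      ring
  have hmem : φ (lo (A.1 1 0 * A.1 1 1)) ∈ F := by
    have h1 : φ (lo (A.1 1 0 * A.1 1 1)) = (φ A * t) * t⁻¹ * (φ (hd α))⁻¹ := by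
      rw [← map_inv, mul_assoc (φ A), mul_inv_cancel, mul_one, ← map_mul]
      conv_rhs => rw [hA]
      rw [mul_inv_cancel_right]
    rw [h1]
    exact F.mul_mem (F.mul_mem hg (F.inv_mem (S.le ht))) (F.inv_mem (S.le (S.hdm α)))
  have hw : A.1 1 0 * A.1 1 1 ≠ 0 := mul_ne_zero hc' hδ
  intro u
  by_cases hu : u = 0
  · subst hu
    have : (lo (0 : K)) = 1 := ext2 rfl rfl rfl rfl
    rw [this, map_one]
    exact F.one_mem
  · obtain ⟨t', ht', hs'⟩ := S.surj (Units.mk0 _ hw * (Units.mk0 _ hu)⁻¹)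
    have h2 := hs'.2 (A.1 1 0 * A.1 1 1)
    have h3 : (((Units.mk0 _ hw * (Units.mk0 u hu)⁻¹)⁻¹ : Kˣ) : K) * (A.1 1 0 * A.1 1 1) = u := by
      rw [mul_inv, inv_inv, Units.val_mul, Units.val_inv_eq_inv_val]
      show (A.1 1 0 * A.1 1 1)⁻¹ * u * (A.1 1 0 * A.1 1 1) = u
      field_simp
    rw [h3] at h2
    rw [← h2]
    exact F.mul_mem (F.mul_mem (S.le ht') hmem) (F.inv_mem (S.le ht'))

theorem Setup.three {g g' : G} (hg : g ∈ F) (hg' : g' ∈ F) {a b c d a' b' c' d' : K} (h : Rel φ T g a b c d)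
    (h' : Rel φ T g' a' b' c' d') (s : Kˣ) :
    ∃ g'' ∈ F, Rel φ T g'' (a * a' * s + b * c') (a * b' * s + b * d') (c * a' * s + d * c') (c * b' * s + d * d') := by
  obtain ⟨t, ht, hs⟩ := S.surj s
  refine ⟨g * t * g', F.mul_mem (F.mul_mem hg (S.le ht)) hg', ?_⟩
  have h1 := (h.mul (Rel.torus ht hs)).mul h'
  convert h1 using 1 <;> ring

theorem Setup.claim3 {x : Kˣ} (hx : x ≠ 1) {g : G} (hg : g ∈ F) {a b c d : K} (h : Rel φ T g a b c d) (ha : a = 0) :
    d = 0 := by
  by_contra hd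
  subst ha
  have hdet := h.det
  rw [zero_mul, zero_sub, neg_ne_zero] at hdet
  have hb : b ≠ 0 := left_ne_zero_of_mul hdet
  have hc : c ≠ 0 := right_ne_zero_of_mul hdet
  have hs0 : -(d * d) / (b * c) ≠ 0 := div_ne_zero (neg_ne_zero.2 (mul_ne_zero hd hd)) hdet
  obtain ⟨g', hg', h'⟩ := S.three hg hg h h (Units.mk0 _ hs0)
  have e : c * b * ((Units.mk0 _ hs0 : Kˣ) : K) + d * d = 0 := by
    show c * b * (-(d * d) / (b * c)) + d * d = 0
    field_simp
    ring
  rw [e] at h'
  have key : ∀ s : Kˣ, b * c * s + d * d = 0 := by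
    intro s
    obtain ⟨g'', hg'', h''⟩ := S.three hg' hg h' h s
    have h1 := S.claim1 hg'' h'' (by ring)
    have h2 : b * (b * c * s + d * d) = 0 := by linear_combination h1
    exact (mul_eq_zero.1 h2).resolve_left hb
  have h3 := key 1
  have h4 := key x
  have h5 : b * c * ((x : K) - 1) = 0 := by
    rw [Units.val_one] at h3
    linear_combination h4 - h3
  apply hx
  have h6 := (mul_eq_zero.1 h5).resolve_left hdet
  exact Units.ext (sub_eq_zero.1 h6)

theorem Setup.claim4 {x : Kˣ} (hx : x ≠ 1) {g : G} (hg : g ∈ F) {a b c d : K} (h : Rel φ T g a b c d) (hd : d = 0) :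
    a = 0 := by
  by_contra ha
  subst hd
  have hdet := h.det
  rw [mul_zero, zero_sub, neg_ne_zero] at hdet
  have hb : b ≠ 0 := left_ne_zero_of_mul hdet
  have hc : c ≠ 0 := right_ne_zero_of_mul hdet
  have hs0 : -(b * c) / (a * a) ≠ 0 := div_ne_zero (neg_ne_zero.2 hdet) (mul_ne_zero ha ha)
  have key : ∀ s : Kˣ, a * a * s + b * c = 0 := by
    intro s
    obtain ⟨g', hg', h'⟩ := S.three hg hg h h s
    obtain ⟨g'', hg'', h''⟩ := S.three hg' hg h' h (Units.mk0 _ hs0)
    have h1 := S.claim1 hg'' h'' (by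
      show (c * a * s + 0 * c) * a * (-(b * c) / (a * a)) + (c * b * s + 0 * 0) * c = 0
      field_simp
      ring)
    have h2 : (b * (-(b * c) / (a * a))) * (a * a * s + b * c) = 0 := by
      have h3 : (a * a * s + b * c) * b * (-(b * c) / (a * a)) + (a * b * s + b * 0) * 0 = 0 := h1
      linear_combination h3
    exact (mul_eq_zero.1 h2).resolve_left (mul_ne_zero hb hs0)
  have h3 := key 1
  have h4 := key x
  have h5 : a * a * ((x : K) - 1) = 0 := by
    rw [Units.val_one] at h3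
    linear_combination h4 - h3
  apply hx
  have h6 := (mul_eq_zero.1 h5).resolve_left (mul_ne_zero ha ha)
  exact Units.ext (sub_eq_zero.1 h6)

theorem Setup.claim5 {g : G} {a b c d : K} (h : Rel φ T g a b c d) (hb : b = 0) (hc : c = 0) : g ∈ T := by
  obtain ⟨A, t, s, ht, hs, rfl, rfl, rfl, rfl, rfl⟩ := h
  have h10 : A.1 1 0 = 0 := (mul_eq_zero.1 hc).resolve_right s.ne_zero
  have hdet := det2 A
  rw [h10, mul_zero, sub_zero] at hdet
  have hα : A.1 0 0 ≠ 0 := left_ne_zero_of_mul_eq_one hdet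
  have hA : A = hd (Units.mk0 _ hα) := by
    apply ext2
    · rfl
    · exact hb
    · exact h10
    · show A.1 1 1 = (((Units.mk0 _ hα)⁻¹ : Kˣ) : K)
      rw [Units.val_inv_eq_inv_val]
      exact (inv_eq_of_mul_eq_one_right hdet).symm
  rw [hA]
  exact T.mul_mem (S.hdm _) ht

theorem Setup.claim6 {g : G} {a b c d : K} (h : Rel φ T g a b c d) (ha : a = 0) (hd0 : d = 0) :
    g ∈ Subgroup.normalizer (T : Set G) := by
  obtain ⟨A, t, s, ht, hs, h88⟩ := h
  revert h88; rintro ⟨rfl, rfl, rfl, rfl, rfl⟩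
  have h00 : A.1 0 0 = 0 := (mul_eq_zero.1 ha).resolve_right s.ne_zero
  have hdet := det2 A
  rw [h00, zero_mul, zero_sub] at hdet
  have hβ : A.1 0 1 ≠ 0 := by
    intro h
    rw [h] at hdet
    simp at hdet
  have hA : A = hd (Units.mk0 _ hβ) * wd := by
    apply ext2
    · rw [mul2, h00]
      show (0 : K) = A.1 0 1 * 0 + 0 * -1
      ring
    · rw [mul2]
      show A.1 0 1 = A.1 0 1 * 1 + 0 * 0
      ring
    · rw [mul2]
      show A.1 1 0 = 0 * 0 + (((Units.mk0 _ hβ)⁻¹ : Kˣ) : K) * -1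
      rw [Units.val_inv_eq_inv_val]
      show A.1 1 0 = 0 * 0 + (A.1 0 1)⁻¹ * -1
      field_simp
      linear_combination -hdet
    · rw [mul2, hd0]
      show (0 : K) = 0 * 1 + (((Units.mk0 _ hβ)⁻¹ : Kˣ) : K) * 0
      ring
  have hT : T ≤ Subgroup.normalizer (T : Set G) := Subgroup.le_normalizer
  rw [hA, map_mul]
  exact mul_mem (mul_mem (hT (S.hdm _)) S.wdn) (hT ht)

/-- **S2539, part 2.4.** -/
theorem Setup.le_normalizer [Fintype K] (hK : 6 ≤ Fintype.card K) : F ≤ Subgroup.normalizer (T : Set G) := by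
  classical
  obtain ⟨x, hx⟩ := IsCyclic.exists_generator (α := Kˣ)
  have hcard : Fintype.card Kˣ = Fintype.card K - 1 := Fintype.card_units K
  have hxo : orderOf x = Fintype.card K - 1 := by
    rw [← hcard, ← Nat.card_eq_fintype_card]
    exact orderOf_eq_card_of_forall_mem_zpowers hx
  have hx1 : x ≠ 1 := by
    rintro rfl
    rw [orderOf_one] at hxo
    omega
  have hT : T ≤ Subgroup.normalizer (T : Set G) := Subgroup.le_normalizer
  have hnz : ∀ {g : G}, g ∈ F → g ∉ Subgroup.normalizer (T : Set G) → ∀ {a b c d : K}, Rel φ T g a b c d →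
      a ≠ 0 ∧ b ≠ 0 ∧ c ≠ 0 ∧ d ≠ 0 := by
    intro g hg hgN a b c d h
    refine ⟨fun h0 => ?_, fun h0 => ?_, fun h0 => ?_, fun h0 => ?_⟩
    · exact hgN (S.claim6 h h0 (S.claim3 hx1 hg h h0))
    · exact hgN (hT (S.claim5 h h0 (S.claim2 hg h h0)))
    · exact hgN (hT (S.claim5 h (S.claim1 hg h h0) h0))
    · exact hgN (S.claim6 h (S.claim4 hx1 hg h h0) h0)
  have had : ∀ {g : G}, g ∈ F → ∀ {a b c d : K}, Rel φ T g a b c d → a ≠ 0 → b ≠ 0 → c ≠ 0 → d ≠ 0 →
      a * d + b * c = 0 := by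
    intro g hg a b c d h ha hb hc hd
    have hs0 : -(b * c) / (a * a) ≠ 0 := div_ne_zero (neg_ne_zero.2 (mul_ne_zero hb hc)) (mul_ne_zero ha ha)
    obtain ⟨g', hg', h'⟩ := S.three hg hg h h (Units.mk0 _ hs0)
    have h1 := S.claim3 hx1 hg' h' (by
      show a * a * (-(b * c) / (a * a)) + b * c = 0
      field_simp
      ring)
    have h2 : c * b * (-(b * c) / (a * a)) + d * d = 0 := h1
    have h3 : (a * d - b * c) * (a * d + b * c) = 0 := by
      field_simp at h2
      linear_combination h2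
    exact (mul_eq_zero.1 h3).resolve_left h.det
  intro g hg
  by_contra hgN
  obtain ⟨a, b, c, d, h⟩ := S.rel hg
  obtain ⟨ha, hb, hc, hd⟩ := hnz hg hgN h
  have h0 := had hg h ha hb hc hd
  have key : ∀ s : Kˣ, (a * s) ^ 4 = d ^ 4 := by
    intro s
    obtain ⟨g', hg', h'⟩ := S.three hg hg h h s
    by_cases h1 : a * a * s + b * c = 0
    · have h2 : a * (a * s - d) = 0 := by linear_combination h1 - h0
      have h3 := (mul_eq_zero.1 h2).resolve_left ha
      have h4 : a * s = d := by linear_combination h3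
      rw [h4]
    by_cases h5 : a * b * s + b * d = 0
    · have h2 : b * (a * s + d) = 0 := by linear_combination h5
      have h3 := (mul_eq_zero.1 h2).resolve_left hb
      have h4 : a * s = -d := by linear_combination h3
      rw [h4]
      ring
    by_cases h6 : c * a * s + d * c = 0
    · have h2 : c * (a * s + d) = 0 := by linear_combination h6
      have h3 := (mul_eq_zero.1 h2).resolve_left hc
      have h4 : a * s = -d := by linear_combination h3
      rw [h4]
      ring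
    by_cases h7 : c * b * s + d * d = 0
    · have h2 : d * (a * s - d) = 0 := by linear_combination -h7 + (s : K) * h0
      have h3 := (mul_eq_zero.1 h2).resolve_left hd
      have h4 : a * s = d := by linear_combination h3
      rw [h4]
    have h8 := had hg' h' h1 h5 h6 h7
    have h9 : (2 * (a * d)) * ((a * s) ^ 2 + d ^ 2) = 0 := by
      linear_combination -h8 + ((a * s - d) ^ 2 + (a * s + d) ^ 2 + (a * d + b * c) * s) * h0
    have h10 : (2 : K) ≠ 0 := by
      intro h2
      apply h.det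
      linear_combination h0 - (b * c) * h2
    have h11 := (mul_eq_zero.1 h9).resolve_left (mul_ne_zero h10 (mul_ne_zero ha hd))
    linear_combination ((a * s) ^ 2 - d ^ 2) * h11
  have h1 := key 1
  have h2 := key x
  rw [Units.val_one, mul_one] at h1
  rw [mul_pow, h1] at h2
  have h3 : (x : K) ^ 4 = 1 := by
    have h4 : d ^ 4 * ((x : K) ^ 4 - 1) = 0 := by linear_combination h2
    have h5 := (mul_eq_zero.1 h4).resolve_left (pow_ne_zero 4 hd)
    exact sub_eq_zero.1 h5
  have h4 : x ^ 4 = 1 := Units.ext (by rw [Units.val_pow_eq_pow_val]; exact h3)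
  have h5 := Nat.le_of_dvd (by norm_num) (orderOf_dvd_of_pow_eq_one h4)
  rw [hxo] at h5
  omega

end Cfsg.Agent.H194.OT
end

-- part: H194/OT/RankOneChev
section
/-!
# S2539, part 2.4: overgroups of `T` in `⟨T, X_r, X_{-r}⟩`
-/

set_option autoImplicit false

namespace Cfsg.Agent.H194.OT

open Cfsg Cfsg.Lie Cfsg.Lie.ChevalleyDatum
open Cfsg.Agent.ChevalleyStructure Cfsg.Agent.ChevalleyStructure.Elts Cfsg.Agent.H412.OT
open Cfsg.Agent.ChevalleyStructure.SL2Hom (up lo phi phi_upper phi_lower)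

universe u

variable {D : ChevalleyDatum} {K : Type u} [Field K]

/-- every root takes coprime values on two simple coroots -/
def gcdCheck (D : ChevalleyDatum) : Bool :=
  (List.range D.nroots).all fun r => (List.range D.rank).any fun i => (List.range D.rank).any fun j =>
    Nat.beq (Int.gcd (D.cartan i r) (D.cartan j r)) 1

theorem gcd_G2 : gcdCheck chevG2 = true := by decide +kernel
theorem gcd_D4 : gcdCheck chevD4 = true := by decide +kernel
theorem gcd_F4 : gcdCheck chevF4 = true := by decide +kernel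
private noncomputable def _root_.Cfsg.Agent.LsF.fabaf4f_0 : {f // @Cfsg.Lie.ChevalleyDatum.cartan = f} := ⟨_, by first | (delta Cfsg.Lie.ChevalleyDatum.cartan; rewrite [Cfsg.Agent.LsF.agetD_eq]; exact rfl) | exact rfl⟩
private noncomputable def _root_.Cfsg.Agent.LsF.fabaf4f_1 : {f // @Cfsg.Agent.H194.OT.gcdCheck = f} := ⟨_, by first | (delta Cfsg.Agent.H194.OT.gcdCheck; rewrite [Cfsg.Agent.LsF.fabaf4f_0.2, Cfsg.Agent.LsF.all_eq, Cfsg.Agent.LsF.any_eq, Cfsg.Agent.LsF.range_eq]; exact rfl) | exact rfl⟩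
theorem gcd_E6 : gcdCheck chevE6 = true := by ((try (rewrite [Cfsg.Agent.LsF.fabaf4f_1.2])); decide +kernel)
theorem gcd_E7 : gcdCheck chevE7 = true := by ((try (rewrite [Cfsg.Agent.LsF.fabaf4f_1.2])); decide +kernel)
theorem gcd_E8 : gcdCheck chevE8 = true := by ((try (rewrite [Cfsg.Agent.LsF.fabaf4f_1.2])); decide +kernel)

theorem exists_gcd (hm : D ∈ [chevG2, chevD4, chevF4, chevE6, chevE7, chevE8]) {r : ℕ} (hr : r < D.nroots) :
    ∃ i < D.rank, ∃ j < D.rank, Int.gcd (D.cartan i r) (D.cartan j r) = 1 := by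
  have h : gcdCheck D = true := by
    simp only [List.mem_cons, List.not_mem_nil, or_false] at hm
    rcases hm with h | h | h | h | h | h <;> rw [h]
    · exact gcd_G2
    · exact gcd_D4
    · exact gcd_F4
    · exact gcd_E6
    · exact gcd_E7
    · exact gcd_E8
  unfold gcdCheck at h
  have h1 := List.all_eq_true.1 h r (List.mem_range.2 hr)
  obtain ⟨i, hi, h2⟩ := List.any_eq_true.1 h1
  obtain ⟨j, hj, h3⟩ := List.any_eq_true.1 h2
  exact ⟨i, List.mem_range.1 hi, j, List.mem_range.1 hj, Nat.eq_of_beq_eq_true h3⟩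

/-- `chi t (-s) = (chi t s)⁻¹` -/
theorem chi_neg (hD : InList D) {t : GL D.Idx K} (ht : t ∈ D.diagonalSubgroup K) {s : ℕ} (hs : s < D.nroots) :
    chi D K t (D.neg s) = (chi D K t s)⁻¹ := by
  obtain ⟨c, hc, e, h1⟩ := tor_data hD ht
  have h2 : ∀ s (hs : s < D.nroots), chi D K t s = ∏ i ∈ Finset.range D.rank, c i ^ D.cartan i s := by
    intro s hs
    rw [chi, dif_pos hs, e, Matrix.diagonal_apply_eq, Sum.elim_inr]
  rw [h2 _ (NPerm.neg_lt hD hs), h2 s hs, ← Finset.prod_inv_distrib]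
  refine Finset.prod_congr rfl fun i _ => ?_
  rw [NBlock.cartan_neg hD i hs, zpow_neg]

section

variable (hD : InList D) {r : ℕ} (hr : r < D.nroots)

/-- the rank one homomorphism of the root `r` -/
noncomputable def ph (K : Type u) [Field K] : Matrix.SpecialLinearGroup (Fin 2) K →* GL D.Idx K :=
  phi (SL2All.good_of_mem D hD r hr) K

theorem ph_up (t : K) : ph hD hr K (up t) = xG hD r t := Units.ext (phi_upper _ _ t rfl)

theorem ph_lo (t : K) : ph hD hr K (lo t) = xG hD (D.neg r) t := Units.ext (phi_lower _ _ t rfl)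

theorem act_iff {t : GL D.Idx K} (ht : t ∈ D.diagonalSubgroup K) {c : Kˣ} (hc : chi D K t r = c) :
    Act (ph hD hr K) t c := by
  constructor
  · intro u
    rw [ph_up, ph_up, tor_conj_xG hD ht hr, hc]
  · intro u
    rw [ph_lo, ph_lo, tor_conj_xG hD ht (NPerm.neg_lt hD hr), chi_neg hD ht hr, hc, Units.val_inv_eq_inv_val]

theorem ph_wd : ph hD hr K wd = nG hD r 1 := by
  have h : (wd : Matrix.SpecialLinearGroup (Fin 2) K) = up 1 * (lo (-1) * up 1) := by
    apply ext2
    · rw [mul2, mul2, mul2]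
      show (0 : K) = 1 * (1 * 1 + 0 * 0) + 1 * (-1 * 1 + 1 * 0)
      ring
    · rw [mul2, mul2, mul2]
      show (1 : K) = 1 * (1 * 1 + 0 * 1) + 1 * (-1 * 1 + 1 * 1)
      ring
    · rw [mul2, mul2, mul2]
      show (-1 : K) = 0 * (1 * 1 + 0 * 0) + 1 * (-1 * 1 + 1 * 0)
      ring
    · rw [mul2, mul2, mul2]
      show (0 : K) = 0 * (1 * 1 + 0 * 1) + 1 * (-1 * 1 + 1 * 1)
      ring
  rw [h, map_mul, map_mul, ph_up, ph_lo, nG_def, inv_one]

theorem ph_hd (c : Kˣ) : ph hD hr K (hd c) = hG hD r (c : K) := by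
  have hc := c.ne_zero
  have h : (hd c : Matrix.SpecialLinearGroup (Fin 2) K) =
      (up (c : K) * (lo (-(c : K)⁻¹) * up (c : K))) * (up (-1) * (lo (-(-1)⁻¹) * up (-1))) := by
    have e : (c : K) * (c : K)⁻¹ = 1 := mul_inv_cancel₀ hc
    have e1 : -(-1 : K)⁻¹ = 1 := by rw [inv_neg, inv_one, neg_neg]
    rw [e1]
    have h1 : up (c : K) * (lo (-(c : K)⁻¹) * up (c : K)) = mk2 0 (c : K) (-(c : K)⁻¹) 0 (by rw [mul_neg, sub_neg_eq_add, e]; ring) := by
      apply ext2
      · rw [mul2, mul2, mul2]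
        show 1 * (1 * 1 + 0 * 0) + (c : K) * (-(c : K)⁻¹ * 1 + 1 * 0) = 0
        linear_combination -e
      · rw [mul2, mul2, mul2]
        show 1 * (1 * (c : K) + 0 * 1) + (c : K) * (-(c : K)⁻¹ * (c : K) + 1 * 1) = (c : K)
        linear_combination -(c : K) * e
      · rw [mul2, mul2, mul2]
        show 0 * (1 * 1 + 0 * 0) + 1 * (-(c : K)⁻¹ * 1 + 1 * 0) = -(c : K)⁻¹
        ring
      · rw [mul2, mul2, mul2]
        show 0 * (1 * (c : K) + 0 * 1) + 1 * (-(c : K)⁻¹ * (c : K) + 1 * 1) = 0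
        linear_combination -e
    have h2 : up (-1 : K) * (lo 1 * up (-1)) = mk2 0 (-1) 1 0 (by ring) := by
      apply ext2
      · rw [mul2, mul2, mul2]
        show 1 * (1 * 1 + 0 * 0) + (-1 : K) * (1 * 1 + 1 * 0) = 0
        ring
      · rw [mul2, mul2, mul2]
        show 1 * (1 * (-1 : K) + 0 * 1) + (-1 : K) * (1 * (-1) + 1 * 1) = -1
        ring
      · rw [mul2, mul2, mul2]
        show (0 : K) * (1 * 1 + 0 * 0) + 1 * (1 * 1 + 1 * 0) = 1
        ring
      · rw [mul2, mul2, mul2]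
        show (0 : K) * (1 * (-1) + 0 * 1) + 1 * (1 * (-1) + 1 * 1) = 0
        ring
    rw [h1, h2]
    apply ext2
    · rw [mul2]
      show (c : K) = 0 * 0 + (c : K) * 1
      ring
    · rw [mul2]
      show (0 : K) = 0 * -1 + (c : K) * 0
      ring
    · rw [mul2]
      show (0 : K) = -(c : K)⁻¹ * 0 + 0 * 1
      ring
    · rw [mul2]
      show ((c⁻¹ : Kˣ) : K) = -(c : K)⁻¹ * -1 + 0 * 0
      rw [Units.val_inv_eq_inv_val]
      ring
  rw [h, map_mul, map_mul, map_mul, map_mul, map_mul, ph_up, ph_lo, ph_up, ph_lo, hG_def, nG_def, nG_def]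

/-- `N` normalizes `T`. -/
theorem mon_le (hD : InList D) : D.monomialSubgroup K ≤ Subgroup.normalizer (D.diagonalSubgroup K : Set (GL D.Idx K)) := by
  have hn := MonomialNormal.normal hD (SharpSign.sharp (F := K) hD)
  exact (Subgroup.normal_subgroupOf_iff_le_normalizer (diagonal_le_monomial D K)).1 hn

end

/-- **S2539, part 2.4.** The overgroups of `T` in `⟨T, X_r, X_{-r}⟩` containing neither `X_r` nor `X_{-r}`
normalize `T`. -/
theorem rank_one [Fintype K] (hm : D ∈ [chevG2, chevD4, chevF4, chevE6, chevE7, chevE8]) (hK : 6 ≤ Fintype.card K)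
    {r : ℕ} (hr : r < D.nroots) {F : Subgroup (GL D.Idx K)} (hTF : D.diagonalSubgroup K ≤ F)
    (hF : F ≤ D.diagonalSubgroup K ⊔ (D.rootSubgroup K r ⊔ D.rootSubgroup K (D.neg r)))
    (h1 : r ∉ SF D K F) (h2 : D.neg r ∉ SF D K F) :
    F ≤ Subgroup.normalizer (D.diagonalSubgroup K : Set (GL D.Idx K)) := by
  have hD : InList D := inList_of_mem hm
  have S : Setup (ph hD hr K) (D.diagonalSubgroup K) F :=
    { act := fun t ht => ⟨Units.mk0 _ (chi_ne_zero hD ht r), act_iff hD hr ht rfl⟩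
      surj := by
        intro c
        obtain ⟨i, hi, j, hj, hg⟩ := exists_gcd hm hr
        have hb := Int.gcd_eq_gcd_ab (D.cartan i r) (D.cartan j r)
        rw [hg] at hb
        set a := Int.gcdA (D.cartan i r) (D.cartan j r)
        set b := Int.gcdB (D.cartan i r) (D.cartan j r)
        have hc := c.ne_zero
        have hi' := NPerm.simple_lt hD hi
        have hj' := NPerm.simple_lt hD hj
        have hti := hG_mem (K := K) hD hi' (zpow_ne_zero a hc)
        have htj := hG_mem (K := K) hD hj' (zpow_ne_zero b hc)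
        refine ⟨hG hD (D.simple i) ((c : K) ^ a) * hG hD (D.simple j) ((c : K) ^ b), mul_mem hti htj,
          act_iff hD hr (mul_mem hti htj) ?_⟩
        have hval : ∀ {i : ℕ} (hi : i < D.rank) {x : K} (hx : x ≠ 0), chi D K (hG hD (D.simple i) x) r = x ^ D.cartan i r := by
          intro i hi x hx
          have e1 := hG_simple_conj hD hi hr hx (1 : K)
          rw [tor_conj_xG hD (hG_mem hD (NPerm.simple_lt hD hi) hx) hr, mul_one, mul_one] at e1
          exact xG_injective hD hr e1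
        rw [chi_mul hD hti htj, hval hi (zpow_ne_zero a hc), hval hj (zpow_ne_zero b hc), ← zpow_mul, ← zpow_mul,
          ← zpow_add₀ hc]
        have e : a * D.cartan i r + b * D.cartan j r = 1 := by
          push_cast at hb
          linarith
        rw [e, zpow_one]
      hdm := fun c => by
        rw [ph_hd]
        exact hG_mem hD hr c.ne_zero
      wdn := by
        rw [ph_wd]
        exact mon_le hD (nG_one_mem_monomial hD hr)
      le := hTF
      sub := by
        have e : (ph hD hr K).range = D.rootSubgroup K r ⊔ D.rootSubgroup K (D.neg r) := SL2Hom.range_phi _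
        rw [e]
        exact hF
      nup := fun h => h1 ⟨hr, fun x hx => by
        obtain ⟨u, rfl⟩ := (mem_rootSubgroup_iff hD r x).1 hx
        rw [← ph_up hD hr]
        exact h u⟩
      nlo := fun h => h2 ⟨NPerm.neg_lt hD hr, fun x hx => by
        obtain ⟨u, rfl⟩ := (mem_rootSubgroup_iff hD _ x).1 hx
        rw [← ph_lo hD hr]
        exact h u⟩ }
  exact S.le_normalizer hK

/-- the same with `GS` -/
theorem rank_one_GS {p : ℕ} [Fintype K] (h : Hyp K p D) {r : ℕ} (hr : r < D.nroots) {F : Subgroup (GL D.Idx K)}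
    (hTF : D.diagonalSubgroup K ≤ F) (hF : F ≤ GS D K {r, D.neg r}) (h1 : r ∉ SF D K F) (h2 : D.neg r ∉ SF D K F) :
    F ≤ Subgroup.normalizer (D.diagonalSubgroup K : Set (GL D.Idx K)) := by
  refine rank_one h.mem ((by norm_num : 6 ≤ 13).trans h.card) hr hTF (hF.trans ?_) h1 h2
  unfold GS
  refine sup_le_sup_left (iSup₂_le ?_) _
  rintro s (rfl | rfl)
  · exact le_sup_left
  · exact le_sup_right

end Cfsg.Agent.H194.OT
end
end

-- part: H179/OT/F4
section
set_option linter.all false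
open scoped Cfsg.Agent.FastGrp

-- part: H179/OT/SL
section
/-!
# S2539: root-table facts for the simply laced types (helper179)

`pr D r s = ⟨s, r^∨⟩` of `H412.OT.Defs`; `SLD D : D ∈ [chevD4, chevE6, chevE7, chevE8]`.

* `pr_comm`, `pr_self`, `pr_neg_left`, `pr_neg_right`, `pr_abs_le` (`|⟨s, r^∨⟩| ≤ 1` for `s ≠ ± r`), `eq_of_pr_two`;
* `exists_add` : `⟨s, r^∨⟩ = -1` gives the root `r + s`;
* `sum_pr` : `∑ g, ⟨g, r^∨⟩ ⟨g, s^∨⟩ = 2 h ⟨s, r^∨⟩`;
* `odd_card` : `⟨b, a^∨⟩ = ± 1` implies that the number of `g` with `⟨g, a^∨⟩ = ⟨g, b^∨⟩ = 1` is odd;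
* `exists_fixed` : an involutive isometry `w` of the roots with `⟨a, (wa)^∨⟩ = ± 1` fixes a root `g` with `⟨a, g^∨⟩ ≠ 0`.
-/

set_option autoImplicit false
set_option linter.unusedSectionVars false

namespace Cfsg.Agent.H179.OT

open Cfsg Cfsg.Lie Cfsg.Lie.ChevalleyDatum
open Cfsg.Agent.ChevalleyStructure Cfsg.Agent.ChevalleyStructure.Elts Cfsg.Agent.ChevalleyStructure.RootVec
  Cfsg.Agent.ChevalleyStructure.RootVecTab
open Cfsg.Agent.H412.OT (pr)

/-- The simply laced data. -/
def SLD (D : ChevalleyDatum) : Prop := D ∈ [chevD4, chevE6, chevE7, chevE8]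

theorem SLD.inList {D : ChevalleyDatum} (h : SLD D) : InList D := by
  simp only [SLD, List.mem_cons, List.not_mem_nil, or_false] at h
  simp only [InList, List.mem_cons, List.not_mem_nil, or_false]
  tauto

variable {D : ChevalleyDatum}

/-! ### tables -/

/-- Sum of integers, for kernel checks. -/
def sZ (f : ℕ → ℤ) : ℕ → ℤ
  | 0 => 0
  | n + 1 => Int.add (sZ f n) (f n)

theorem sZ_eq (f : ℕ → ℤ) (n : ℕ) : sZ f n = ∑ i ∈ Finset.range n, f i := by
  induction n with
  | zero => rfl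
  | succ n ih => rw [Finset.sum_range_succ, ← ih]; rfl

/-- `2h` -/
def twoh (D : ChevalleyDatum) : ℕ := 2 * (D.nroots / D.rank)

def chkCoRt (D : ChevalleyDatum) : Bool :=
  allLT (fun i => allLT (fun r => decide ((D.coroot.getD r #[]).getD i 0 =
    Int.sub (dig (code D r) (D.rank - 1 - i)) 8)) D.nroots) D.rank

def chkSum (D : ChevalleyDatum) : Bool :=
  allLT (fun i => allLT (fun j => decide (sZ (fun g => Int.mul (Int.sub (cart D i g) 8) (Int.sub (cart D j g) 8)) D.nroots =
    Int.mul (twoh D) (Int.sub (cart D i (D.simple j)) 8))) D.rank) D.rank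

def chkLen (D : ChevalleyDatum) : Bool :=
  D.chain.toList.all fun row => row.toList.all fun e => Nat.ble e.2.toList.length 1

theorem chkCoRt_D4 : chkCoRt chevD4 = true := by decide +kernel
theorem chkCoRt_E6 : chkCoRt chevE6 = true := by decide +kernel
theorem chkCoRt_E7 : chkCoRt chevE7 = true := by (delta Cfsg.Agent.H179.OT.chkCoRt; rewrite [Cfsg.Agent.ChevFast.E7.coroot]; decide +kernel)
theorem chkCoRt_E8 : chkCoRt chevE8 = true := by (delta Cfsg.Agent.H179.OT.chkCoRt; rewrite [Cfsg.Agent.ChevFast.E8.coroot]; decide +kernel)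
theorem chkSum_D4 : chkSum chevD4 = true := by decide +kernel
theorem chkSum_E6 : chkSum chevE6 = true := by decide +kernel
theorem chkSum_E7 : chkSum chevE7 = true := by decide +kernel
theorem chkSum_E8 : chkSum chevE8 = true := by decide +kernel
theorem chkLen_D4 : chkLen chevD4 = true := by decide +kernel
theorem chkLen_E6 : chkLen chevE6 = true := by decide +kernel
theorem chkLen_E7 : chkLen chevE7 = true := by decide +kernel
theorem chkLen_E8 : chkLen chevE8 = true := by decide +kernel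


section

variable (hD : SLD D)
include hD

theorem SLD.checked : Checked D := checked_of_mem hD.inList

theorem chkCoRt_true : chkCoRt D = true := by
  simp only [SLD, List.mem_cons, List.not_mem_nil, or_false] at hD
  rcases hD with rfl | rfl | rfl | rfl
  exacts [chkCoRt_D4, chkCoRt_E6, chkCoRt_E7, chkCoRt_E8]

theorem chkSum_true : chkSum D = true := by
  simp only [SLD, List.mem_cons, List.not_mem_nil, or_false] at hD
  rcases hD with rfl | rfl | rfl | rfl
  exacts [chkSum_D4, chkSum_E6, chkSum_E7, chkSum_E8]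

theorem chkLen_true : chkLen D = true := by
  simp only [SLD, List.mem_cons, List.not_mem_nil, or_false] at hD
  rcases hD with rfl | rfl | rfl | rfl
  exacts [chkLen_D4, chkLen_E6, chkLen_E7, chkLen_E8]

theorem twoh_mod : twoh D % 4 = 0 := by
  simp only [SLD, List.mem_cons, List.not_mem_nil, or_false] at hD
  rcases hD with rfl | rfl | rfl | rfl <;> decide +kernel

theorem co_eq_rt {r i : ℕ} (hr : r < D.nroots) (hi : i < D.rank) : co D r i = rt D r i := by
  have h := chkCoRt_true hD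
  simp only [chkCoRt, allLT_iff, decide_eq_true_eq] at h
  rw [rt_of_lt hr hi, co_def, h i hi r hr]
  rfl

theorem sum_cartan {i j : ℕ} (hi : i < D.rank) (hj : j < D.rank) :
    ∑ g ∈ Finset.range D.nroots, D.cartan i g * D.cartan j g = (twoh D : ℤ) * D.cartan i (D.simple j) := by
  have h := chkSum_true hD
  simp only [chkSum, allLT_iff, decide_eq_true_eq] at h
  have h1 := h i hi j hj
  rw [sZ_eq] at h1
  rw [cartan_eq_cart hD.checked hi (simple_lt hD.checked hj)]
  refine Eq.trans (Finset.sum_congr rfl fun g hg => ?_) h1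
  rw [cartan_eq_cart hD.checked hi (Finset.mem_range.1 hg), cartan_eq_cart hD.checked hj (Finset.mem_range.1 hg)]
  rfl

theorem length_chainEntry (r s : ℕ) : (D.chainEntry r s).length ≤ 1 := by
  by_cases h0 : D.chainEntry r s = []
  · rw [h0]; simp
  obtain ⟨e, he, rfl, h1⟩ := chainEntry_eq_some (D := D) r s h0
  rw [h1]
  have hr := lt_of_mem_row hD.checked he
  have h := chkLen_true hD
  have hr' : r < D.chain.toList.length := by rw [chain_size hD.checked]; exact hr
  rw [chkLen, List.all_eq_true] at h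
  have h2 := h (D.chain.toList[r]) (List.getElem_mem hr')
  rw [List.all_eq_true] at h2
  have h3 := h2 e (by rw [← getD_toList D.chain #[] hr']; exact he)
  exact Nat.le_of_ble_eq_true h3

/-! ### the pairing -/

theorem pr_eq_co (r s : ℕ) : pr D r s = ∑ i ∈ Finset.range D.rank, co D r i * D.cartan i s := rfl

theorem pr_eq (r s : ℕ) : pr D r s = Strings.cartanR D r s := rfl

/-- `⟨·, r^∨⟩` is additive. -/
theorem pr_of_rt {u r s t : ℕ} {a b : ℤ} (hu : u < D.nroots) (hr : r < D.nroots)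
    (hs : s < D.nroots) (e : ∀ i < D.rank, rt D u i = a * rt D r i + b * rt D s i) :
    pr D t u = a * pr D t r + b * pr D t s := by
  simp only [pr_eq_co hD]
  rw [Finset.mul_sum, Finset.mul_sum, ← Finset.sum_add_distrib]
  refine Finset.sum_congr rfl fun i hi => ?_
  rw [cartan_of_rt hD.checked hu hr hs e (Finset.mem_range.1 hi)]
  ring

theorem pr_eq_sum {r s : ℕ} (hr : r < D.nroots) (hs : s < D.nroots) :
    pr D r s = ∑ i ∈ Finset.range D.rank, ∑ j ∈ Finset.range D.rank,
      rt D r i * rt D s j * D.cartan i (D.simple j) := by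
  rw [pr_eq_co hD]
  refine Finset.sum_congr rfl fun i hi => ?_
  rw [Finset.mem_range] at hi
  rw [co_eq_rt hD hr hi, cartan_eq_sum hD.checked hi hs, Finset.mul_sum]
  exact Finset.sum_congr rfl fun j _ => by ring

/-- `∑ g, ⟨g, r^∨⟩ ⟨g, s^∨⟩ = 2 h ⟨s, r^∨⟩`. -/
theorem sum_pr {r s : ℕ} (hr : r < D.nroots) (hs : s < D.nroots) :
    ∑ g ∈ Finset.range D.nroots, pr D r g * pr D s g = (twoh D : ℤ) * pr D r s := by
  have h1 : ∀ g, pr D r g * pr D s g = ∑ i ∈ Finset.range D.rank, ∑ j ∈ Finset.range D.rank,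
      co D r i * co D s j * (D.cartan i g * D.cartan j g) := by
    intro g
    rw [pr_eq_co hD, pr_eq_co hD, Finset.sum_mul_sum]
    exact Finset.sum_congr rfl fun i _ => Finset.sum_congr rfl fun j _ => by ring
  simp only [h1]
  rw [Finset.sum_comm]
  have h2 : ∀ i ∈ Finset.range D.rank, ∑ g ∈ Finset.range D.nroots, ∑ j ∈ Finset.range D.rank,
      co D r i * co D s j * (D.cartan i g * D.cartan j g) = ∑ j ∈ Finset.range D.rank,
      co D r i * co D s j * ((twoh D : ℤ) * D.cartan i (D.simple j)) := by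
    intro i hi
    rw [Finset.sum_comm]
    refine Finset.sum_congr rfl fun j hj => ?_
    rw [← Finset.mul_sum, sum_cartan hD (Finset.mem_range.1 hi) (Finset.mem_range.1 hj)]
  rw [Finset.sum_congr rfl h2, pr_eq_sum hD hr hs, Finset.mul_sum]
  refine Finset.sum_congr rfl fun i hi => ?_
  rw [Finset.mul_sum]
  refine Finset.sum_congr rfl fun j hj => ?_
  rw [co_eq_rt hD hr (Finset.mem_range.1 hi), co_eq_rt hD hs (Finset.mem_range.1 hj)]
  ring

theorem twoh_pos : 0 < (twoh D : ℤ) := by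
  simp only [SLD, List.mem_cons, List.not_mem_nil, or_false] at hD
  rcases hD with rfl | rfl | rfl | rfl <;> decide +kernel

/-- The pairing is symmetric. -/
theorem pr_comm {r s : ℕ} (hr : r < D.nroots) (hs : s < D.nroots) : pr D r s = pr D s r := by
  have h1 := sum_pr hD hr hs
  have h2 := sum_pr hD hs hr
  have h3 : (twoh D : ℤ) * pr D r s = (twoh D : ℤ) * pr D s r := by
    rw [← h1, ← h2]
    exact Finset.sum_congr rfl fun g _ => mul_comm _ _
  exact mul_left_cancel₀ (twoh_pos hD).ne' h3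

theorem pr_self {r : ℕ} (hr : r < D.nroots) : pr D r r = 2 := (StringMem.rootOK_of_mem hD.inList hr).cartan_self

theorem pr_neg_right {r s : ℕ} (hs : s < D.nroots) : pr D r (D.neg s) = - pr D r s := by
  simp only [pr_eq_co hD]
  rw [← Finset.sum_neg_distrib]
  refine Finset.sum_congr rfl fun i hi => ?_
  rw [cartan_neg hD.checked (Finset.mem_range.1 hi) hs, mul_neg]

theorem pr_neg_left {r s : ℕ} (hr : r < D.nroots) : pr D (D.neg r) s = - pr D r s := by
  simp only [pr_eq_co hD]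
  rw [← Finset.sum_neg_distrib]
  refine Finset.sum_congr rfl fun i hi => ?_
  have := (StringMem.rootOK_of_mem hD.inList hr).co_neg i (Finset.mem_range.1 hi)
  rw [show co D (D.neg r) i = - co D r i from this, neg_mul]

/-- Strings: `⟨s, r^∨⟩ ∈ {-1, 0, 1}`, and `r + s` is a root in the first case. -/
theorem str {r s : ℕ} (hr : r < D.nroots) (hs : s < D.nroots) (h1 : s ≠ r) (h2 : s ≠ D.neg r) :
    pr D r s = 0 ∨ pr D r s = 1 ∨ (pr D r s = -1 ∧ ∃ u < D.nroots, D.chainRoot r s 1 = some u ∧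
      ∀ i, rt D u i = rt D s i + rt D r i) := by
  obtain ⟨q, S, E, k, hS, hk, rfl, he⟩ := StringMem.hasStrings_of_mem hD.inList hr s hs h1 h2
  have hq : q ≤ 1 := by
    have h3 := length_chainEntry hD r (S 0)
    rw [hS.up 0 (Nat.zero_le _), List.length_map, List.length_range] at h3
    omega
  rw [pr_eq hD, he]
  rcases Nat.lt_or_ge k q with h3 | h3
  · have hk0 : k = 0 := by omega
    have hq1 : q = 1 := by omega
    subst hk0
    subst hq1
    refine Or.inr (Or.inr ⟨by norm_num, S 1, hS.lt 1 le_rfl, ?_, ?_⟩)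
    · have hdef : D.chainRoot r (S 0) 1 = ((D.chainEntry r (S 0))[1 - 1]?).map Prod.fst := rfl
      rw [hdef, hS.up 0 (Nat.zero_le _)]
      rfl
    · intro i
      have h5 : (D.chainEntry r (S 0))[0]? = some (S 1, E 0 * E 1 * (((1 : ℕ).choose 1 : ℕ) : ℤ)) := by
        rw [hS.up 0 (Nat.zero_le _)]
        rfl
      have h6 := (chainEntry_get hD.checked h5).2.2.2 i
      rw [h6]
      push_cast
      ring
  · have hk0 : k = q := by omega
    subst hk0
    interval_cases k
    · left; norm_num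
    · right; left; norm_num

theorem pr_abs_le {r s : ℕ} (hr : r < D.nroots) (hs : s < D.nroots) (h1 : s ≠ r) (h2 : s ≠ D.neg r) :
    |pr D r s| ≤ 1 := by
  rcases str hD hr hs h1 h2 with h | h | ⟨h, -⟩ <;> rw [h] <;> norm_num

theorem eq_of_pr_two {r s : ℕ} (hr : r < D.nroots) (hs : s < D.nroots) (h : pr D r s = 2) : s = r := by
  by_contra h1
  by_cases h2 : s = D.neg r
  · rw [h2, pr_neg_right hD hr, pr_self hD hr] at h
    omega
  · have := pr_abs_le hD hr hs h1 h2
    rw [h] at this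
    norm_num at this

/-- `⟨s, r^∨⟩ = -1` : the root `u = r + s`. -/
theorem exists_add {r s : ℕ} (hr : r < D.nroots) (hs : s < D.nroots) (h : pr D r s = -1) :
    ∃ u < D.nroots, D.chainRoot r s 1 = some u ∧ (∀ i, rt D u i = rt D s i + rt D r i) ∧
      (∀ t, pr D t u = pr D t s + pr D t r) ∧ (∀ t < D.nroots, pr D u t = pr D s t + pr D r t) := by
  have h1 : s ≠ r := by
    rintro rfl
    rw [pr_self hD hr] at h
    omega
  have h2 : s ≠ D.neg r := by
    rintro rfl
    rw [pr_neg_right hD hr, pr_self hD hr] at h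
    omega
  rcases str hD hr hs h1 h2 with h3 | h3 | ⟨-, u, hu, hc, he⟩
  · omega
  · omega
  · have h4 : ∀ t, pr D t u = pr D t s + pr D t r := by
      intro t
      have := pr_of_rt hD (t := t) (a := 1) (b := 1) hu hs hr (fun i _ => by rw [he i]; ring)
      rw [this]
      ring
    exact ⟨u, hu, hc, he, h4, fun t ht => by
      rw [pr_comm hD hu ht, h4 t, pr_comm hD ht hs, pr_comm hD ht hr]⟩

/-- `⟨b, a^∨⟩ = 1` : the root `c = a - b`. -/
theorem exists_sub {a b : ℕ} (ha : a < D.nroots) (hb : b < D.nroots) (h : pr D a b = 1) :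
    ∃ c < D.nroots, (∀ i, rt D c i = rt D a i - rt D b i) ∧
      (∀ t, pr D t c = pr D t a - pr D t b) ∧ (∀ t < D.nroots, pr D c t = pr D a t - pr D b t) := by
  have hb' := RootVec.neg_lt hD.checked hb
  obtain ⟨u, hu, -, he, h1, h2⟩ := exists_add hD hb' ha (by rw [pr_neg_left hD hb, pr_comm hD hb ha, h])
  refine ⟨u, hu, fun i => by rw [he, rt_neg hD.checked hb]; ring, fun t => by rw [h1, pr_neg_right hD hb]; ring,
    fun t ht => by rw [h2 t ht, pr_neg_left hD hb]; ring⟩

/-- The number of `g` with prescribed pairings with `a` and `b`. -/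
def Nm (D : ChevalleyDatum) (a b : ℕ) (u v : ℤ) : Finset ℕ :=
  (Finset.range D.nroots).filter fun g => pr D a g = u ∧ pr D b g = v

omit hD in
theorem mem_Nm {a b g : ℕ} {u v : ℤ} : g ∈ Nm D a b u v ↔ g < D.nroots ∧ pr D a g = u ∧ pr D b g = v := by
  rw [Nm, Finset.mem_filter, Finset.mem_range]

theorem card_Nm_neg (a b : ℕ) (u v : ℤ) : (Nm D a b (-u) (-v)).card = (Nm D a b u v).card := by
  refine Finset.card_bij (fun g _ => D.neg g) (fun g hg => ?_) (fun g hg g' hg' e => ?_) (fun g hg => ?_)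
  · rw [mem_Nm] at hg ⊢
    obtain ⟨h1, h2, h3⟩ := hg
    exact ⟨RootVec.neg_lt hD.checked h1, by rw [pr_neg_right hD h1, h2, _root_.neg_neg],
      by rw [pr_neg_right hD h1, h3, _root_.neg_neg]⟩
  · rw [mem_Nm] at hg hg'
    exact RootVec.neg_inj hD.checked hg.1 hg'.1 e
  · rw [mem_Nm] at hg
    obtain ⟨h1, h2, h3⟩ := hg
    refine ⟨D.neg g, ?_, RootVec.neg_neg hD.checked h1⟩
    rw [mem_Nm]
    exact ⟨RootVec.neg_lt hD.checked h1, by rw [pr_neg_right hD h1, h2],
      by rw [pr_neg_right hD h1, h3]⟩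

/-- `⟨b, a^∨⟩ = 1` : exactly one root with `⟨g, a^∨⟩ = 1`, `⟨g, b^∨⟩ = -1`. -/
theorem card_Nm_one_neg {a b : ℕ} (ha : a < D.nroots) (hb : b < D.nroots) (h : pr D a b = 1) :
    (Nm D a b 1 (-1)).card = 1 := by
  obtain ⟨c, hc, -, h1, h2⟩ := exists_sub hD ha hb h
  rw [Finset.card_eq_one]
  refine ⟨c, Finset.ext fun g => ?_⟩
  rw [mem_Nm, Finset.mem_singleton]
  constructor
  · rintro ⟨hg, h3, h4⟩
    exact eq_of_pr_two hD hc hg (by rw [h2 g hg, h3, h4]; norm_num)
  · rintro rfl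
    refine ⟨hc, ?_, ?_⟩
    · rw [h1, pr_self hD ha, h]; norm_num
    · rw [h1, pr_self hD hb, pr_comm hD hb ha, h]; norm_num

/-- `⟨b, a^∨⟩ = -1` : exactly one root with `⟨g, a^∨⟩ = ⟨g, b^∨⟩ = 1`. -/
theorem card_Nm_one_one {a b : ℕ} (ha : a < D.nroots) (hb : b < D.nroots) (h : pr D a b = -1) :
    (Nm D a b 1 1).card = 1 := by
  obtain ⟨c, hc, -, -, h1, h2⟩ := exists_add hD ha hb h
  rw [Finset.card_eq_one]
  refine ⟨c, Finset.ext fun g => ?_⟩
  rw [mem_Nm, Finset.mem_singleton]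
  constructor
  · rintro ⟨hg, h3, h4⟩
    exact eq_of_pr_two hD hc hg (by rw [h2 g hg, h3, h4]; norm_num)
  · rintro rfl
    refine ⟨hc, ?_, ?_⟩
    · rw [h1, pr_self hD ha, h]; norm_num
    · rw [h1, pr_self hD hb, pr_comm hD hb ha, h]; norm_num

omit hD in
theorem sum_ite_card {n : ℕ} (p : ℕ → Prop) [DecidablePred p] :
    ∑ g ∈ Finset.range n, (if p g then (1 : ℤ) else 0) = (((Finset.range n).filter p).card : ℤ) := by
  rw [Finset.sum_boole]

/-- `⟨b, a^∨⟩ = 1` : the number of `g` with `⟨g, a^∨⟩ = ⟨g, b^∨⟩ = 1` is `h - 3`. -/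
theorem card_Nm_one {a b : ℕ} (ha : a < D.nroots) (hb : b < D.nroots) (h : pr D a b = 1) :
    2 * (Nm D a b 1 1).card + 6 = twoh D := by
  have hab : b ≠ a := by
    rintro rfl
    rw [pr_self hD ha] at h
    omega
  have hab' : b ≠ D.neg a := by
    rintro rfl
    rw [pr_neg_right hD ha, pr_self hD ha] at h
    omega
  have hna := RootVec.neg_lt hD.checked ha
  have hnb := RootVec.neg_lt hD.checked hb
  have hba : pr D b a = 1 := by rw [pr_comm hD hb ha, h]
  have key : ∀ g ∈ Finset.range D.nroots, pr D a g * pr D b g =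
      ((if pr D a g = 1 ∧ pr D b g = 1 then (1 : ℤ) else 0) + (if pr D a g = -1 ∧ pr D b g = -1 then (1 : ℤ) else 0)
      - (if pr D a g = 1 ∧ pr D b g = -1 then (1 : ℤ) else 0) - (if pr D a g = -1 ∧ pr D b g = 1 then (1 : ℤ) else 0))
      + 2 * ((if a = g then (1 : ℤ) else 0) + (if b = g then (1 : ℤ) else 0) + (if D.neg a = g then (1 : ℤ) else 0)
      + (if D.neg b = g then (1 : ℤ) else 0)) := by
    intro g hg
    rw [Finset.mem_range] at hg
    have hne1 : a ≠ D.neg a := (NPerm.neg_ne hD.inList ha).symm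
    have hne2 : b ≠ D.neg b := (NPerm.neg_ne hD.inList hb).symm
    have hne3 : a ≠ D.neg b := by
      rintro e
      apply hab'
      rw [e, RootVec.neg_neg hD.checked hb]
    have hne4 : D.neg a ≠ D.neg b := fun e => hab (RootVec.neg_inj hD.checked ha hb e).symm
    by_cases e1 : a = g
    · subst e1
      rw [pr_self hD ha, hba]
      simp [hab, hne1.symm, hne3.symm]
    by_cases e2 : b = g
    · subst e2
      rw [pr_self hD hb, h]
      simp [hab.symm, hab'.symm, hne2.symm]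
    by_cases e3 : D.neg a = g
    · subst e3
      rw [pr_neg_right hD ha, pr_neg_right hD ha, pr_self hD ha, hba]
      simp [hab', hne1, hne4.symm]
    by_cases e4 : D.neg b = g
    · subst e4
      rw [pr_neg_right hD hb, pr_neg_right hD hb, pr_self hD hb, h]
      simp [hne2, hne3, hne4]
    rw [if_neg e1, if_neg e2, if_neg e3, if_neg e4]
    rcases str hD ha hg (Ne.symm e1) (Ne.symm e3) with h1 | h1 | ⟨h1, -⟩ <;>
      rcases str hD hb hg (Ne.symm e2) (Ne.symm e4) with h2 | h2 | ⟨h2, -⟩ <;> rw [h1, h2] <;> norm_num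
  have hs := sum_pr hD ha hb
  rw [Finset.sum_congr rfl key, h, mul_one, Finset.sum_add_distrib, Finset.sum_sub_distrib, Finset.sum_sub_distrib,
    Finset.sum_add_distrib, ← Finset.mul_sum, Finset.sum_add_distrib, Finset.sum_add_distrib, Finset.sum_add_distrib,
    sum_ite_card, sum_ite_card, sum_ite_card, sum_ite_card, Finset.sum_ite_eq, Finset.sum_ite_eq, Finset.sum_ite_eq,
    Finset.sum_ite_eq, if_pos (Finset.mem_range.2 ha), if_pos (Finset.mem_range.2 hb), if_pos (Finset.mem_range.2 hna),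
    if_pos (Finset.mem_range.2 hnb)] at hs
  have c1 := card_Nm_neg hD a b 1 1
  have c2 := card_Nm_neg hD a b 1 (-1)
  have c3 := card_Nm_one_neg hD ha hb h
  rw [_root_.neg_neg] at c2
  have e1 : (Nm D a b 1 1) = (Finset.range D.nroots).filter fun g => pr D a g = 1 ∧ pr D b g = 1 := rfl
  have e2 : (Nm D a b (-1) (-1)) = (Finset.range D.nroots).filter fun g => pr D a g = -1 ∧ pr D b g = -1 := rfl
  have e3 : (Nm D a b 1 (-1)) = (Finset.range D.nroots).filter fun g => pr D a g = 1 ∧ pr D b g = -1 := rfl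
  have e4 : (Nm D a b (-1) 1) = (Finset.range D.nroots).filter fun g => pr D a g = -1 ∧ pr D b g = 1 := rfl
  rw [← e1, ← e2, ← e3, ← e4, c1, c2, c3] at hs
  have : (2 * ((Nm D a b 1 1).card : ℤ) + 6) = (twoh D : ℤ) := by
    push_cast at hs
    linarith
  exact_mod_cast this

/-- **Parity** : for `⟨b, a^∨⟩ = ± 1` the number of roots `g` with `⟨g, a^∨⟩ = ⟨g, b^∨⟩ = 1` is odd. -/
theorem odd_card {a b : ℕ} (ha : a < D.nroots) (hb : b < D.nroots) (h : pr D a b = 1 ∨ pr D a b = -1) :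
    Odd ((Finset.range D.nroots).filter fun g => pr D a g = 1 ∧ pr D b g = 1).card := by
  change Odd (Nm D a b 1 1).card
  rcases h with h | h
  · have h1 := card_Nm_one hD ha hb h
    have h2 := twoh_mod hD
    rw [Nat.odd_iff]
    omega
  · rw [card_Nm_one_one hD ha hb h]
    exact odd_one

omit hD in
/-- An involution of a finite set of odd order has a fixed point. -/
theorem exists_fixed_of_odd {S : Finset ℕ} (hS : Odd S.card) (w : ℕ → ℕ) (h1 : ∀ g ∈ S, w g ∈ S)
    (h2 : ∀ g ∈ S, w (w g) = g) : ∃ g ∈ S, w g = g := by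
  have hσ : Function.Involutive (fun g : S => (⟨w g, h1 g g.2⟩ : S)) := fun g => Subtype.ext (h2 g g.2)
  obtain ⟨g, hg⟩ := Equiv.Perm.exists_fixed_point_of_prime (p := 2) (n := 1) (σ := hσ.toPerm)
    (by rw [Fintype.card_coe]; exact hS.not_two_dvd_nat) (by
      ext g
      rw [pow_one, pow_two]
      exact congrArg Subtype.val (hσ g))
  exact ⟨g, g.2, congrArg Subtype.val hg⟩

/-- An involutive isometry `w` of the roots with `⟨wa, a^∨⟩ = ± 1` or `wa = a` fixes a root `g` not orthogonal to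
`a`. -/
theorem exists_fixed {w : ℕ → ℕ} (hw : ∀ g < D.nroots, w g < D.nroots) (hw2 : ∀ g < D.nroots, w (w g) = g)
    (hpr : ∀ r < D.nroots, ∀ s < D.nroots, pr D (w r) (w s) = pr D r s) {a : ℕ} (ha : a < D.nroots)
    (h1 : w a ≠ D.neg a) (h : pr D a (w a) ≠ 0) : ∃ g < D.nroots, w g = g ∧ pr D g a ≠ 0 := by
  by_cases h2 : w a = a
  · exact ⟨a, ha, h2, by rw [pr_self hD ha]; norm_num⟩
  have h3 : pr D a (w a) = 1 ∨ pr D a (w a) = -1 := by
    rcases str hD ha (hw a ha) h2 h1 with h3 | h3 | ⟨h3, -⟩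
    exacts [absurd h3 h, Or.inl h3, Or.inr h3]
  have h4 : ∀ g ∈ (Finset.range D.nroots).filter (fun g => pr D a g = 1 ∧ pr D (w a) g = 1),
      w g ∈ (Finset.range D.nroots).filter (fun g => pr D a g = 1 ∧ pr D (w a) g = 1) := by
    intro g hg
    obtain ⟨hg0, hg3, hg4⟩ := Finset.mem_filter.1 hg
    rw [Finset.mem_range] at hg0
    refine Finset.mem_filter.2 ⟨Finset.mem_range.2 (hw g hg0), ?_, ?_⟩
    · rw [← hpr a ha (w g) (hw g hg0), hw2 g hg0, hg4]
    · rw [hpr a ha g hg0, hg3]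
  obtain ⟨g, hg, hg2⟩ := exists_fixed_of_odd (odd_card hD ha (hw a ha) h3) w h4
    (fun g hg => hw2 g (Finset.mem_range.1 (Finset.mem_filter.1 hg).1))
  obtain ⟨hg0, hg3, -⟩ := Finset.mem_filter.1 hg
  rw [Finset.mem_range] at hg0
  exact ⟨g, hg0, hg2, by rw [pr_comm hD hg0 ha, hg3]; exact one_ne_zero⟩

end

end Cfsg.Agent.H179.OT
end

-- part: H179/OT/F4
section
/-!
# S2539: root-table facts for `F₄` (helper179)

`F4.exists_fixed` : an involutive isometry `w` of the roots with `wa ≠ -a` fixes a root `g` with `⟨a, g^∨⟩ ≠ 0`.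
-/

set_option autoImplicit false
set_option linter.unusedSectionVars false

namespace Cfsg.Agent.H179.OT.F4

open Cfsg Cfsg.Lie Cfsg.Lie.ChevalleyDatum
open Cfsg.Agent.ChevalleyStructure Cfsg.Agent.ChevalleyStructure.Elts Cfsg.Agent.ChevalleyStructure.RootVec
  Cfsg.Agent.ChevalleyStructure.RootVecTab
open Cfsg.Agent.H412.OT (pr)

/-- The pairing, for kernel evaluation. -/
def prK (D : ChevalleyDatum) (r s : ℕ) : ℤ :=
  Nat.rec 0 (fun i ih => Int.add ih (Int.mul ((D.coroot.getD r #[]).getD i 0) ((D.cartanSR.getD i #[]).getD s 0))) D.rank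

theorem prK_eq (D : ChevalleyDatum) (r s : ℕ) : prK D r s = pr D r s := by
  change prK D r s = ∑ i ∈ Finset.range D.rank, (D.coroot.getD r #[]).getD i 0 * D.cartan i s
  unfold prK
  induction D.rank with
  | zero => rfl
  | succ n ih => rw [Finset.sum_range_succ, ← ih]; rfl

/-- The table `16 ^ (48 r + s) (⟨s, r^∨⟩ + 4)`. -/
def T : ℕ :=
  0x6555554555454445545445453434434334443433343333325655545554545445454544535344343434434343334333235565455545544544554453344553443344344334333432336666666555555554444444444444444443333333322222225545655454455454334435544335445543433443433234335455565445454553434344353544545453343434432333434555556444545553343443435454454553334344423333346665444655544436665554444443332225444333244432226645644564455346445536644225334424533442344234226465464546453544645354262643534244353424342432424665446544635544463552426463352444335244324432246445664455364454425336462425536443442533442234424645646453546454243534626245354643424353424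2342444654664355446524433522446635544632443354224324444456663444555622233344444455566623334445222344455444335544443365555455443343333255444433554443354543435454434356554543535434332354544343545434345543345445344355645534354533423354453443455433464444425553533366464464624244242255535333644444246444245535353364646446262442424255353533464442444642445355335346644622446624422453553353446424454345434543543454354365533254354345435434543454345345344534453453445356352353445345344534453453453444534453534445353453625345353444535344534445335444354435354443535435263543535444353544354443543543544354435435443532536535443543544354435435434543454345345434534523355634534543453454345434544246443533553542244266442264466435335535442464442444643353535524242442626446464633535355424446424444463335355522424424264644646633353555244444643345543443544533243354534355465534435445433455434345453434454532334345353454556534344545343454533444553344445523333433445545555633444455334445544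4322254443332666555444444333222655544436665444442342245334423644553664422533442564455346645644424324243534243464535426264353424546453546465464244322443352443446355242646335244544635544665446422344234425334442533646242553644455364456445664242342434243534424353462624535464453546454645646224324432443354244335224466355446435544654465466222344423334445222333444444555666344455564445666433333244434333554544545343443433555454446555554343332344343433545454453534434343554545445655545334323343443343455445334455344334545544545565455222222233333333444444444444444444555555556666666332343334334434433443554433544554454455455545655323334333434344343434435354454545445454555455565233333433343444334344343545445455444545554555556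

def t (r s : ℕ) : ℕ := Nat.mod (Nat.shiftRight T (Nat.mul 4 (Nat.add (Nat.mul 48 r) s))) 16

theorem tab : allLT (fun r => allLT (fun s => decide (prK chevF4 r s = Int.sub (t r s) 4)) 48) 48 = true := by
  decide +kernel

theorem pr_eq_t {r s : ℕ} (hr : r < 48) (hs : s < 48) : pr chevF4 r s = (t r s : ℤ) - 4 := by
  have h := tab
  simp only [allLT_iff, decide_eq_true_eq] at h
  rw [← prK_eq, h r hr s hs]
  rfl

/-- Parity of the number of `i < n` with `f i`. -/
def par (f : ℕ → Bool) : ℕ → Bool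
  | 0 => false
  | n + 1 => bif f n then !(par f n) else par f n

theorem par_iff (f : ℕ → Bool) (n : ℕ) : par f n = true ↔ Odd ((Finset.range n).filter fun i => f i = true).card := by
  induction n with
  | zero => simp [par]
  | succ n ih =>
    rw [Finset.range_add_one, Finset.filter_insert, par]
    by_cases h : f n = true
    · rw [if_pos h, h, cond_true, Finset.card_insert_of_notMem (by simp), Nat.odd_add_one, ← ih]
      cases par f n <;> simp
    · rw [if_neg h, ← ih]
      rw [Bool.not_eq_true] at h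
      rw [h, cond_false]

def isL (a : ℕ) : Bool := allLT (fun s => bif Nat.beq (t a s) 6 then Nat.beq s a else true) 48

def sel (a b u v g : ℕ) : Bool :=
  bif Nat.beq (t a g) u then bif Nat.beq (t b g) u then bif Nat.beq (t g a) v then Nat.beq (t g b) v
    else false else false else false

def chk : Bool :=
  allLT (fun a => allLT (fun b => bif Nat.beq a b then true else bif Nat.beq (Nat.add a b) 47 then true else
    bif (isL a).xor (isL b) then true else bif par (sel a b 5 5) 48 then true else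
      bif par (sel a b 5 6) 48 then true else par (sel a b 6 5) 48) 48) 48

theorem chk_true : chk = true := by decide +kernel

theorem n48 : chevF4.nroots = 48 := rfl

theorem cond_iff {a b : Bool} : (bif a then b else false) = true ↔ a = true ∧ b = true := by
  cases a <;> cases b <;> simp

theorem sel_iff {a b g u v : ℕ} (ha : a < 48) (hb : b < 48) (hg : g < 48) :
    sel a b u v g = true ↔ (pr chevF4 a g = (u : ℤ) - 4 ∧ pr chevF4 b g = (u : ℤ) - 4) ∧
      (pr chevF4 g a = (v : ℤ) - 4 ∧ pr chevF4 g b = (v : ℤ) - 4) := by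
  rw [pr_eq_t ha hg, pr_eq_t hb hg, pr_eq_t hg ha, pr_eq_t hg hb, sel, cond_iff, cond_iff, cond_iff, beq_iff, beq_iff,
    beq_iff, beq_iff]
  constructor
  · rintro ⟨h1, h2, h3, h4⟩
    exact ⟨⟨by omega, by omega⟩, by omega, by omega⟩
  · rintro ⟨⟨h1, h2⟩, h3, h4⟩
    exact ⟨by omega, by omega, by omega, by omega⟩

theorem isL_iff {a : ℕ} (ha : a < 48) : isL a = true ↔ ∀ s < 48, pr chevF4 a s = 2 → s = a := by
  rw [isL, allLT_iff]
  refine forall₂_congr fun s hs => ?_
  rw [pr_eq_t ha hs]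
  cases h : Nat.beq (t a s) 6
  · have h1 : t a s ≠ 6 := by
      intro e
      rw [← beq_iff, h] at e
      exact Bool.false_ne_true e
    simp only [cond_false, true_iff]
    intro h2
    omega
  · rw [beq_iff] at h
    rw [cond_true, beq_iff, h]
    norm_num

theorem isL_eq {a b : ℕ} {w : ℕ → ℕ} (hw : ∀ g < 48, w g < 48) (hw2 : ∀ g < 48, w (w g) = g)
    (hpr : ∀ r < 48, ∀ s < 48, pr chevF4 (w r) (w s) = pr chevF4 r s) (ha : a < 48) (hb : b < 48)
    (hab : w a = b) (h : isL a = true) : isL b = true := by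
  rw [isL_iff ha] at h
  rw [isL_iff hb]
  intro s hs h1
  have h2 : pr chevF4 a (w s) = 2 := by
    rw [← hpr a ha (w s) (hw s hs), hw2 s hs, hab, h1]
  rw [← hw2 s hs, h (w s) (hw s hs) h2, hab]

theorem exists_fixed_aux {a b u v : ℕ} {w : ℕ → ℕ} (hw : ∀ g < 48, w g < 48) (hw2 : ∀ g < 48, w (w g) = g)
    (hpr : ∀ r < 48, ∀ s < 48, pr chevF4 (w r) (w s) = pr chevF4 r s) (ha : a < 48) (hb : b < 48)
    (hab : w a = b) (hv : v ≠ 4) (h : par (sel a b u v) 48 = true) :
    ∃ g < 48, w g = g ∧ pr chevF4 g a ≠ 0 := by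
  rw [par_iff] at h
  have hba : w b = a := by rw [← hab, hw2 a ha]
  obtain ⟨g, hg, hg2⟩ := exists_fixed_of_odd h w (fun g hg => by
    obtain ⟨hg1, hg2⟩ := Finset.mem_filter.1 hg
    rw [Finset.mem_range] at hg1
    rw [sel_iff ha hb hg1] at hg2
    obtain ⟨⟨h1, h2⟩, h3, h4⟩ := hg2
    refine Finset.mem_filter.2 ⟨Finset.mem_range.2 (hw g hg1), ?_⟩
    rw [sel_iff ha hb (hw g hg1)]
    refine ⟨⟨?_, ?_⟩, ?_, ?_⟩
    · rw [← hba, hpr b hb g hg1, h2]
    · rw [← hab, hpr a ha g hg1, h1]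
    · rw [← hba, hpr g hg1 b hb, h4]
    · rw [← hab, hpr g hg1 a ha, h3]) (fun g hg => hw2 g (Finset.mem_range.1 (Finset.mem_filter.1 hg).1))
  obtain ⟨hg1, hg3⟩ := Finset.mem_filter.1 hg
  rw [Finset.mem_range] at hg1
  rw [sel_iff ha hb hg1] at hg3
  refine ⟨g, hg1, hg2, ?_⟩
  rw [hg3.2.1]
  omega

/-- **`F₄`** : an involutive isometry `w` of the roots with `wa ≠ -a` fixes a root `g` with `⟨a, g^∨⟩ ≠ 0`. -/
theorem exists_fixed {w : ℕ → ℕ} (hw : ∀ g < chevF4.nroots, w g < chevF4.nroots)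
    (hw2 : ∀ g < chevF4.nroots, w (w g) = g)
    (hpr : ∀ r < chevF4.nroots, ∀ s < chevF4.nroots, pr chevF4 (w r) (w s) = pr chevF4 r s) {a : ℕ}
    (ha : a < chevF4.nroots) (h1 : w a ≠ chevF4.neg a) :
    ∃ g < chevF4.nroots, w g = g ∧ pr chevF4 g a ≠ 0 := by
  have hin : InList chevF4 := by simp [InList]
  have hneg := RootVec.neg_eq (checked_of_mem hin) ha
  rw [n48] at *
  have hb := hw a ha
  by_cases h2 : w a = a
  · refine ⟨a, ha, h2, ?_⟩
    have : pr chevF4 a a = 2 := (StringMem.rootOK_of_mem hin ha).cartan_self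
    rw [this]
    norm_num
  have hL : isL a = isL (w a) := by
    rw [Bool.eq_iff_iff]
    exact ⟨isL_eq hw hw2 hpr ha hb rfl, isL_eq hw hw2 hpr hb ha (hw2 a ha)⟩
  have h := chk_true
  rw [chk, allLT_iff] at h
  have h3 := h a ha
  rw [allLT_iff] at h3
  have h4 := h3 (w a) hb
  have e1 : Nat.beq a (w a) = false := by
    rw [← Bool.not_eq_true, beq_iff]
    exact fun e => h2 e.symm
  have e2 : Nat.beq (Nat.add a (w a)) 47 = false := by
    rw [← Bool.not_eq_true, beq_iff]
    intro e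
    have : a + w a = 47 := e
    apply h1
    rw [hneg]
    omega
  rw [e1, e2, hL, Bool.xor_self, cond_false, cond_false, cond_false] at h4
  cases h5 : par (sel a (w a) 5 5) 48
  · cases h6 : par (sel a (w a) 5 6) 48
    · rw [h5, h6, cond_false, cond_false] at h4
      exact exists_fixed_aux hw hw2 hpr ha hb rfl (by norm_num) h4
    · exact exists_fixed_aux hw hw2 hpr ha hb rfl (by norm_num) h6
  · exact exists_fixed_aux hw hw2 hpr ha hb rfl (by norm_num) h5

end Cfsg.Agent.H179.OT.F4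
end

private theorem dce_fc2b084969de : _root_.True := by
  try have : _root_.True := by simp only [_root_.Cfsg.Agent.H179.OT.F4.isL.eq_1]
  try have : _root_.True := by simp only [_root_.Cfsg.Agent.H179.OT.SLD.eq_1]
  try have : _root_.True := by simp only [_root_.Cfsg.Agent.H179.OT.F4.sel.eq_1]
  try have : _root_.True := by simp only [_root_.Cfsg.Agent.H179.OT.F4.par.eq_1]
  try have : _root_.True := by simp only [_root_.Cfsg.Agent.H179.OT.F4.par.eq_def]
  try have : _root_.True := by simp only [_root_.Cfsg.Agent.H179.OT.F4.chk.eq_1]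
  try have : _root_.True := by simp only [_root_.Cfsg.Agent.H179.OT.chkCoRt.eq_1]
  try have : _root_.True := by simp only [_root_.Cfsg.Agent.H179.OT.Nm.eq_1]
  try have : _root_.True := by simp only [_root_.Cfsg.Agent.H179.OT.F4.par.eq_2]
  try have : _root_.True := by simp only [_root_.Cfsg.Agent.H179.OT.chkSum.eq_1]
  try have : _root_.True := by simp only [_root_.Cfsg.Agent.H179.OT.chkLen.eq_1]
  exact _root_.True.intro
end

-- part: H876/OT/Neg
section
set_option linter.all false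
open scoped Cfsg.Agent.FastGrp

/-!
# S2539, part 3.1: involutions of the root system (helper876)

`neg_of_inv` : `D ∈ {D4, F4, E6, E7, E8}`, `w` an involution of the roots preserving the pairing, `P` a `w`-invariant set of
roots, every fixed root of `w` orthogonal to `P`, (simply laced) `⟨wa, a^∨⟩ ≠ 0` for `a ∈ P`: then `w a = -a` on `P`.
-/

set_option autoImplicit false

namespace Cfsg.Agent.H876.OT

open Cfsg.Lie Cfsg.Agent.H412.OT
open Cfsg.Agent.ChevalleyStructure Cfsg.Agent.ChevalleyStructure.RootCombGood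
  Cfsg.Agent.ChevalleyStructure.RootCombBase Cfsg.Agent.ChevalleyStructure.RootCombBridge
  Cfsg.Agent.ChevalleyStructure.RootCombTab Cfsg.Agent.ChevalleyStructure.RootWord

/-! ### Parity of counts -/

/-- parity of the number of `k < n` with `P k` -/
def oddLt (P : ℕ → Bool) (n : ℕ) : Bool :=
  Nat.rec (motive := fun _ => Bool) false (fun k ih => xor (P k) ih) n

theorem oddLt_spec (P : ℕ → Bool) : ∀ n, oddLt P n = true ↔ Odd ((Finset.range n).filter (fun k => P k = true)).card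
  | 0 => by
    show false = true ↔ _
    simp
  | n + 1 => by
    have ih := oddLt_spec P n
    show xor (P n) (oddLt P n) = true ↔ _
    rw [Finset.range_add_one, Finset.filter_insert]
    cases h : P n with
    | false =>
      rw [if_neg (by simp), ← ih]
      simp
    | true =>
      rw [if_pos rfl, Finset.card_insert_of_notMem (by simp), Nat.odd_add_one, ← ih]
      cases oddLt P n <;> simp

/-! ### Maps preserving the pairing -/

/-- an involution of the roots that preserves the pairing -/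
structure PrMap (D : ChevalleyDatum) (w : ℕ → ℕ) : Prop where
  lt : ∀ {r : ℕ}, r < D.nroots → w r < D.nroots
  pr : ∀ {r s : ℕ}, r < D.nroots → s < D.nroots → pr D (w r) (w s) = pr D r s
  inv : ∀ {r : ℕ}, r < D.nroots → w (w r) = r

variable {D : ChevalleyDatum}

theorem prMap_reflect (G : Good D) {i : ℕ} (hi : i < D.rank) : PrMap D (D.reflectRoot i) :=
  ⟨fun hr => G.reflect_lt hi hr, fun hr hs => car_reflect G hi hr hs, fun hr => G.reflect_reflect hi hr⟩

/-- the roots with all four Cartan integers `1` -/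
def NN (D : ChevalleyDatum) (a b : ℕ) : Finset ℕ :=
  (Finset.range D.nroots).filter fun g => pr D a g = 1 ∧ pr D b g = 1 ∧ pr D g a = 1 ∧ pr D g b = 1

theorem mem_NN {a b g : ℕ} : g ∈ NN D a b ↔ g < D.nroots ∧ pr D a g = 1 ∧ pr D b g = 1 ∧ pr D g a = 1 ∧ pr D g b = 1 := by
  rw [NN, Finset.mem_filter, Finset.mem_range]

theorem PrMap.map_NN {w : ℕ → ℕ} (h : PrMap D w) {a b g : ℕ} (ha : a < D.nroots) (hb : b < D.nroots)
    (hg : g ∈ NN D a b) : w g ∈ NN D (w a) (w b) := by
  rw [mem_NN] at hg ⊢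
  obtain ⟨h0, h1, h2, h3, h4⟩ := hg
  exact ⟨h.lt h0, by rw [h.pr ha h0, h1], by rw [h.pr hb h0, h2], by rw [h.pr h0 ha, h3], by rw [h.pr h0 hb, h4]⟩

theorem NN_comm (a b : ℕ) : NN D a b = NN D b a := by
  ext g
  rw [mem_NN, mem_NN]
  tauto

theorem PrMap.card_NN {w : ℕ → ℕ} (h : PrMap D w) {a b : ℕ} (ha : a < D.nroots) (hb : b < D.nroots) :
    (NN D (w a) (w b)).card = (NN D a b).card := by
  refine Finset.card_nbij' w w ?_ ?_ ?_ ?_
  · intro g hg
    have := h.map_NN (h.lt ha) (h.lt hb) hg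
    rwa [h.inv ha, h.inv hb] at this
  · intro g hg
    exact h.map_NN ha hb hg
  · intro g hg
    exact h.inv (mem_NN.1 hg).1
  · intro g hg
    exact h.inv (mem_NN.1 hg).1

/-- an involution of an odd set has a fixed point -/
theorem exists_fixed {S : Finset ℕ} (hS : Odd S.card) {w : ℕ → ℕ} (h1 : ∀ g ∈ S, w g ∈ S) (h2 : ∀ g ∈ S, w (w g) = g) :
    ∃ g ∈ S, w g = g := by
  by_contra hcon
  push Not at hcon
  have h3 : ∑ x ∈ S, (1 : ZMod 2) = 0 :=
    Finset.sum_involution (fun g _ => w g) (fun _ _ => by decide) (fun g hg _ => hcon g hg) (fun g hg => h1 g hg)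
      (fun g hg => h2 g hg)
  rw [Finset.sum_const, nsmul_eq_mul, mul_one, ZMod.natCast_eq_zero_iff] at h3
  exact (Nat.not_odd_iff_even.2 (even_iff_two_dvd.2 h3)) hS

/-! ### The table -/

/-- the pairing from the packed table -/
def carT (T : Tab) (r s : ℕ) : ℤ := isum (fun k => Int.mul (T.coroZ r k) (T.cartZ k s)) T.l

theorem carT_eq {T : Tab} (B : Bridged D T) {r s : ℕ} (hr : r < T.n) (hs : s < T.n) : carT T r s = pr D r s := by
  show carT T r s = car D r s
  unfold carT car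
  rw [isum_eq, B.rank]
  refine Finset.sum_congr rfl fun k hk => ?_
  have hk := Finset.mem_range.1 hk
  show T.coroZ r k * T.cartZ k s = co D r k * D.cartan k s
  rw [B.cartan k hk s hs]
  congr 1
  exact (B.co r hr k hk).symm

theorem cartN_iff {T : Tab} (B : Bridged D T) (G : Good D) {i s : ℕ} (hi : i < T.l) (hs : s < T.n) (m : ℕ) :
    Nat.beq (T.cartN i s) m = true ↔ pr D (T.simpN i) s = (m : ℤ) - 8 := by
  have h1 : pr D (T.simpN i) s = D.cartan i s := by
    rw [← B.simple i hi]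
    exact car_simple G (by rw [B.rank]; exact hi) s
  rw [h1, B.cartan i hi s hs, cartZ_eq, Nat.beq_eq]
  constructor
  · intro h
    rw [h]
  · intro h
    omega

theorem ieq_iff {a b : ℤ} : ieq a b = true ↔ a = b := by
  constructor
  · exact ieq_spec
  · rintro rfl
    cases a <;> exact Nat.beq_refl _

/-- the number of roots `g` with `⟨g, a^∨⟩ = ⟨g, b^∨⟩ = ⟨a, g^∨⟩ = ⟨b, g^∨⟩ = 1` is odd if `⟨a, b^∨⟩ = ⟨b, a^∨⟩ = 1`:
the check for `a` a simple root -/
def chkOI (T : Tab) (i : ℕ) : Bool :=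
  allLt (fun s =>
    or (not (and (Nat.beq (T.cartN i s) 9) (ieq (carT T s (T.simpN i)) 1))) <|
    or (anyLt (fun j => and (Nat.beq (T.reflN j (T.simpN i)) (T.simpN i)) (Nat.blt (T.reflN j s) s)) T.l)
      (oddLt (fun g => and (Nat.beq (T.cartN i g) 9) <| and (ieq (carT T s g) 1) <|
        and (ieq (carT T g (T.simpN i)) 1) (ieq (carT T g s) 1)) T.n)) T.n

/-- the check for all simple roots -/
def chkO (T : Tab) : Bool :=
  allLt (fun i => or (anyLt (fun j => Nat.beq (T.reflN j (T.reflN i (T.simpN j))) (T.simpN i)) i) (chkOI T i)) T.l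

theorem odd_simple {T : Tab} (B : Bridged D T) (G : Good D) {i s : ℕ} (h : chkOI T i = true) (hi : i < D.rank)
    (hs : s < D.nroots) (h1 : pr D (D.simple i) s = 1) (h2 : pr D s (D.simple i) = 1) :
    Odd (NN D (D.simple i) s).card := by
  induction s using Nat.strong_induction_on with | _ s ih => ?_
  have hi' : i < T.l := by rw [← B.rank]; exact hi
  have hs' : s < T.n := by rw [← B.nroots]; exact hs
  have hsi : D.simple i = T.simpN i := B.simple i hi'
  have hsl : T.simpN i < T.n := by rw [← hsi, ← B.nroots]; exact G.simple_lt hi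
  rw [hsi] at h1 h2 ih ⊢
  have h3 := allLt_spec h s hs'
  rw [Bool.or_eq_true, Bool.or_eq_true] at h3
  rcases h3 with h3 | h3 | h3
  · exfalso
    rw [Bool.not_eq_true', ← Bool.not_eq_true] at h3
    apply h3
    rw [Bool.and_eq_true, cartN_iff B G hi' hs', ieq_iff, carT_eq B hs' hsl, h1, h2]
    exact ⟨by norm_num, rfl⟩
  · obtain ⟨j, hj, h4⟩ := anyLt_spec h3
    rw [Bool.and_eq_true, Nat.beq_eq, Nat.blt_eq, ← B.refl j hj _ hsl, ← B.refl j hj _ hs'] at h4
    have W := prMap_reflect G (B.rank ▸ hj)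
    have ha : T.simpN i < D.nroots := B.nroots ▸ hsl
    have h5 := ih _ h4.2 (W.lt hs) (by rw [← h1, ← W.pr ha hs, h4.1]) (by rw [← h2, ← W.pr hs ha, h4.1])
    rwa [← W.card_NN ha hs, h4.1]
  · rw [oddLt_spec] at h3
    have h4 : (Finset.range T.n).filter (fun g => (and (Nat.beq (T.cartN i g) 9) <| and (ieq (carT T s g) 1) <|
        and (ieq (carT T g (T.simpN i)) 1) (ieq (carT T g s) 1)) = true) = NN D (T.simpN i) s := by
      ext g
      rw [Finset.mem_filter, Finset.mem_range, mem_NN, B.nroots]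
      constructor
      · rintro ⟨hg, h5⟩
        simp only [Bool.and_eq_true] at h5
        rw [cartN_iff B G hi' hg, ieq_iff, ieq_iff, ieq_iff, carT_eq B hs' hg, carT_eq B hg hsl, carT_eq B hg hs'] at h5
        obtain ⟨h6, h7, h8, h9⟩ := h5
        exact ⟨hg, by rw [h6]; norm_num, h7, h8, h9⟩
      · rintro ⟨hg, h6, h7, h8, h9⟩
        refine ⟨hg, ?_⟩
        simp only [Bool.and_eq_true]
        rw [cartN_iff B G hi' hg, ieq_iff, ieq_iff, ieq_iff, carT_eq B hs' hg, carT_eq B hg hsl, carT_eq B hg hs', h6]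
        exact ⟨by norm_num, h7, h8, h9⟩
    rw [h4] at h3
    exact h3

theorem odd_NN (hD : D ∈ [chevG2, chevB2, chevD4, chevF4, chevE6, chevE7, chevE8]) {T : Tab} (B : Bridged D T)
    (h : chkO T = true) : ∀ a < D.nroots, ∀ b < D.nroots, pr D a b = 1 → pr D b a = 1 → Odd (NN D a b).card := by
  have G := RootComb.good_of_mem hD
  have hr : ∀ i < D.rank, ∀ a < D.nroots, (∀ b < D.nroots, pr D a b = 1 → pr D b a = 1 → Odd (NN D a b).card) →
      ∀ b < D.nroots, pr D (D.reflectRoot i a) b = 1 → pr D b (D.reflectRoot i a) = 1 →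
        Odd (NN D (D.reflectRoot i a) b).card := by
    intro i hi a ha ih b hb h1 h2
    have W := prMap_reflect G hi
    have hb' := W.lt hb
    have e : D.reflectRoot i (D.reflectRoot i b) = b := W.inv hb
    rw [← e] at h1 h2 ⊢
    rw [W.pr ha hb'] at h1
    rw [W.pr hb' ha] at h2
    rw [W.card_NN ha hb']
    exact ih _ hb' h1 h2
  refine Reach.reach hD (fun a => ∀ b < D.nroots, pr D a b = 1 → pr D b a = 1 → Odd (NN D a b).card) (fun i => ?_) hr
  induction i using Nat.strong_induction_on with | _ i ih => ?_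
  intro hi
  have hi' : i < T.l := B.rank ▸ hi
  rcases Bool.or_eq_true_iff.1 (allLt_spec h i hi') with h1 | h1
  · obtain ⟨j, hj, h2⟩ := anyLt_spec h1
    have hj' := hj.trans hi
    have h3 := G.simple_lt hj'
    have h4 := G.reflect_lt hi h3
    rw [Nat.beq_eq, ← B.simple j (hj.trans hi'), ← B.simple i hi', ← B.refl i hi' _ (B.nroots ▸ h3),
      ← B.refl j (hj.trans hi') _ (B.nroots ▸ h4)] at h2
    rw [← h2]
    exact hr j hj' _ h4 (hr i hi _ h3 (ih j hj hj'))
  · exact fun s hs => odd_simple B G h1 hi hs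

theorem bridgeD4 : Bridged chevD4 tabD4 :=
  bridged_of_check (by decide +kernel) (by decide +kernel) (by decide +kernel) (by decide +kernel)

theorem bridgeF4 : Bridged chevF4 tabF4 :=
  bridged_of_check (by decide +kernel) (by decide +kernel) (by decide +kernel) (by decide +kernel)

theorem bridgeE6 : Bridged chevE6 tabE6 :=
  bridged_of_check (by decide +kernel) (by decide +kernel) (by decide +kernel) (by decide +kernel)

theorem bridgeE7 : Bridged chevE7 tabE7 :=
  bridged_of_check (by decide +kernel) (by decide +kernel) (by decide +kernel) (by decide +kernel)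

theorem bridgeE8 : Bridged chevE8 tabE8 :=
  bridged_of_check (by decide +kernel) (by decide +kernel) (by decide +kernel) (by decide +kernel)

theorem chkO_D4 : chkO tabD4 = true := by decide +kernel
theorem chkO_F4 : chkO tabF4 = true := by decide +kernel
theorem chkO_E6 : chkO tabE6 = true := by decide +kernel
theorem chkO_E7 : chkO tabE7 = true := by decide +kernel
theorem chkO_E8 : chkO tabE8 = true := by decide +kernel

/-! ### `F4`: orthogonal roots of the same length -/

/-- short roots of `F4` -/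
def Sh (D : ChevalleyDatum) (a : ℕ) : Prop := ∃ s < D.nroots, pr D a s = 2 ∧ pr D s a = 1

theorem PrMap.sh {w : ℕ → ℕ} (h : PrMap D w) {a : ℕ} (ha : a < D.nroots) (hs : Sh D a) : Sh D (w a) := by
  obtain ⟨s, hs, h1, h2⟩ := hs
  exact ⟨w s, h.lt hs, by rw [h.pr ha hs, h1], by rw [h.pr hs ha, h2]⟩

theorem PrMap.sh_iff {w : ℕ → ℕ} (h : PrMap D w) {a : ℕ} (ha : a < D.nroots) : Sh D (w a) ↔ Sh D a := by
  refine ⟨fun h1 => ?_, h.sh ha⟩
  have := h.sh (h.lt ha) h1
  rwa [h.inv ha] at this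

/-- `m u = a + b` in the root lattice -/
def IsSum (D : ChevalleyDatum) (m : ℤ) (u a b : ℕ) : Prop := ∀ s < D.nroots, m * pr D s u = pr D s a + pr D s b

theorem PrMap.isSum {w : ℕ → ℕ} (h : PrMap D w) {m : ℤ} {u a b : ℕ} (hu : u < D.nroots) (ha : a < D.nroots)
    (hb : b < D.nroots) (H : IsSum D m u a b) : IsSum D m (w u) (w a) (w b) := by
  have key : ∀ s < D.nroots, ∀ x < D.nroots, Cfsg.Agent.H412.OT.pr D s (w x) = Cfsg.Agent.H412.OT.pr D (w s) x := by
    intro s hs x hx
    rw [← h.pr hs (h.lt hx), h.inv hx]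
  intro s hs
  rw [key s hs u hu, key s hs a ha, key s hs b hb]
  exact H _ (h.lt hs)

def shT (T : Tab) (a : ℕ) : Bool := anyLt (fun s => and (ieq (carT T a s) 2) (ieq (carT T s a) 1)) T.n

theorem anyLt_intro {P : ℕ → Bool} : ∀ {n : ℕ} {k : ℕ}, k < n → P k = true → anyLt P n = true
  | 0, k, hk, _ => absurd hk (Nat.not_lt_zero k)
  | n + 1, k, hk, h => by
    show or (P n) (anyLt P n) = true
    rw [Bool.or_eq_true]
    rcases Nat.lt_succ_iff_lt_or_eq.1 hk with h1 | h1
    · exact Or.inr (anyLt_intro h1 h)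
    · subst h1
      exact Or.inl h

theorem shT_iff {T : Tab} (B : Bridged D T) {a : ℕ} (ha : a < T.n) : shT T a = true ↔ Sh D a := by
  constructor
  · intro h
    obtain ⟨s, hs, h1⟩ := anyLt_spec h
    rw [Bool.and_eq_true, ieq_iff, ieq_iff, carT_eq B ha hs, carT_eq B hs ha] at h1
    exact ⟨s, by rw [B.nroots]; exact hs, h1.1, h1.2⟩
  · rintro ⟨s, hs, h1, h2⟩
    rw [B.nroots] at hs
    refine anyLt_intro hs ?_
    rw [Bool.and_eq_true, ieq_iff, ieq_iff, carT_eq B ha hs, carT_eq B hs ha]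
    exact ⟨h1, h2⟩

/-- the check for the sums of orthogonal roots -/
def chkS (T : Tab) : Bool :=
  allLt (fun i => allLt (fun s =>
    or (not (Nat.beq (T.cartN i s) 8)) <| or (xor (shT T (T.simpN i)) (shT T s)) <|
      anyLt (fun u => or (allLt (fun j => ieq (T.cartZ j u) (Int.add (T.cartZ j (T.simpN i)) (T.cartZ j s))) T.l)
        (allLt (fun j => ieq (Int.mul 2 (T.cartZ j u)) (Int.add (T.cartZ j (T.simpN i)) (T.cartZ j s))) T.l)) T.n) T.n) T.l

theorem isSum_of_cartan {m : ℤ} {u a b : ℕ} (h : ∀ j < D.rank, m * D.cartan j u = D.cartan j a + D.cartan j b) :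
    IsSum D m u a b := by
  intro s hs
  show m * car D s u = car D s a + car D s b
  unfold car
  rw [Finset.mul_sum, ← Finset.sum_add_distrib]
  refine Finset.sum_congr rfl fun k hk => ?_
  rw [← mul_add, ← h k (Finset.mem_range.1 hk)]
  ring

theorem sum_orth (hD : D ∈ [chevG2, chevB2, chevD4, chevF4, chevE6, chevE7, chevE8]) {T : Tab} (B : Bridged D T)
    (h : chkS T = true) : ∀ a < D.nroots, ∀ b < D.nroots, pr D a b = 0 → (Sh D a ↔ Sh D b) →
      ∃ u < D.nroots, ∃ m : ℤ, (m = 1 ∨ m = 2) ∧ IsSum D m u a b := by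
  have G := RootComb.good_of_mem hD
  refine Reach.reach hD (fun a => ∀ b < D.nroots, pr D a b = 0 → (Sh D a ↔ Sh D b) →
      ∃ u < D.nroots, ∃ m : ℤ, (m = 1 ∨ m = 2) ∧ IsSum D m u a b) ?_ ?_
  · intro i hi s hs h1 h2
    have hi' : i < T.l := by rw [← B.rank]; exact hi
    have hs' : s < T.n := by rw [← B.nroots]; exact hs
    have hsi : D.simple i = T.simpN i := B.simple i hi'
    have hsl : T.simpN i < T.n := by rw [← hsi, ← B.nroots]; exact G.simple_lt hi
    rw [hsi] at h1 h2 ⊢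
    have h3 := allLt_spec (allLt_spec h i hi') s hs'
    rw [Bool.or_eq_true, Bool.or_eq_true] at h3
    rcases h3 with h3 | h3 | h3
    · exfalso
      rw [Bool.not_eq_true', ← Bool.not_eq_true] at h3
      apply h3
      rw [cartN_iff B G hi' hs', h1]
      norm_num
    · exfalso
      rw [← shT_iff B hsl, ← shT_iff B hs'] at h2
      cases e1 : shT T (T.simpN i) <;> cases e2 : shT T s <;> simp [e1, e2] at h2 h3
    · obtain ⟨u, hu, h4⟩ := anyLt_spec h3
      rw [Bool.or_eq_true] at h4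
      refine ⟨u, by rw [B.nroots]; exact hu, ?_⟩
      rcases h4 with h4 | h4
      · refine ⟨1, Or.inl rfl, isSum_of_cartan fun j hj => ?_⟩
        have hj' : j < T.l := by rw [← B.rank]; exact hj
        have h5 := ieq_spec (allLt_spec h4 j hj')
        rw [B.cartan j hj' u hu, B.cartan j hj' _ hsl, B.cartan j hj' s hs', one_mul]
        exact h5
      · refine ⟨2, Or.inr rfl, isSum_of_cartan fun j hj => ?_⟩
        have hj' : j < T.l := by rw [← B.rank]; exact hj
        have h5 := ieq_spec (allLt_spec h4 j hj')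
        rw [B.cartan j hj' u hu, B.cartan j hj' _ hsl, B.cartan j hj' s hs']
        exact h5
  · intro i hi a ha ih b hb h1 h2
    have W := prMap_reflect G hi
    have hb' := W.lt hb
    have e : D.reflectRoot i (D.reflectRoot i b) = b := W.inv hb
    rw [← e] at h1 h2 ⊢
    rw [W.pr ha hb'] at h1
    rw [W.sh_iff ha, W.sh_iff hb'] at h2
    obtain ⟨u, hu, m, hm, h3⟩ := ih _ hb' h1 h2
    exact ⟨D.reflectRoot i u, W.lt hu, m, hm, W.isSum hu ha hb' h3⟩

theorem chkS_F4 : chkS tabF4 = true := by decide +kernel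

/-! ### Bounds, simply laced data -/

def chkB (T : Tab) : Bool := allLt (fun i => allLt (fun s => and (Nat.ble 6 (T.cartN i s)) (Nat.ble (T.cartN i s) 10)) T.n) T.l

theorem bound_pr (hD : D ∈ [chevG2, chevB2, chevD4, chevF4, chevE6, chevE7, chevE8]) {T : Tab} (B : Bridged D T)
    (h : chkB T = true) : ∀ a < D.nroots, ∀ b < D.nroots, -2 ≤ pr D a b ∧ pr D a b ≤ 2 := by
  have G := RootComb.good_of_mem hD
  refine Reach.reach hD (fun a => ∀ b < D.nroots, -2 ≤ pr D a b ∧ pr D a b ≤ 2) ?_ ?_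
  · intro i hi s hs
    have hi' : i < T.l := by rw [← B.rank]; exact hi
    have hs' : s < T.n := by rw [← B.nroots]; exact hs
    have h1 : pr D (D.simple i) s = D.cartan i s := car_simple G hi s
    have h2 := allLt_spec (allLt_spec h i hi') s hs'
    rw [Bool.and_eq_true, Nat.ble_eq, Nat.ble_eq] at h2
    rw [h1, B.cartan i hi' s hs', cartZ_eq]
    omega
  · intro i hi a ha ih b hb
    have W := prMap_reflect G hi
    have e : D.reflectRoot i (D.reflectRoot i b) = b := W.inv hb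
    rw [← e, W.pr ha (W.lt hb)]
    exact ih _ (W.lt hb)

/-- the Cartan matrix is symmetric -/
def SLc (D : ChevalleyDatum) : Prop := ∀ i < D.rank, ∀ j < D.rank, D.cartan i (D.simple j) = D.cartan j (D.simple i)

theorem car_simple_symm (G : Good D) (h : SLc D) {s : ℕ} (hs : s < D.nroots) :
    ∀ i < D.rank, D.cartan i s = car D s (D.simple i) := by
  refine root_induction G (P := fun s => ∀ i < D.rank, D.cartan i s = car D s (D.simple i)) ?_ ?_ s hs
  · intro j hj i hi
    rw [car_simple G hj, h i hi j hj]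
  · intro k hk s hs ih i hi
    rw [G.cartan_reflect hk hs hi, car_reflect_left G hk hs, ih i hi, ih k hk, h k hk i hi]

theorem pr_symm (G : Good D) (h : SLc D) {r s : ℕ} (hr : r < D.nroots) (hs : s < D.nroots) :
    pr D r s = pr D s r := by
  show car D r s = car D s r
  refine root_induction G (P := fun r => ∀ s < D.nroots, car D r s = car D s r) ?_ ?_ r hr s hs
  · intro i hi s hs
    rw [car_simple G hi, car_simple_symm G h hs i hi]
  · intro i hi r hr ih s hs
    have h1 := car_reflect G hi (G.reflect_lt hi hs) hr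
    have h2 := car_reflect G hi hr (G.reflect_lt hi hs)
    rw [G.reflect_reflect hi hs] at h1 h2
    rw [h2, h1]
    exact ih _ (G.reflect_lt hi hs)

theorem slc_D4 : SLc chevD4 := by unfold SLc; decide +kernel
theorem slc_E6 : SLc chevE6 := by unfold SLc; decide +kernel
theorem slc_E7 : SLc chevE7 := by unfold SLc; decide +kernel
theorem slc_E8 : SLc chevE8 := by unfold SLc; decide +kernel

theorem chkB_D4 : chkB tabD4 = true := by decide +kernel
theorem chkB_F4 : chkB tabF4 = true := by decide +kernel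
theorem chkB_E6 : chkB tabE6 = true := by decide +kernel
theorem chkB_E7 : chkB tabE7 = true := by decide +kernel
theorem chkB_E8 : chkB tabE8 = true := by decide +kernel

/-! ### The five data -/

/-- `D` is one of `D4`, `F4`, `E6`, `E7`, `E8` -/
def Five (D : ChevalleyDatum) : Prop := D = chevD4 ∨ D = chevF4 ∨ D = chevE6 ∨ D = chevE7 ∨ D = chevE8

theorem Five.mem (h : Five D) : D ∈ [chevG2, chevB2, chevD4, chevF4, chevE6, chevE7, chevE8] := by
  simp only [List.mem_cons, List.not_mem_nil, or_false]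
  unfold Five at h
  tauto

theorem Five.odd (h : Five D) {a b : ℕ} (ha : a < D.nroots) (hb : b < D.nroots) (h1 : pr D a b = 1)
    (h2 : pr D b a = 1) : Odd (NN D a b).card := by
  have hm := h.mem
  rcases h with rfl | rfl | rfl | rfl | rfl
  · exact odd_NN hm bridgeD4 chkO_D4 a ha b hb h1 h2
  · exact odd_NN hm bridgeF4 chkO_F4 a ha b hb h1 h2
  · exact odd_NN hm bridgeE6 chkO_E6 a ha b hb h1 h2
  · exact odd_NN hm bridgeE7 chkO_E7 a ha b hb h1 h2
  · exact odd_NN hm bridgeE8 chkO_E8 a ha b hb h1 h2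

theorem Five.bound (h : Five D) {a b : ℕ} (ha : a < D.nroots) (hb : b < D.nroots) : -2 ≤ pr D a b ∧ pr D a b ≤ 2 := by
  have hm := h.mem
  rcases h with rfl | rfl | rfl | rfl | rfl
  · exact bound_pr hm bridgeD4 chkB_D4 a ha b hb
  · exact bound_pr hm bridgeF4 chkB_F4 a ha b hb
  · exact bound_pr hm bridgeE6 chkB_E6 a ha b hb
  · exact bound_pr hm bridgeE7 chkB_E7 a ha b hb
  · exact bound_pr hm bridgeE8 chkB_E8 a ha b hb

theorem Five.slc (h : Five D) (h4 : D ≠ chevF4) : SLc D := by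
  rcases h with rfl | rfl | rfl | rfl | rfl
  · exact slc_D4
  · exact absurd rfl h4
  · exact slc_E6
  · exact slc_E7
  · exact slc_E8

theorem Five.symm (h : Five D) (h4 : D ≠ chevF4) {a b : ℕ} (ha : a < D.nroots) (hb : b < D.nroots) :
    pr D a b = pr D b a := pr_symm (RootComb.good_of_mem h.mem) (h.slc h4) ha hb

theorem Five.self (h : Five D) {a : ℕ} (ha : a < D.nroots) : pr D a a = 2 := (RootComb.good_of_mem h.mem).car_self ha

theorem Five.neg_right (h : Five D) {a b : ℕ} (hb : b < D.nroots) : pr D a (D.neg b) = - pr D a b :=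
  car_neg_right (RootComb.good_of_mem h.mem) a hb

theorem Five.neg_left (h : Five D) {a b : ℕ} (ha : a < D.nroots) : pr D (D.neg a) b = - pr D a b :=
  car_neg_left (RootComb.good_of_mem h.mem) ha b

theorem Five.pair (h : Five D) {r s : ℕ} (hr : r < D.nroots) (hs : s < D.nroots) (h1 : s ≠ r) (h2 : s ≠ D.neg r) :
    0 ≤ pr D r s * pr D s r ∧ pr D r s * pr D s r ≤ 3 ∧ (pr D r s = 0 ↔ pr D s r = 0) :=
  Cfsg.Agent.H134.PairFacts.pair h.mem hr hs h1 h2

/-- roots are determined by the pairings -/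
theorem Five.eq_of_pr (h : Five D) {g g' : ℕ} (hg : g < D.nroots) (hg' : g' < D.nroots)
    (H : ∀ s < D.nroots, pr D s g = pr D s g') : g = g' := by
  by_contra hne
  have e1 : pr D g g' = 2 := by rw [← H g hg, h.self hg]
  have e2 : pr D g' g = 2 := by rw [H g' hg', h.self hg']
  by_cases h1 : g' = D.neg g
  · rw [h1, h.neg_right hg, h.self hg] at e1
    norm_num at e1
  · have h2 := (h.pair hg hg' (Ne.symm hne) h1).2.1
    rw [e1, e2] at h2
    norm_num at h2

/-- pairing zero is symmetric -/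
theorem Five.zero_symm (h : Five D) {r s : ℕ} (hr : r < D.nroots) (hs : s < D.nroots) (h0 : pr D r s = 0) :
    pr D s r = 0 := by
  by_cases h1 : s = r
  · rw [h1] at h0 ⊢
    exact h0
  by_cases h2 : s = D.neg r
  · rw [h2, h.neg_right hr, h.self hr] at h0
    norm_num at h0
  · exact (h.pair hr hs h1 h2).2.2.1 h0

/-- a root that is a sum `a + w a` (or half of it) is fixed by `w` -/
theorem Five.fix_sum (h : Five D) {w : ℕ → ℕ} (hw : PrMap D w) {m : ℤ} (hm : m ≠ 0) {u a : ℕ} (hu : u < D.nroots)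
    (ha : a < D.nroots) (H : IsSum D m u a (w a)) : w u = u := by
  have h1 := hw.isSum hu ha (hw.lt ha) H
  rw [hw.inv ha] at h1
  refine h.eq_of_pr (hw.lt hu) hu fun s hs => ?_
  have h2 := h1 s hs
  have h3 := H s hs
  exact mul_left_cancel₀ hm (by rw [h2, h3, add_comm])

/-- **3.1** -/
theorem Five.neg_of_inv (h : Five D) {w : ℕ → ℕ} (hw : PrMap D w) {a : ℕ} (ha : a < D.nroots)
    (hfix : ∀ g < D.nroots, w g = g → pr D g a = 0) (horth : D ≠ chevF4 → pr D a (w a) ≠ 0) : w a = D.neg a := by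
  have G := RootComb.good_of_mem h.mem
  have hb := hw.lt ha
  have hsym : pr D (w a) a = pr D a (w a) := by
    have := hw.pr ha hb
    rw [hw.inv ha] at this
    exact this
  have hfix' : ∀ g < D.nroots, w g = g → pr D a g = 0 := fun g hg hgw => h.zero_symm hg ha (hfix g hg hgw)
  by_contra hneg
  have hne : w a ≠ a := by
    intro h1
    have := hfix a ha h1
    rw [h.self ha] at this
    norm_num at this
  have hp := (h.pair ha hb hne hneg).2.1
  rw [hsym] at hp
  set k := pr D a (w a) with hk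
  have hk1 : -1 ≤ k ∧ k ≤ 1 := by constructor <;> nlinarith
  have hk2 : k = -1 ∨ k = 0 ∨ k = 1 := by omega
  rcases hk2 with h1 | h1 | h1
  · -- `a + w a` is a root
    obtain ⟨u, hu, -, h2⟩ := exists_reflection G ha (w a) hb
    have h3 : IsSum D 1 u a (w a) := isSum_of_cartan fun j hj => by
      have h4 := h2 j hj
      have h5 : car D a (w a) = -1 := hk.symm.trans h1
      rw [h5] at h4
      rw [h4]
      ring
    have h4 := hfix' u hu (h.fix_sum hw one_ne_zero hu ha h3)
    have h5 := h3 a ha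
    rw [h4, h.self ha, ← hk, h1] at h5
    norm_num at h5
  · by_cases hF : D = chevF4
    · have hsh : Sh D a ↔ Sh D (w a) := (hw.sh_iff ha).symm
      subst hF
      obtain ⟨u, hu, m, hm, h3⟩ := sum_orth h.mem bridgeF4 chkS_F4 a ha (w a) hb h1 hsh
      have hm0 : m ≠ 0 := by rcases hm with rfl | rfl <;> norm_num
      have h4 := hfix' u hu (h.fix_sum hw hm0 hu ha h3)
      have h5 := h3 a ha
      rw [h4, h.self ha, ← hk, h1] at h5
      norm_num at h5
    · exact horth hF h1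
  · obtain ⟨g, hg, hgw⟩ := exists_fixed (h.odd ha hb h1 (hsym.trans h1)) (w := w)
      (fun g hg => by
        have := hw.map_NN ha hb hg
        rwa [hw.inv ha, NN_comm] at this)
      (fun g hg => hw.inv (mem_NN.1 hg).1)
    have h2 := mem_NN.1 hg
    have h3 := hfix g h2.1 hgw
    rw [h2.2.2.2.1] at h3
    norm_num at h3

end Cfsg.Agent.H876.OT

private theorem dce_d4bd59246e1b : _root_.True := by
  try have : _root_.True := by simp only [_root_.Cfsg.Agent.H876.OT.NN.eq_1]
  exact _root_.True.intro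
end

-- part: H298/OT/Two
section
set_option linter.all false
open scoped Cfsg.Agent.FastGrp

/-!
# S2539, layer (2): the pure group theory of a minimal counterexample without root subgroups

`Core A`: `A` is a non-cyclic self-centralising abelian subgroup of the finite group `G` such that
every proper overgroup of `A` normalises `A`, `A` is weakly TI in the sense that a conjugate of
`1 ≠ t ∈ A` lying in `A` is obtained only by elements of `N(A)`, and `N(A)` contains no
non-trivial normal subgroup of `G`.  Then `G = A L` with `L` simple non-abelian normal,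
`C(L) = 1` and `A ∩ L ≠ 1` (`Core.main`).
-/

set_option autoImplicit false

namespace Cfsg.Agent.H298.OT

open Subgroup Cfsg.Agent.Lib.MinNormal Cfsg.Agent.Lib.MinNormalNonabelian
open scoped commutatorElement

/-! ## General lemmas -/

/-- A finite simple non-abelian group is not nilpotent. -/
theorem not_isNilpotent_of_simple {S : Type*} [Group S] [Finite S] [IsSimpleGroup S]
    (hna : ¬ ∀ x y : S, x * y = y * x) : ¬ Group.IsNilpotent S := by
  intro h
  apply hna
  have : Group.IsSolvable S := inferInstance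
  exact IsSimpleGroup.comm_iff_isSolvable.mpr this

/-- An element of prime order acting without fixed points on a subgroup: Thompson. -/
theorem isNilpotent_of_fpf {G : Type*} [Group G] [Finite G] (L : Subgroup G) {a : G}
    (ha : a ∈ normalizer (L : Set G)) {p : ℕ} (hp : p.Prime) (hap : a ^ p = 1)
    (hfpf : ∀ x ∈ L, a * x * a⁻¹ = x → x = 1) : Group.IsNilpotent L := by
  let φ : MulAut L := normalizerMonoidHom L ⟨a, ha⟩
  have hφ : ∀ x : L, ((φ x : L) : G) = a * x * a⁻¹ := fun x => rfl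
  have hφp : φ ^ p = 1 := by
    have : (⟨a, ha⟩ : normalizer (L : Set G)) ^ p = 1 := Subtype.ext hap
    change (normalizerMonoidHom L ⟨a, ha⟩) ^ p = 1
    rw [← map_pow, this, map_one]
  by_cases h1 : φ = 1
  · have : ∀ x : L, x = 1 := by
      intro x
      apply Subtype.ext
      apply hfpf x x.2
      rw [← hφ, h1]
      rfl
    have : Subsingleton L := ⟨fun x y => (this x).trans (this y).symm⟩
    infer_instance
  · have : Fact p.Prime := ⟨hp⟩
    refine Cfsg.Agent.S0033.result φ ?_ p hp (orderOf_eq_prime hφp h1)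
    intro x hx
    apply Subtype.ext
    apply hfpf x x.2
    rw [← hφ]
    exact congrArg Subtype.val hx

/-- A finite simple non-abelian group has, for every commuting family `Φ` of automorphisms,
a `Φ`-invariant proper subgroup with an element `x` such that `x ^ 2 ≠ 1`. -/
theorem not_exp_two {S : Type*} [Group S] [Finite S] [IsSimpleGroup S]
    (hna : ¬ ∀ x y : S, x * y = y * x) (Φ : Subgroup (MulAut S))
    (hcomm : ∀ φ ∈ Φ, ∀ ψ ∈ Φ, φ * ψ = ψ * φ)
    (h2 : ∀ R : Subgroup S, (∀ φ ∈ Φ, ∀ x ∈ R, φ x ∈ R) → R ≠ ⊤ → ∀ x ∈ R, x * x = 1) :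
    False := by
  classical
  have hnil := not_isNilpotent_of_simple hna
  -- a non-trivial invariant proper subgroup
  obtain ⟨R, hRinv, hRtop, hRbot⟩ : ∃ R : Subgroup S, (∀ φ ∈ Φ, ∀ x ∈ R, φ x ∈ R) ∧ R ≠ ⊤ ∧
      R ≠ ⊥ := by
    by_cases hΦ : Φ = ⊥
    · obtain ⟨x, hx⟩ := exists_ne (1 : S)
      refine ⟨zpowers x, ?_, ?_, ?_⟩
      · intro φ hφ y hy
        rw [hΦ, mem_bot] at hφ
        rw [hφ]
        exact hy
      · intro h
        apply hna
        intro y z
        have hy : y ∈ zpowers x := by rw [h]; exact mem_top y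
        have hz : z ∈ zpowers x := by rw [h]; exact mem_top z
        obtain ⟨i, rfl⟩ := mem_zpowers_iff.mp hy
        obtain ⟨j, rfl⟩ := mem_zpowers_iff.mp hz
        exact ((Commute.refl x).zpow_zpow i j).eq
      · intro h
        exact hx (zpowers_eq_bot.mp h)
    · have hcard : Nat.card Φ ≠ 1 := by
        intro h
        exact hΦ (Subgroup.card_eq_one.mp h)
      obtain ⟨p, hp, hpd⟩ := Nat.exists_prime_and_dvd hcard
      have : Fact p.Prime := ⟨hp⟩
      obtain ⟨φ, hφ⟩ := exists_prime_orderOf_dvd_card' p hpd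
      have hφo : orderOf (φ : MulAut S) = p := by rw [orderOf_coe, hφ]
      have hφ1 : (φ : MulAut S) ≠ 1 := by
        intro h
        rw [h, orderOf_one] at hφo
        exact hp.one_lt.ne hφo
      let R : Subgroup S :=
        { carrier := {x | (φ : MulAut S) x = x}
          one_mem' := map_one _
          mul_mem' := fun {x y} hx hy => by
            change (φ : MulAut S) (x * y) = x * y
            rw [map_mul, show (φ : MulAut S) x = x from hx, show (φ : MulAut S) y = y from hy]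
          inv_mem' := fun {x} hx => by
            change (φ : MulAut S) x⁻¹ = x⁻¹
            rw [map_inv, show (φ : MulAut S) x = x from hx] }
      refine ⟨R, ?_, ?_, ?_⟩
      · intro ψ hψ x hx
        change (φ : MulAut S) (ψ x) = ψ x
        have h1 : ((φ : MulAut S) * ψ) x = (ψ * (φ : MulAut S)) x := by
          rw [hcomm φ φ.2 ψ hψ]
        rw [MulAut.mul_apply, MulAut.mul_apply, show (φ : MulAut S) x = x from hx] at h1
        exact h1
      · intro h
        apply hφ1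
        ext x
        have : x ∈ R := by rw [h]; exact mem_top x
        exact this
      · intro h
        apply hnil
        refine Cfsg.Agent.S0033.result (φ : MulAut S) ?_ p hp hφo
        intro x hx
        have : x ∈ R := hx
        rw [h, mem_bot] at this
        exact this
  -- a maximal invariant `2`-subgroup
  have hfin : {D : Subgroup S | (∀ φ ∈ Φ, ∀ x ∈ D, φ x ∈ D) ∧ IsPGroup 2 D ∧ R ≤ D}.Finite :=
    Set.toFinite _
  have hsq : ∀ D : Subgroup S, (∀ x ∈ D, x * x = 1) → IsPGroup 2 D := by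
    intro D hD x
    refine ⟨1, Subtype.ext ?_⟩
    rw [pow_one, pow_two]
    exact hD x x.2
  obtain ⟨D, ⟨hDinv, hD2, hRD⟩, hDmax⟩ := hfin.exists_maximal
    ⟨R, hRinv, hsq R (h2 R hRinv hRtop), le_rfl⟩
  have hDtop : D ≠ ⊤ := by
    intro h
    apply hnil
    rw [h] at hD2
    have : Fact (Nat.Prime 2) := ⟨Nat.prime_two⟩
    have h3 : IsPGroup 2 S := hD2.of_equiv topEquiv
    exact h3.isNilpotent
  have hDbot : D ≠ ⊥ := by
    intro h
    apply hRbot
    rw [h] at hRD
    exact le_bot_iff.mp hRD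
  have hinvset : ∀ φ ∈ Φ, ∀ x, φ x ∈ D ↔ x ∈ D := by
    intro φ hφ x
    constructor
    · intro h
      have := hDinv φ⁻¹ (Φ.inv_mem hφ) _ h
      rwa [MulAut.inv_apply_self] at this
    · exact hDinv φ hφ x
  have hN : ∀ φ ∈ Φ, ∀ x ∈ normalizer (D : Set S), φ x ∈ normalizer (D : Set S) := by
    intro φ hφ x hx
    rw [mem_normalizer_iff]
    intro y
    obtain ⟨z, rfl⟩ := φ.surjective y
    have h3 : φ x * φ z * (φ x)⁻¹ = φ (x * z * x⁻¹) := by
      rw [map_mul, map_mul, map_inv]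
    rw [h3]
    change φ z ∈ D ↔ φ (x * z * x⁻¹) ∈ D
    rw [hinvset φ hφ, hinvset φ hφ]
    exact mem_normalizer_iff.mp hx z
  have hNtop : normalizer (D : Set S) ≠ ⊤ := by
    intro h
    have hDn : D.Normal := normalizer_eq_top_iff.mp h
    rcases hDn.eq_bot_or_eq_top with h | h
    · exact hDbot h
    · exact hDtop h
  have hNsq := h2 _ hN hNtop
  have hND : normalizer (D : Set S) = D := by
    apply le_antisymm ?_ D.le_normalizer
    exact hDmax ⟨hN, hsq _ hNsq, hRD.trans D.le_normalizer⟩ D.le_normalizer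
  have hDcomm : ∀ x ∈ D, ∀ y ∈ D, x * y = y * x := by
    intro x hx y hy
    have h3 := h2 D hDinv hDtop
    have hx2 := h3 x hx
    have hy2 := h3 y hy
    have hxy := h3 (x * y) (D.mul_mem hx hy)
    have h4 : x⁻¹ = x := inv_eq_of_mul_eq_one_left hx2
    have h5 : y⁻¹ = y := inv_eq_of_mul_eq_one_left hy2
    have h6 : (x * y)⁻¹ = x * y := inv_eq_of_mul_eq_one_left hxy
    rw [mul_inv_rev, h4, h5] at h6
    exact h6.symm
  -- `D` is a Sylow 2-subgroup
  have : Fact (Nat.Prime 2) := ⟨Nat.prime_two⟩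
  obtain ⟨P, hDP⟩ := hD2.exists_le_sylow
  have hPD : (P : Subgroup S) = D := by
    by_contra hne
    have hlt : D.subgroupOf (P : Subgroup S) < ⊤ := by
      rw [lt_top_iff_ne_top]
      intro h
      apply hne
      rw [subgroupOf_eq_top] at h
      exact le_antisymm h hDP
    have hPn : Group.IsNilpotent (P : Subgroup S) := P.isPGroup'.isNilpotent
    have h3 := Group.normalizerCondition_of_isNilpotent (D.subgroupOf (P : Subgroup S)) hlt
    obtain ⟨x, hx, hxD⟩ := SetLike.exists_of_lt h3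
    apply hxD
    rw [mem_subgroupOf]
    rw [← hND, mem_normalizer_iff]
    intro y
    rw [mem_normalizer_iff] at hx
    constructor
    · intro hy
      exact (hx ⟨y, hDP hy⟩).mp hy
    · intro hy
      have h4 : (⟨(x : S) * y * (x : S)⁻¹, hDP hy⟩ : (P : Subgroup S)) =
          x * ⟨y, by
            have := (P : Subgroup S).mul_mem ((P : Subgroup S).mul_mem
              ((P : Subgroup S).inv_mem x.2) (hDP hy)) x.2
            simpa [mul_assoc] using this⟩ * x⁻¹ := Subtype.ext rfl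
      have h5 : (⟨(x : S) * y * (x : S)⁻¹, hDP hy⟩ : (P : Subgroup S)) ∈
          D.subgroupOf (P : Subgroup S) := hy
      rw [h4] at h5
      exact (hx _).mpr h5
  -- Burnside
  have hPc : normalizer ((P : Subgroup S) : Set S) ≤ centralizer ((P : Subgroup S) : Set S) := by
    rw [hPD, hND]
    intro x hx
    rw [mem_centralizer_iff]
    intro y hy
    exact hDcomm y hy x hx
  have hcompl := MonoidHom.ker_transferSylow_isComplement' P hPc
  have hker : (MonoidHom.transferSylow P hPc).ker = ⊥ ∨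
      (MonoidHom.transferSylow P hPc).ker = ⊤ :=
    (inferInstance : (MonoidHom.transferSylow P hPc).ker.Normal).eq_bot_or_eq_top
  rcases hker with h | h
  · rw [h] at hcompl
    have h3 : (P : Subgroup S) = ⊤ := by
      have := hcompl.sup_eq_top
      rwa [bot_sup_eq] at this
    exact hDtop (hPD ▸ h3)
  · rw [h] at hcompl
    have h3 : (P : Subgroup S) = ⊥ := by
      have := hcompl.disjoint
      rw [top_disjoint] at this
      exact this
    exact hDbot (hPD ▸ h3)

/-! ## The centreless situation -/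

/-- The situation modulo the centre. -/
structure Core {G : Type*} [Group G] (A : Subgroup G) : Prop where
  comm : ∀ x ∈ A, ∀ y ∈ A, x * y = y * x
  cent : centralizer (A : Set G) ≤ A
  ne : normalizer (A : Set G) ≠ ⊤
  uniq : ∀ H : Subgroup G, A ≤ H → H ≠ ⊤ → H ≤ normalizer (A : Set G)
  ti : ∀ t ∈ A, t ≠ 1 → ∀ g : G, g * t * g⁻¹ ∈ A → g ∈ normalizer (A : Set G)
  norm : ∀ X : Subgroup G, X.Normal → X ≤ normalizer (A : Set G) → X = ⊥
  noncyc : ¬ IsCyclic A

namespace Core

variable {G : Type*} [Group G] [Finite G] {A : Subgroup G}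

omit [Finite G] in
theorem cent_le (h : Core A) {t : G} (ht : t ∈ A) (ht1 : t ≠ 1) {x : G} (hx : x * t = t * x) :
    x ∈ normalizer (A : Set G) := by
  apply h.ti t ht ht1
  rw [hx, mul_inv_cancel_right]
  exact ht

omit [Finite G] in
theorem centralizer_le (h : Core A) {t : G} (ht : t ∈ A) (ht1 : t ≠ 1) :
    centralizer ({t} : Set G) ≤ normalizer (A : Set G) := fun _ hx =>
  h.cent_le ht ht1 (mem_centralizer_singleton_iff.mp hx)

omit [Finite G] in
theorem sup_eq_top (h : Core A) {X : Subgroup G} (hX : X.Normal) (hX0 : X ≠ ⊥) : A ⊔ X = ⊤ := by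
  by_contra hne
  exact hX0 (h.norm X hX (le_sup_right.trans (h.uniq _ le_sup_left hne)))

omit [Finite G] in
/-- A subgroup normalised by `A` and by a normal subgroup `X ≠ 1` is normal. -/
theorem normal_of_le (h : Core A) {X Y : Subgroup G} (hX : X.Normal) (hX0 : X ≠ ⊥)
    (h1 : A ≤ normalizer (Y : Set G)) (h2 : X ≤ normalizer (Y : Set G)) : Y.Normal := by
  rw [← normalizer_eq_top_iff, eq_top_iff, ← h.sup_eq_top hX hX0]
  exact sup_le h1 h2

/-- No abelian minimal normal subgroup: an abelian normal subgroup is trivial. -/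
theorem not_abelian (h : Core A) {X : Subgroup G} (hX : X.Normal)
    (hab : ∀ x ∈ X, ∀ y ∈ X, x * y = y * x) : X = ⊥ := by
  by_contra hX0
  -- `X ⊓ N(A)` is normal
  have hY : (X ⊓ normalizer (A : Set G)).Normal := by
    apply h.normal_of_le hX hX0
    · apply le_normalizer_inf
      · rw [normalizer_eq_top_iff.mpr hX]
        exact le_top
      · exact A.le_normalizer.trans (normalizer (A : Set G)).le_normalizer
    · intro x hx
      rw [mem_normalizer_iff]
      intro y
      constructor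
      · intro hy
        have : x * y * x⁻¹ = y := by rw [hab x hx y hy.1, mul_inv_cancel_right]
        rw [this]
        exact hy
      · intro hy
        have hyX : y ∈ X := by
          have := hX.conj_mem _ hy.1 x⁻¹
          simpa [mul_assoc] using this
        have : x * y * x⁻¹ = y := by rw [hab x hx y hyX, mul_inv_cancel_right]
        rw [this] at hy
        exact hy
  have hY0 := h.norm _ hY inf_le_right
  -- so `A` acts without fixed points
  have hfix : ∀ a ∈ A, a ≠ 1 → ∀ x ∈ X, a * x * a⁻¹ = x → x = 1 := by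
    intro a ha ha1 x hx hax
    have h1 : x ∈ X ⊓ normalizer (A : Set G) := by
      refine ⟨hx, h.cent_le ha ha1 ?_⟩
      rw [mul_inv_eq_iff_eq_mul] at hax
      exact hax.symm
    rwa [hY0, mem_bot] at h1
  apply h.noncyc
  let _ : CommGroup X := { (inferInstance : Group X) with
    mul_comm := fun x y => Subtype.ext (hab x x.2 y y.2) }
  have : Nontrivial X := (Subgroup.nontrivial_iff_ne_bot X).mpr hX0
  refine Cfsg.Agent.Solvable.FpfCyclic.isCyclic_of_fpf_nilpotent (W := X)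
    (fun a b => Subtype.ext (h.comm a a.2 b b.2))
    ((MulAut.conjNormal (H := X)).comp A.subtype) ?_
  intro a ha x hx
  apply Subtype.ext
  apply hfix a a.2 (fun h => ha (Subtype.ext h)) x x.2
  have := congrArg Subtype.val hx
  simpa only [_root_.MonoidHom.coe_comp, _root_.Subgroup.coe_subtype, _root_.Function.comp_apply, _root_.MulAut.conjNormal_apply] using this

/-- There is a minimal normal subgroup. -/
theorem exists_min (h : Core A) : ∃ X : Subgroup G, X.Normal ∧ X ≠ ⊥ ∧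
    ∀ M : Subgroup G, M.Normal → M ≤ X → M = ⊥ ∨ M = X := by
  have htop : (⊤ : Subgroup G) ≠ ⊥ := by
    intro h1
    apply h.ne
    rw [h1]
    exact le_bot_iff.mp (h1 ▸ le_top)
  obtain ⟨X, -, hX0, hXn, hmin⟩ := exists_minimal_normal_le (⊤ : Subgroup G) htop
  refine ⟨X, normalizer_eq_top_iff.mp (top_le_iff.mp hXn), hX0, fun M hM hMX => ?_⟩
  exact hmin M hMX (by rw [normalizer_eq_top_iff.mpr hM])

omit [Finite G] in
/-- (i) of the product case: let `a ∈ A` move the factor `L₁` of the minimal normal subgroup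
`X`; then every proper subgroup of `L₁` invariant under `A ⊓ N(L₁)` has exponent two. -/
theorem exp_two (h : Core A) {X : Subgroup G} [hX : X.Normal]
    (hind : sSupIndep (minSet X)) (hsimple : ∀ T ∈ minSet X, IsSimpleGroup T)
    {L : Subgroup G} (hL : L ∈ minSet X) {a : G} (ha : a ∈ A)
    (haL : a ∉ normalizer (L : Set G)) {R : Subgroup G} (hRL : R ≤ L) (hRne : R ≠ L)
    (hRB : A ⊓ normalizer (L : Set G) ≤ normalizer (R : Set G)) {y : G} (hy : y ∈ R) :
    y * y = 1 := by
  have hK : ∀ S ∈ minSet X, X ≤ normalizer (S : Set G) := fun S hS => hS.2.2.1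
  have hle : ∀ S ∈ minSet X, S ≤ X := fun S hS => hS.1
  have hconj : ∀ g : G, L.map (MulAut.conj g).toMonoidHom ∈ minSet X :=
    fun g => map_conj_mem_minSet hL g
  have hcomm : ∀ {S T : Subgroup G}, S ∈ minSet X → T ∈ minSet X → S ≠ T →
      ∀ {x y : G}, x ∈ S → y ∈ T → Commute x y := by
    intro S T hS hT hne x y hx hy
    exact commute_of_mem hind hK hle hS hT hne hx hy
  -- the product of the conjugates of `R`
  let Q : Subgroup G := ⨆ b : A, R.map (MulAut.conj (b : G)).toMonoidHom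
  have hAQ : A ≤ normalizer (Q : Set G) := by
    rw [le_normalizer_iff]
    intro c hc q hq
    have h1 : Q ≤ Q.comap (MulAut.conj c).toMonoidHom := by
      refine iSup_le fun b => ?_
      rintro _ ⟨r, hr, rfl⟩
      rw [mem_comap]
      refine (le_iSup (fun b : A => R.map (MulAut.conj (b : G)).toMonoidHom) (⟨c, hc⟩ * b))
        ⟨r, hr, ?_⟩
      change ((c * (b : G)) * r * (c * (b : G))⁻¹ : G) = c * ((b : G) * r * (b : G)⁻¹) * c⁻¹
      group
    exact h1 hq
  have hRQ : R ≤ Q := by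
    have := le_iSup (fun b : A => R.map (MulAut.conj (b : G)).toMonoidHom) 1
    simp only [OneMemClass.coe_one, map_conj_one] at this
    exact this
  have hQX : Q ≤ X := by
    refine iSup_le fun b => ?_
    exact (Subgroup.map_mono (hRL.trans hL.1)).trans (le_of_eq (map_conj_normal _ X))
  have hQR : Q ≤ normalizer (R : Set G) := by
    refine iSup_le fun b => ?_
    by_cases hb : L.map (MulAut.conj (b : G)).toMonoidHom = L
    · have hbN : (b : G) ∈ normalizer (L : Set G) := mem_normalizer_iff_map_conj_eq.mpr hb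
      have := mem_normalizer_iff_map_conj_eq.mp (hRB ⟨b.2, hbN⟩)
      exact (le_of_eq this).trans R.le_normalizer
    · rintro _ ⟨r, hr, rfl⟩
      rw [mem_normalizer_iff]
      have hr' : (MulAut.conj (b : G)).toMonoidHom r ∈ L.map (MulAut.conj (b : G)).toMonoidHom :=
        ⟨r, hRL hr, rfl⟩
      generalize (MulAut.conj (b : G)).toMonoidHom r = t at hr' ⊢
      have key : ∀ z ∈ L, Commute t z := fun z hz => hcomm (hconj b) hL hb hr' hz
      intro z
      constructor
      · intro hz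
        rw [(key z (hRL hz)).eq, mul_inv_cancel_right]
        exact hz
      · intro hz
        have h1 := key _ (hRL hz)
        have h2 : z = t * z * t⁻¹ := by
          calc z = t⁻¹ * ((t * z * t⁻¹) * t) := by group
            _ = t * z * t⁻¹ := by rw [← h1.eq, inv_mul_cancel_left]
        rw [h2]
        exact hz
  by_cases htop : A ⊔ Q = ⊤
  · -- then `L` normalises `R`
    have hLR : L ≤ normalizer (R : Set G) := by
      intro x hx
      have h1 : x ∈ ((A ⊔ Q : Subgroup G) : Set G) := by rw [htop]; exact mem_top x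
      rw [coe_mul_of_left_le_normalizer_right _ _ hAQ] at h1
      obtain ⟨c, hc, q, hq, rfl⟩ := h1
      have hcX : c ∈ X := by
        have := X.mul_mem (hL.1 hx) (X.inv_mem (hQX hq))
        simpa using this
      exact mul_mem (hRB ⟨hc, hK L hL hcX⟩) (hQR hq)
    have hn : (R.subgroupOf L).Normal := by
      have := normal_subgroupOf_of_le_normalizer hLR
      exact this
    have := hsimple L hL
    rcases hn.eq_bot_or_eq_top with h1 | h1
    · rw [subgroupOf_eq_bot] at h1
      have h2 := disjoint_iff.mp h1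
      rw [inf_eq_left.mpr hRL] at h2
      rw [h2, mem_bot] at hy
      rw [hy, one_mul]
    · rw [subgroupOf_eq_top] at h1
      exact absurd (le_antisymm hRL h1) hRne
  · have hyN : y ∈ normalizer (A : Set G) :=
      h.uniq _ le_sup_left htop ((hRQ.trans le_sup_right) hy)
    have hyL := hRL hy
    -- the three factors
    have hL2 := hconj a
    have hL3 := hconj (a * a)
    have h21 : L ≠ L.map (MulAut.conj a).toMonoidHom := fun h1 =>
      haL (mem_normalizer_iff_map_conj_eq.mpr h1.symm)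
    have h32 : L.map (MulAut.conj (a * a)).toMonoidHom ≠ L.map (MulAut.conj a).toMonoidHom := by
      intro h1
      rw [← map_conj_map_conj] at h1
      exact h21 (Subgroup.map_injective (MulAut.conj a).injective h1).symm
    have hz : a * y * a⁻¹ ∈ L.map (MulAut.conj a).toMonoidHom := ⟨y, hyL, rfl⟩
    have hu : (a * a) * y * (a * a)⁻¹ ∈ L.map (MulAut.conj (a * a)).toMonoidHom :=
      ⟨y, hyL, rfl⟩
    have hyz : Commute y (a * y * a⁻¹) := hcomm hL hL2 h21 hyL hz
    have hwA : y⁻¹ * (a * y * a⁻¹) ∈ A := by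
      have h1 : y⁻¹ * a * y⁻¹⁻¹ ∈ A := (mem_normalizer_iff.mp (inv_mem hyN) a).mp ha
      have h2 := A.mul_mem h1 (A.inv_mem ha)
      simpa only [mul_assoc, _root_.inv_inv] using h2
    have hwa := h.comm a ha _ hwA
    -- `y * u = z ^ 2`
    have hyu : y * ((a * a) * y * (a * a)⁻¹) = (a * y * a⁻¹) * (a * y * a⁻¹) := by
      have h1 : (a * a) * y * (a * a)⁻¹ = (a * y * a⁻¹) * (y⁻¹ * (a * y * a⁻¹)) := by
        calc (a * a) * y * (a * a)⁻¹ = (a * y * a⁻¹) * (a * (y⁻¹ * (a * y * a⁻¹)) * a⁻¹) := by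
              group
          _ = (a * y * a⁻¹) * (y⁻¹ * (a * y * a⁻¹)) := by rw [hwa, mul_inv_cancel_right]
      rw [h1, ← mul_assoc, ← mul_assoc, hyz.eq, mul_inv_cancel_right]
    have hmem : (a * y * a⁻¹) * (a * y * a⁻¹) ∈
        sSup (minSet X \ {L.map (MulAut.conj a).toMonoidHom}) := by
      rw [← hyu]
      exact mul_mem
        (le_sSup (s := minSet X \ {L.map (MulAut.conj a).toMonoidHom}) ⟨hL, h21⟩ hyL)
        (le_sSup (s := minSet X \ {L.map (MulAut.conj a).toMonoidHom}) ⟨hL3, h32⟩ hu)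
    have h1 : (a * y * a⁻¹) * (a * y * a⁻¹) = 1 :=
      (Subgroup.disjoint_def.mp (hind hL2)) (mul_mem hz hz) hmem
    have h2 : a * (y * y) * a⁻¹ = 1 := by
      rw [← h1]
      group
    have h3 := congrArg (fun w => a⁻¹ * w * a) h2
    simpa only [mul_assoc, _root_.inv_mul_cancel_left, _root_.inv_mul_cancel, _root_.mul_one] using h3

/-- `A` normalises every factor of a non-abelian minimal normal subgroup. -/
theorem le_normalizer_of_mem (h : Core A) {X : Subgroup G} [hX : X.Normal]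
    (hind : sSupIndep (minSet X)) (hsimple : ∀ T ∈ minSet X, IsSimpleGroup T)
    (hc : ∀ T ∈ minSet X, ∀ z ∈ T, (∀ t ∈ T, Commute z t) → z = 1)
    {L : Subgroup G} (hL : L ∈ minSet X) : A ≤ normalizer (L : Set G) := by
  intro a ha
  by_contra haL
  have hS : IsSimpleGroup L := hsimple L hL
  have hna : ¬ ∀ x y : L, x * y = y * x := by
    intro h1
    apply hL.2.1
    rw [eq_bot_iff]
    intro z hz
    rw [mem_bot]
    exact hc L hL z hz fun t ht => congrArg Subtype.val (h1 ⟨z, hz⟩ ⟨t, ht⟩)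
  let B : Subgroup (normalizer (L : Set G)) := A.subgroupOf (normalizer (L : Set G))
  refine not_exp_two hna (B.map (normalizerMonoidHom L)) ?_ ?_
  · rintro _ ⟨b, hb, rfl⟩ _ ⟨c, hc, rfl⟩
    rw [← map_mul, ← map_mul]
    congr 1
    exact Subtype.ext (h.comm b hb c hc)
  · intro R hR hRtop x hx
    apply Subtype.ext
    refine h.exp_two hind hsimple hL ha haL (R := R.map L.subtype) (map_subtype_le R) ?_ ?_
      (mem_map_of_mem L.subtype hx)
    · intro h1
      apply hRtop
      rw [eq_top_iff]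
      intro y _
      have h2 : (y : G) ∈ R.map L.subtype := by rw [h1]; exact y.2
      obtain ⟨z, hz, hzy⟩ := h2
      have h3 : z = y := Subtype.ext hzy
      exact h3 ▸ hz
    · rw [le_normalizer_iff]
      rintro b ⟨hbA, hbL⟩ _ ⟨y, hy, rfl⟩
      exact ⟨_, hR _ ⟨⟨b, hbL⟩, hbA, rfl⟩ y hy, rfl⟩

/-- There is a normal simple non-abelian subgroup. -/
theorem exists_simple (h : Core A) : ∃ L : Subgroup G, L.Normal ∧ L ≠ ⊥ ∧ IsSimpleGroup L ∧
    ¬ ∀ x y : L, x * y = y * x := by
  obtain ⟨X, hX, hX0, hmin⟩ := h.exists_min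
  have hna : ¬ ∀ x ∈ X, ∀ y ∈ X, Commute x y := fun h1 =>
    hX0 (h.not_abelian hX fun x hx y hy => (h1 x hx y hy).eq)
  obtain ⟨⟨L, hL⟩, hind, -, hsimple, hc, -⟩ := nonabelian_structure X hmin hna
  have hA := h.le_normalizer_of_mem hind hsimple hc hL
  have hLn : L.Normal := h.normal_of_le hX hX0 hA hL.2.2.1
  refine ⟨L, hLn, hL.2.1, hsimple L hL, ?_⟩
  intro h1
  apply hL.2.1
  rw [eq_bot_iff]
  intro z hz
  rw [mem_bot]
  exact hc L hL z hz fun t ht => congrArg Subtype.val (h1 ⟨z, hz⟩ ⟨t, ht⟩)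

omit [Finite G] in
/-- The centraliser of a non-abelian simple normal subgroup is trivial. -/
theorem centralizer_eq_bot (h : Core A) {L : Subgroup G} (hL : L.Normal) [IsSimpleGroup L]
    (hna : ¬ ∀ x y : L, x * y = y * x) : centralizer (L : Set G) = ⊥ := by
  by_contra hC
  have hCn : (centralizer (L : Set G)).Normal := inferInstance
  have htop := h.sup_eq_top hCn hC
  -- commutators lie in the centraliser
  have hcomm : ∀ x y : G, x * y * x⁻¹ * y⁻¹ ∈ centralizer (L : Set G) := by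
    intro x y
    have h1 : ∀ g : G, ∃ a ∈ A, ∃ c ∈ centralizer (L : Set G), g = a * c := by
      intro g
      have h2 : g ∈ ((A ⊔ centralizer (L : Set G) : Subgroup G) : Set G) := by
        rw [htop]; exact mem_top g
      rw [coe_mul_of_left_le_normalizer_right _ _
        (by rw [normalizer_eq_top_iff.mpr hCn]; exact le_top)] at h2
      obtain ⟨a, ha, c, hc, rfl⟩ := h2
      exact ⟨a, ha, c, hc, rfl⟩
    obtain ⟨a, ha, c, hc, rfl⟩ := h1 x
    obtain ⟨b, hb, d, hd, rfl⟩ := h1 y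
    rw [← QuotientGroup.eq_one_iff]
    have hc1 : (c : G ⧸ centralizer (L : Set G)) = 1 := (QuotientGroup.eq_one_iff c).mpr hc
    have hd1 : (d : G ⧸ centralizer (L : Set G)) = 1 := (QuotientGroup.eq_one_iff d).mpr hd
    have hab : (a : G ⧸ centralizer (L : Set G)) * b = b * a := by
      rw [← QuotientGroup.mk_mul, ← QuotientGroup.mk_mul, h.comm a ha b hb]
    simp only [QuotientGroup.mk_mul, QuotientGroup.mk_inv, hc1, hd1, mul_one]
    rw [hab]
    group
  have hcen : ∀ z ∈ L, (∀ t ∈ L, z * t = t * z) → z = 1 := by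
    intro z hz hzc
    rcases commute_or_center_trivial (T := L) with h1 | h1
    · exact absurd (fun x y => (h1 x y).eq) hna
    · exact congrArg Subtype.val (h1 ⟨z, hz⟩ fun t => Subtype.ext (hzc t t.2))
  apply hna
  intro x y
  have h1 := hcomm x y
  have h2 : (x : G) * y * (x : G)⁻¹ * (y : G)⁻¹ = 1 := by
    apply hcen _ (x * y * x⁻¹ * y⁻¹ : L).2
    intro t ht
    exact (mem_centralizer_iff.mp h1 t ht).symm
  apply Subtype.ext
  have h3 := congrArg (fun w => w * ((y : G) * x)) h2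
  simpa only [mul_assoc, _root_.Subgroup.coe_mul, _root_.inv_mul_cancel_left, _root_.inv_mul_cancel, _root_.mul_one, _root_.one_mul] using h3

/-- `A ⊓ L ≠ 1`. -/
theorem inf_ne_bot (h : Core A) {L : Subgroup G} (hL : L.Normal)
    [IsSimpleGroup L] (hna : ¬ ∀ x y : L, x * y = y * x) : A ⊓ L ≠ ⊥ := by
  intro hAL
  have hA1 : Nat.card A ≠ 1 := by
    intro h1
    apply h.noncyc
    have : Subsingleton A := (Nat.card_eq_one_iff_unique.mp h1).1
    infer_instance
  obtain ⟨p, hp, hpd⟩ := Nat.exists_prime_and_dvd hA1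
  have : Fact p.Prime := ⟨hp⟩
  obtain ⟨a, ha⟩ := exists_prime_orderOf_dvd_card' p hpd
  have ha1 : (a : G) ≠ 1 := by
    intro h1
    have h2 : a = 1 := Subtype.ext h1
    rw [h2, orderOf_one] at ha
    exact hp.one_lt.ne ha
  apply not_isNilpotent_of_simple hna
  refine isNilpotent_of_fpf L (a := a) ?_ hp ?_ ?_
  · rw [normalizer_eq_top_iff.mpr hL]
    exact mem_top _
  · rw [← ha]
    exact congrArg Subtype.val (pow_orderOf_eq_one a)
  · intro x hx hax
    have hxN : x ∈ normalizer (A : Set G) := by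
      apply h.cent_le a.2 ha1
      rw [mul_inv_eq_iff_eq_mul] at hax
      exact hax.symm
    have hxA : x ∈ A := by
      apply h.cent
      rw [mem_centralizer_iff]
      intro b hb
      have h1 : b * x * b⁻¹ * x⁻¹ ∈ A ⊓ L := by
        refine ⟨?_, L.mul_mem (hL.conj_mem x hx b) (L.inv_mem hx)⟩
        have h2 := A.mul_mem hb ((mem_normalizer_iff.mp hxN b⁻¹).mp (A.inv_mem hb))
        simpa only [mul_assoc, _root_.Subgroup.coe_toSubmonoid, _root_.SetLike.mem_coe] using h2
      rw [hAL, mem_bot] at h1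
      have h3 := congrArg (fun w => w * (x * b)) h1
      simpa only [mul_assoc, _root_.inv_mul_cancel_left, _root_.inv_mul_cancel, _root_.mul_one, _root_.one_mul] using h3
    have : x ∈ A ⊓ L := ⟨hxA, hx⟩
    rwa [hAL, mem_bot] at this

/-- **The structure theorem modulo the centre.** -/
theorem main (h : Core A) : ∃ L : Subgroup G, L.Normal ∧ IsSimpleGroup L ∧
    (¬ ∀ x y : L, x * y = y * x) ∧ A ⊔ L = ⊤ ∧ centralizer (L : Set G) = ⊥ ∧ A ⊓ L ≠ ⊥ := by
  obtain ⟨L, hL, hL0, hS, hna⟩ := h.exists_simple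
  exact ⟨L, hL, hS, hna, h.sup_eq_top hL hL0, h.centralizer_eq_bot hL hna,
    h.inf_ne_bot hL hna⟩

end Core

/-! ## The situation in the group itself -/

/-- The minimal counterexample without root subgroups: `T` abelian, self-centralising, not normal,
every proper overgroup of `T` normalises `T`, a conjugate of `T` normalising `T` is `T` (Laurent
trick), elements `n` of `N(T)` with `[T, n, n] ≤ Z(F)` lie in `T`, and `T / Z(F)` is not
cyclic. -/
structure Ctx {F : Type*} [Group F] (T : Subgroup F) : Prop where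
  comm : ∀ x ∈ T, ∀ y ∈ T, x * y = y * x
  cent : centralizer (T : Set F) ≤ T
  ne : normalizer (T : Set F) ≠ ⊤
  uniq : ∀ H : Subgroup F, T ≤ H → H ≠ ⊤ → H ≤ normalizer (T : Set F)
  lt : ∀ f : F, (∀ t ∈ T, f * t * f⁻¹ ∈ normalizer (T : Set F)) → f ∈ normalizer (T : Set F)
  ql2Z : ∀ n ∈ normalizer (T : Set F), (∀ t ∈ T, ⁅⁅t, n⁆, n⁆ ∈ center F) → n ∈ T
  noncyc : ¬ IsCyclic (T.map (QuotientGroup.mk' (center F)))

namespace Ctx

variable {F : Type*} [Group F] {T : Subgroup F}

theorem ql2 (h : Ctx T) {n : F} (hn : n ∈ normalizer (T : Set F))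
    (hc : ∀ t ∈ T, ⁅⁅t, n⁆, n⁆ = 1) : n ∈ T :=
  h.ql2Z n hn fun t ht => by rw [hc t ht]; exact one_mem _

theorem center_le (h : Ctx T) : center F ≤ T := fun _ hz =>
  h.cent (center_le_centralizer _ hz)

theorem commutator_mem (_ : Ctx T) {n : F} (hn : n ∈ normalizer (T : Set F)) {t : F}
    (ht : t ∈ T) : ⁅t, n⁆ ∈ T := by
  rw [commutatorElement_def]
  have h1 := T.mul_mem ht ((mem_normalizer_iff.mp hn t⁻¹).mp (T.inv_mem ht))
  simpa only [mul_assoc] using h1

theorem centralizer_ne_top (_ : Ctx T) {t : F} (ht : t ∉ center F) :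
    centralizer ({t} : Set F) ≠ ⊤ := by
  intro h1
  apply ht
  rw [mem_center_iff]
  intro g
  have : g ∈ centralizer ({t} : Set F) := by rw [h1]; exact mem_top g
  exact (mem_centralizer_singleton_iff.mp this)

/-- `C(t) ≤ N(T)` for `t ∈ T` not central. -/
theorem centralizer_le (h : Ctx T) {t : F} (htT : t ∈ T) (ht : t ∉ center F) :
    centralizer ({t} : Set F) ≤ normalizer (T : Set F) := by
  apply h.uniq _ _ (h.centralizer_ne_top ht)
  intro x hx
  rw [mem_centralizer_singleton_iff]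
  exact h.comm x hx t htT

/-- (A) the TI property: `T ∩ T ^ g = Z(F)` for `g ∉ N(T)`. -/
theorem ti (h : Ctx T) {t : F} (htT : t ∈ T) (ht : t ∉ center F) {g : F}
    (hg : g * t * g⁻¹ ∈ T) : g ∈ normalizer (T : Set F) := by
  have hs : g * t * g⁻¹ ∉ center F := by
    intro h1
    apply ht
    have h2 := (inferInstance : (center F).Normal).conj_mem _ h1 g⁻¹
    simpa [mul_assoc] using h2
  apply h.lt
  intro m hm
  apply h.centralizer_le hg hs
  rw [mem_centralizer_singleton_iff]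
  have := h.comm m hm t htT
  calc g * m * g⁻¹ * (g * t * g⁻¹) = g * (m * t) * g⁻¹ := by group
    _ = g * t * g⁻¹ * (g * m * g⁻¹) := by rw [this]; group

/-- (C) a normal subgroup contained in `N(T)` is central. -/
theorem le_center (h : Ctx T) {X : Subgroup F} (hX : X.Normal)
    (hXN : X ≤ normalizer (T : Set F)) : X ≤ center F := by
  have hcen : ∀ z ∈ center F, ∀ x : F, ⁅z, x⁆ = 1 := by
    intro z hz x
    rw [commutatorElement_eq_one_iff_mul_comm]
    exact (mem_center_iff.mp hz x).symm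
  have hcomm : ∀ t ∈ T, ∀ x ∈ X, ⁅t, x⁆ ∈ X ∧ ⁅t, x⁆ ∈ T := by
    intro t ht x hx
    refine ⟨?_, h.commutator_mem (hXN hx) ht⟩
    rw [commutatorElement_def]
    exact X.mul_mem (hX.conj_mem x hx t) (X.inv_mem hx)
  -- `X ⊓ T ≤ Z`
  have hXT : ∀ x ∈ X, x ∈ T → x ∈ center F := by
    obtain ⟨f, hf⟩ : ∃ f : F, f ∉ normalizer (T : Set F) := by
      by_contra hcon
      push Not at hcon
      exact h.ne (eq_top_iff.mpr fun x _ => hcon x)
    intro b hbX hbT
    by_contra hb
    -- `x = b ^ f`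
    have hxX : f * b * f⁻¹ ∈ X := hX.conj_mem b hbX f
    apply hf
    apply h.ti hbT hb
    apply h.ql2Z _ (hXN hxX)
    intro t ht
    obtain ⟨hcX, hcT⟩ := hcomm t ht _ hxX
    generalize ⁅t, f * b * f⁻¹⁆ = c at hcX hcT
    by_contra hZ
    -- `⁅c, x⁆` lies in `T` and in `T ^ f`
    have h1 : ⁅c, f * b * f⁻¹⁆ ∈ T := (hcomm c hcT _ hxX).2
    have hc' : f⁻¹ * c * f ∈ X := by
      have := hX.conj_mem c hcX f⁻¹
      simpa using this
    have h2 : ⁅f⁻¹ * c * f, b⁆ ∈ T := by
      have h3 := T.inv_mem (hcomm b hbT _ hc').2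
      rwa [commutatorElement_inv] at h3
    have h3 : ⁅c, f * b * f⁻¹⁆ = f * ⁅f⁻¹ * c * f, b⁆ * f⁻¹ := by
      rw [commutatorElement_def, commutatorElement_def]; group
    have h4 : ⁅f⁻¹ * c * f, b⁆ ∉ center F := by
      intro h5
      apply hZ
      rw [h3]
      exact (inferInstance : (center F).Normal).conj_mem _ h5 f
    exact hf (h.ti h2 h4 (h3 ▸ h1))
  intro x hx
  have hxT : x ∈ T := by
    apply h.ql2 (hXN hx)
    intro t ht
    obtain ⟨h1, h2⟩ := hcomm t ht x hx
    exact hcen _ (hXT _ h1 h2) x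
  exact hXT x hx hxT

theorem mk_mem_iff (h : Ctx T) {x : F} :
    QuotientGroup.mk' (center F) x ∈ T.map (QuotientGroup.mk' (center F)) ↔ x ∈ T := by
  constructor
  · rintro ⟨t, ht, htx⟩
    obtain ⟨z, hz, rfl⟩ := (QuotientGroup.mk'_eq_mk' _).mp htx
    exact T.mul_mem ht (h.center_le hz)
  · exact fun hx => mem_map_of_mem _ hx

theorem mk_mem_normalizer_iff (h : Ctx T) {x : F} :
    QuotientGroup.mk' (center F) x ∈
      normalizer ((T.map (QuotientGroup.mk' (center F)) : Subgroup (F ⧸ center F)) :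
        Set (F ⧸ center F)) ↔ x ∈ normalizer (T : Set F) := by
  rw [mem_normalizer_iff, mem_normalizer_iff]
  constructor
  · intro h1 y
    have h2 := h1 (QuotientGroup.mk' (center F) y)
    rw [← map_mul, ← map_inv, ← map_mul, h.mk_mem_iff, h.mk_mem_iff] at h2
    exact h2
  · intro h1 y
    obtain ⟨y, rfl⟩ := QuotientGroup.mk'_surjective (center F) y
    rw [← map_mul, ← map_inv, ← map_mul, h.mk_mem_iff, h.mk_mem_iff]
    exact h1 y

theorem mk_eq_one_iff {x : F} : QuotientGroup.mk' (center F) x = 1 ↔ x ∈ center F :=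
  QuotientGroup.eq_one_iff x

/-- **The passage to `F / Z(F)`.** -/
theorem core (h : Ctx T) : Core (T.map (QuotientGroup.mk' (center F))) where
  comm := by
    rintro _ ⟨x, hx, rfl⟩ _ ⟨y, hy, rfl⟩
    rw [← map_mul, ← map_mul, h.comm x hx y hy]
  cent := by
    intro x hx
    obtain ⟨x, rfl⟩ := QuotientGroup.mk'_surjective (center F) x
    rw [h.mk_mem_iff]
    rw [mem_centralizer_iff] at hx
    have hc : ∀ t ∈ T, ⁅t, x⁆ ∈ center F := by
      intro t ht
      have h1 := hx _ (mem_map_of_mem _ ht)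
      rw [← mk_eq_one_iff, map_commutatorElement, commutatorElement_eq_one_iff_mul_comm]
      exact h1
    have hN : x ∈ normalizer (T : Set F) := by
      rw [← h.mk_mem_normalizer_iff, mem_normalizer_iff]
      have h1 : ∀ y ∈ T.map (QuotientGroup.mk' (center F)),
          QuotientGroup.mk' (center F) x * y * (QuotientGroup.mk' (center F) x)⁻¹ = y := by
        intro y hy
        rw [← hx y hy, mul_inv_cancel_right]
      intro y
      constructor
      · intro hy
        rw [h1 y hy]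
        exact hy
      · intro hy
        have h2 := h1 _ hy
        have h3 : QuotientGroup.mk' (center F) x * y * (QuotientGroup.mk' (center F) x)⁻¹ = y := by
          have h4 := congrArg (fun w => (QuotientGroup.mk' (center F) x)⁻¹ * w *
            QuotientGroup.mk' (center F) x) h2
          simpa only [mul_assoc, _root_.QuotientGroup.mk'_apply, _root_.inv_mul_cancel_left, _root_.inv_mul_cancel, _root_.mul_one] using h4
        rw [h3] at hy
        exact hy
    apply h.ql2 hN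
    intro t ht
    rw [commutatorElement_eq_one_iff_mul_comm]
    exact (mem_center_iff.mp (hc t ht) x).symm
  ne := by
    intro h1
    apply h.ne
    rw [eq_top_iff]
    intro x _
    rw [← h.mk_mem_normalizer_iff, h1]
    exact mem_top _
  uniq := by
    intro H hH hne x hx
    obtain ⟨x, rfl⟩ := QuotientGroup.mk'_surjective (center F) x
    rw [h.mk_mem_normalizer_iff]
    refine h.uniq (H.comap (QuotientGroup.mk' (center F))) ?_ ?_ hx
    · intro t ht
      exact hH (mem_map_of_mem _ ht)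
    · intro h1
      apply hne
      rw [eq_top_iff]
      intro y _
      obtain ⟨y, rfl⟩ := QuotientGroup.mk'_surjective (center F) y
      have : y ∈ H.comap (QuotientGroup.mk' (center F)) := by rw [h1]; exact mem_top y
      exact this
  ti := by
    rintro _ ⟨t, ht, rfl⟩ ht1 g hg
    obtain ⟨g, rfl⟩ := QuotientGroup.mk'_surjective (center F) g
    rw [← map_mul, ← map_inv, ← map_mul, h.mk_mem_iff] at hg
    rw [h.mk_mem_normalizer_iff]
    refine h.ti ht (fun h1 => ht1 (mk_eq_one_iff.mpr h1)) hg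
  norm := by
    intro X hX hXN
    rw [eq_bot_iff]
    intro x hx
    obtain ⟨x, rfl⟩ := QuotientGroup.mk'_surjective (center F) x
    rw [mem_bot, mk_eq_one_iff]
    refine h.le_center (X := X.comap (QuotientGroup.mk' (center F))) inferInstance ?_ hx
    intro y hy
    rw [← h.mk_mem_normalizer_iff]
    exact hXN hy
  noncyc := h.noncyc

/-- **Layer (2).**  `F / Z(F) = T̄ L` with `L` simple non-abelian normal, `C(L) = 1`,
`T̄ ∩ L ≠ 1`. -/
theorem main [Finite F] (h : Ctx T) : ∃ L : Subgroup (F ⧸ center F), L.Normal ∧ IsSimpleGroup L ∧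
    (¬ ∀ x y : L, x * y = y * x) ∧ T.map (QuotientGroup.mk' (center F)) ⊔ L = ⊤ ∧
    centralizer (L : Set (F ⧸ center F)) = ⊥ ∧
    T.map (QuotientGroup.mk' (center F)) ⊓ L ≠ ⊥ :=
  h.core.main

end Ctx

end Cfsg.Agent.H298.OT
end

-- part: H186/OT/Iface
section
set_option linter.all false
open scoped Cfsg.Agent.FastGrp

/-!
# S2539: interface between the concrete layer and the group theory (helper186)

* `NoEl A l` : for `g ∉ N(A)` the group `N(A) ∩ A^g` has no element of order `l` (end games of helper336 / helper214);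
* `Zf F = F ∩ C(F)`, `Psi D K F` : the roots trivial on `Zf F`;
* `NoElF D K F l` : the concrete form of `NoEl` modulo the centre; `NoElF.noEl` : the translation to `F / Z(F)`;
* `MinBad.le_norm` : `S_F = ∅`: every proper overgroup of `T` in `F` normalises `T`.
-/

set_option autoImplicit false

namespace Cfsg.Agent.H186.OT

open Subgroup Cfsg.Lie Cfsg.Agent.H412.OT

universe u

/-- For `g ∉ N(A)` the group `N(A) ∩ A^g` has no element of order `l`. -/
def NoEl {G : Type*} [Group G] (A : Subgroup G) (l : ℕ) : Prop :=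
  ∀ g : G, g ∉ normalizer (A : Set G) → ∀ m ∈ normalizer (A : Set G), g * m * g⁻¹ ∈ A → m ^ l = 1 → m = 1

/-- The centre of `F` as a subgroup of the ambient group. -/
def Zf {G : Type*} [Group G] (F : Subgroup G) : Subgroup G := F ⊓ centralizer (F : Set G)

theorem mem_Zf {G : Type*} [Group G] {F : Subgroup G} {z : G} :
    z ∈ Zf F ↔ z ∈ F ∧ ∀ x ∈ F, x * z = z * x := by
  rw [Zf, mem_inf, mem_centralizer_iff]
  rfl

theorem coe_mem_Zf {G : Type*} [Group G] {F : Subgroup G} {z : F} : (z : G) ∈ Zf F ↔ z ∈ center F := by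
  rw [mem_Zf, mem_center_iff]
  exact ⟨fun h x => Subtype.ext (h.2 x x.2), fun h => ⟨z.2, fun x hx => congrArg Subtype.val (h ⟨x, hx⟩)⟩⟩

section Conc

variable (D : ChevalleyDatum) (K : Type u) [Field K]

/-- The roots that are trivial on the centre of `F`. -/
def Psi (F : Subgroup (GL D.Idx K)) : Set ℕ := {a | a < D.nroots ∧ ∀ z ∈ Zf F, chi D K z a = 1}

/-- For `g ∈ F - N(T)` the group `N_F(T) ∩ T^g` has no element of order `l` modulo `Z(F)`. -/
def NoElF (F : Subgroup (GL D.Idx K)) (l : ℕ) : Prop :=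
  ∀ g ∈ F, g ∉ normalizer (D.diagonalSubgroup K : Set (GL D.Idx K)) →
    ∀ m ∈ F, m ∈ normalizer (D.diagonalSubgroup K : Set (GL D.Idx K)) →
      g * m * g⁻¹ ∈ D.diagonalSubgroup K → m ^ l ∈ Zf F → m ∈ Zf F

end Conc

variable {D : ChevalleyDatum} {K : Type u} [Field K] {F : Subgroup (GL D.Idx K)}

/-- Normalisers in `F`. -/
theorem mem_normalizer_subgroupOf (hT : D.diagonalSubgroup K ≤ F) {x : F} :
    x ∈ normalizer (((D.diagonalSubgroup K).subgroupOf F : Subgroup F) : Set F) ↔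
      (x : GL D.Idx K) ∈ normalizer (D.diagonalSubgroup K : Set (GL D.Idx K)) := by
  rw [mem_normalizer_iff, mem_normalizer_iff]
  constructor
  · intro h t
    constructor
    · intro ht
      exact (h ⟨t, hT ht⟩).1 ht
    · intro ht
      have h1 : t ∈ F := by
        have h2 : (x : GL D.Idx K)⁻¹ * (x * t * (x : GL D.Idx K)⁻¹) * x = t := by group
        rw [← h2]
        exact mul_mem (mul_mem (inv_mem x.2) (hT ht)) x.2
      exact (h ⟨t, h1⟩).2 ht
  · intro h t
    exact h t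

theorem NoElF.noEl {l : ℕ} (hT : D.diagonalSubgroup K ≤ F) (h : NoElF D K F l)
    (hc : H298.OT.Ctx ((D.diagonalSubgroup K).subgroupOf F)) :
    NoEl (((D.diagonalSubgroup K).subgroupOf F).map (QuotientGroup.mk' (center F))) l := by
  intro g hg m hm hgm hml
  obtain ⟨g, rfl⟩ := QuotientGroup.mk'_surjective _ g
  obtain ⟨m, rfl⟩ := QuotientGroup.mk'_surjective _ m
  rw [hc.mk_mem_normalizer_iff, mem_normalizer_subgroupOf hT] at hg hm
  rw [← map_inv, ← map_mul, ← map_mul, hc.mk_mem_iff] at hgm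
  rw [← map_pow, H298.OT.Ctx.mk_eq_one_iff, ← coe_mem_Zf] at hml
  rw [H298.OT.Ctx.mk_eq_one_iff, ← coe_mem_Zf]
  exact h g g.2 hg m m.2 hm hgm hml

/-- `S_F = ∅`: the proper overgroups of `T` in `F` normalise `T`. -/
theorem MinBad.le_norm (h : MinBad D K F) (he : SF D K F = ∅) {H : Subgroup (GL D.Idx K)}
    (hT : D.diagonalSubgroup K ≤ H) (hH : H < F) : H ≤ normalizer (D.diagonalSubgroup K : Set (GL D.Idx K)) := by
  have h1 : SF D K H = ∅ := Set.subset_empty_iff.1 ((SF_mono hH.le).trans he.subset)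
  have h2 : DF D K H = ⊥ := by
    rw [DF, h1]
    simp
  intro x hx
  obtain ⟨d, hd, n, -, hn, rfl⟩ := h.min H hT hH x hx
  rw [h2, mem_bot] at hd
  rw [hd, one_mul]
  exact hn

theorem MinBad.not_le_norm (h : MinBad D K F) : ¬ F ≤ normalizer (D.diagonalSubgroup K : Set (GL D.Idx K)) := by
  intro h1
  exact h.bad fun x hx => ⟨1, one_mem _, x, hx, h1 hx, (one_mul x).symm⟩

end Cfsg.Agent.H186.OT

private theorem dce_7362d2c005d0 : _root_.True := by
  try have : _root_.True := by simp only [_root_.Cfsg.Agent.H412.OT.DF.eq_1]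
  try have : _root_.True := by simp only [_root_.Cfsg.Agent.H186.OT.Zf.eq_1]
  exact _root_.True.intro
end

-- part: H3/OT/Refl
section
set_option linter.all false
open scoped Cfsg.Agent.FastGrp

/-!
# S2539 (helper3): the Weyl group of `G(Ψ)`

`13 ≤ |K|`; `N = D.monomialSubgroup K`, `T = D.diagonalSubgroup K`, `perm = permHom hp.inList K`.

* `exists_rp`, `vec_perm` : every `n ∈ N` lies over some `w ∈ W`, and then `vec (perm n r) = rep w (vec r)`;
* `mem_tor_of_perm` : `perm n = 1` implies `n ∈ T`;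
* `refl_PsiZ`, `refl_Psi` (W4) : for `n ∈ N ∩ G(Ψ)` the vector `vec (perm n s) - vec s` lies in the lattice of `Ψ`.
-/

set_option autoImplicit false
set_option linter.unusedSectionVars false

universe u

namespace Cfsg.Agent.H3.OT

open CoxeterSystem Cfsg Cfsg.Lie Cfsg.Lie.ChevalleyDatum Cfsg.Agent.ChevalleyStructure
  Cfsg.Agent.ChevalleyStructure.Elts Cfsg.Agent.ChevalleyStructure.NPerm Cfsg.Agent.ChevalleyStructure.CoxeterGeom
  Cfsg.Agent.Tits.Roots Cfsg.Agent.Nodes.Reps Cfsg.Agent.Nodes.BNOf Cfsg.Agent.Nodes.Bruhat Cfsg.Agent.Nodes.Coroot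
  Cfsg.Agent.Nodes.RGDChev Cfsg.Agent.Nodes Cfsg.Agent.H412.OT Cfsg.Agent.H186.OT Cfsg.Agent.H460.OT

variable {D : ChevalleyDatum} {K : Type u} [Field K]

section

variable [Finite K] {l : ℕ} {M : CoxeterMatrix (Fin l)} (hp : IsType D l M) {W : Type*} [Group W]
  (cs : CoxeterSystem M W)

/-- every element of `N` lies over an element of `W` -/
theorem exists_rp (n : ↥(D.monomialSubgroup K)) : ∃ w, Rp cs (nsys (K := K) hp) w (n : GL D.Idx K) := by
  obtain ⟨P, hP⟩ : ∃ P : GL D.Idx K → Prop, ∀ g, P g ↔ ∃ w, Rp cs (nsys (K := K) hp) w g := ⟨_, fun _ => Iff.rfl⟩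
  rw [← hP]
  refine mono_induction hp.inList (P := fun m : ↥(D.monomialSubgroup K) => P m) ?_ ?_ ?_ ?_ n
  · intro i hi
    have hi' : i < l := by rw [← hp.rank_eq]; exact hi
    exact (hP _).2 ⟨_, rp_simple (cs := cs) (hN := nsys (K := K) hp) ⟨i, hi'⟩⟩
  · intro t ht
    exact (hP _).2 ⟨1, rp_of_mem ht⟩
  · intro m n hm hn
    obtain ⟨v, hv⟩ := (hP _).1 hm
    obtain ⟨w, hw⟩ := (hP _).1 hn
    exact (hP _).2 ⟨v * w, hv.mul hw⟩
  · intro n hn
    obtain ⟨w, hw⟩ := (hP _).1 hn
    exact (hP _).2 ⟨w⁻¹, hw.inv⟩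

variable (p : ℕ) [Fact p.Prime] [CharP K p]

include p in
/-- the action of `n` over `w` -/
theorem vec_perm {w : W} {n : ↥(D.monomialSubgroup K)} (hn : Rp cs (nsys (K := K) hp) w (n : GL D.Idx K))
    (r : Fin D.nroots) :
    vec D l ((permHom hp.inList K n r : Fin D.nroots) : ℕ) = rep cs hp.isCartan w (vec D l r) := by
  have h1 := (rgd_GL (K := K) hp cs p).conj_rp hn (isRoot_vec hp cs r.2)
  obtain ⟨s, hs, e⟩ := (isRoot_iff hp cs _).1 ((isRoot_vec hp cs r.2).act w)
  rw [← e, XV_vec hp K r.2, XV_vec hp K hs] at h1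
  have h2 : permHom hp.inList K n r = ⟨s, hs⟩ := permHom_eq_of_conj hp.inList h1
  rw [h2, ← e]

end

/-- `G(Ψ)` centralises `Z`. -/
theorem GS_PsiZ_comm (hD : InList D) {Z : Subgroup (GL D.Idx K)} (hZ : Z ≤ D.diagonalSubgroup K) :
    GS D K (PsiZ D K Z) ≤ Subgroup.centralizer (Z : Set (GL D.Idx K)) := by
  refine sup_le ?_ (iSup₂_le fun r hr => ?_)
  · intro t ht
    rw [Subgroup.mem_centralizer_iff]
    intro z hz
    have h1 := coe_tor hD ht
    have h2 := coe_tor hD (hZ hz)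
    apply Units.ext
    rw [Units.val_mul, Units.val_mul, h1, h2, Matrix.diagonal_mul_diagonal, Matrix.diagonal_mul_diagonal]
    congr 1
    funext i
    exact mul_comm _ _
  · intro x hx
    rw [Subgroup.mem_centralizer_iff]
    intro z hz
    obtain ⟨a, rfl⟩ := (mem_rootSubgroup_iff hD r x).1 hx
    have h1 := tor_conj_xG hD (hZ hz) hr.1 a
    rw [hr.2 z hz, one_mul, mul_inv_eq_iff_eq_mul] at h1
    exact h1

/-- the roots of `G(Ψ)` -/
theorem mem_PsiZ_of_le (hD : InList D) {Z : Subgroup (GL D.Idx K)} (hZ : Z ≤ D.diagonalSubgroup K) {r : ℕ}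
    (hr : r < D.nroots) (h : D.rootSubgroup K r ≤ GS D K (PsiZ D K Z)) : r ∈ PsiZ D K Z := by
  refine ⟨hr, fun z hz => ?_⟩
  have h1 := Subgroup.mem_centralizer_iff.1 (GS_PsiZ_comm hD hZ (h (xG_mem_rootSubgroup hD r 1))) z hz
  have h2 := tor_conj_xG hD (hZ hz) hr 1
  rw [h1, mul_inv_cancel_right, mul_one] at h2
  exact (xG_injective hD hr h2).symm

/-- **(W4)** -/
theorem refl_PsiZ [Finite K] (hK : 13 ≤ Nat.card K) {l : ℕ} {M : CoxeterMatrix (Fin l)} (hp : IsType D l M)
    {Z : Subgroup (GL D.Idx K)} (hZ : Z ≤ D.diagonalSubgroup K) (n : ↥(D.monomialSubgroup K))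
    (hn : (n : GL D.Idx K) ∈ GS D K (PsiZ D K Z)) (s : Fin D.nroots) :
    vec D l ((permHom hp.inList K n s : Fin D.nroots) : ℕ) - vec D l s ∈
      AddSubgroup.closure (vec D l '' PsiZ D K Z) := by
  obtain ⟨p, hcp⟩ := CharP.exists K
  have hpf : Fact p.Prime := ⟨CharP.char_is_prime K p⟩
  have : Finite (GL D.Idx K) := inferInstance
  let cs : CoxeterSystem M M.Group := M.toCoxeterSystem
  have hW : Finite M.Group := finite_W hp cs
  obtain ⟨z, hz⟩ := td hp cs p hK
  obtain ⟨w, hw⟩ := exists_rp (K := K) hp cs n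
  have hR := rgd_GL (K := K) hp cs p
  obtain ⟨H, hH⟩ : ∃ H, H = GS D K (PsiZ D K Z) := ⟨_, rfl⟩
  have hTH : D.diagonalSubgroup K ≤ H := by rw [hH]; exact tor_le_GS _
  have hmem : ∀ x, x ∈ RS cs hp.isCartan (XV D l K) H → ∃ r ∈ PsiZ D K Z, vec D l r = x := by
    rintro x ⟨hx, hxH⟩
    obtain ⟨r, hr, rfl⟩ := (isRoot_iff hp cs x).1 hx
    rw [XV_vec hp K hr, hH] at hxH
    exact ⟨r, mem_PsiZ_of_le hp.inList hZ hr hxH, rfl⟩
  have hmem' : ∀ r ∈ PsiZ D K Z, vec D l r ∈ RS cs hp.isCartan (XV D l K) H := by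
    intro r hr
    refine ⟨isRoot_vec hp cs hr.1, ?_⟩
    rw [XV_vec hp K hr.1, hH]
    exact root_le_GS hr
  have hneg : ∀ r ∈ PsiZ D K Z, D.neg r ∈ PsiZ D K Z := by
    intro r hr
    refine ⟨neg_lt hp.inList hr.1, fun z hz => ?_⟩
    rw [Cfsg.Agent.H194.OT.chi_neg hp.inList (hZ hz) hr.1, hr.2 z hz, inv_one]
  have hpos : ∀ a ∈ RS cs hp.isCartan (XV D l K) H, -a ∉ RS cs hp.isCartan (XV D l K) H → 0 ≤ a := by
    intro a ha hna
    exfalso
    obtain ⟨r, hr, rfl⟩ := hmem a ha
    apply hna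
    rw [← RGDChev.vec_neg hp hr.1]
    exact hmem' _ (hneg r hr)
  have hG0 : (n : GL D.Idx K) ∈ G0 cs hp.isCartan (D.diagonalSubgroup K) (XV D l K) H := by
    have h1 : GS D K (PsiZ D K Z) ≤ G0 cs hp.isCartan (D.diagonalSubgroup K) (XV D l K) H := by
      refine sup_le T_le_G0 (iSup₂_le fun r hr => ?_)
      rw [← XV_vec hp K hr.1]
      exact X_le_G0 (hmem' r hr)
    exact h1 hn
  have h1 := mem_W0_of_rp hR hz hTH hpos hG0 hw
  have h2 : ∀ x, rep cs hp.isCartan w x - x ∈ AddSubgroup.closure (vec D l '' PsiZ D K Z) := by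
    clear hw
    unfold W0 at h1
    induction h1 using Subgroup.closure_induction with
    | mem s hs =>
      obtain ⟨a, ha, hs⟩ := hs
      intro x
      obtain ⟨r, hr, rfl⟩ := hmem a ha.1.1.1
      rw [hs x, sub_sub_cancel_left]
      have h3 : vec D l r ∈ AddSubgroup.closure (vec D l '' PsiZ D K Z) := AddSubgroup.subset_closure ⟨r, hr, rfl⟩
      exact neg_mem (zsmul_mem h3 _)
    | one =>
      intro x
      rw [map_one, Module.End.one_apply, sub_self]
      exact zero_mem _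
    | mul v v' _ _ ih ih' =>
      intro x
      rw [rep_mul_apply]
      have h3 := add_mem (ih (rep cs hp.isCartan v' x)) (ih' x)
      rwa [sub_add_sub_cancel] at h3
    | inv v _ ih =>
      intro x
      have h3 := neg_mem (ih (rep cs hp.isCartan v⁻¹ x))
      rwa [rep_apply_inv, neg_sub] at h3
  rw [vec_perm hp cs p hw]
  exact h2 _

/-- **(W4)** in the form of helper501. -/
theorem refl_Psi [Finite K] (hK : 13 ≤ Nat.card K) {l : ℕ} {M : CoxeterMatrix (Fin l)} (hp : IsType D l M)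
    {F : Subgroup (GL D.Idx K)} (hZ : Zf F ≤ D.diagonalSubgroup K) (n : ↥(D.monomialSubgroup K))
    (hn : (n : GL D.Idx K) ∈ GS D K (Psi D K F)) (s : Fin D.nroots) :
    vec D l ((permHom hp.inList K n s : Fin D.nroots) : ℕ) - vec D l s ∈ AddSubgroup.closure (vec D l '' Psi D K F) :=
  refl_PsiZ hK hp hZ n hn s

end Cfsg.Agent.H3.OT
end

-- part: H186/OT/Emp
section
set_option linter.all false
open scoped Cfsg.Agent.FastGrp

/-!
# S2539: `S_F = ∅`, the TI property on the concrete level (helper186)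

`ti0` : `t ∈ T`, `f ∈ F`, `f t f⁻¹ ∈ T`, `t ∉ Z(F)` imply `f ∈ N(T)` (input: LT2).
-/

set_option autoImplicit false

namespace Cfsg.Agent.H186.OT

open Subgroup Cfsg.Lie Cfsg.Agent.H412.OT

universe u

variable {D : ChevalleyDatum} {K : Type u} [Field K] {F : Subgroup (GL D.Idx K)}

theorem tor_comm (hD : Cfsg.Agent.ChevalleyStructure.Elts.InList D) {s t : GL D.Idx K} (hs : s ∈ D.diagonalSubgroup K)
    (ht : t ∈ D.diagonalSubgroup K) : s * t = t * s := by
  apply Units.ext
  rw [Units.val_mul, Units.val_mul, coe_tor hD hs, coe_tor hD ht, Matrix.diagonal_mul_diagonal,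
    Matrix.diagonal_mul_diagonal]
  congr 1
  funext i
  exact mul_comm _ _

/-- the TI property modulo the centre, on the concrete level -/
theorem ti0 (hD : Cfsg.Agent.ChevalleyStructure.Elts.InList D) (h : MinBad D K F) (he : SF D K F = ∅)
    (lt2 : ∀ g ∈ F, (∀ t ∈ D.diagonalSubgroup K, g * t * g⁻¹ ∈ normalizer (D.diagonalSubgroup K : Set (GL D.Idx K))) →
      g ∈ normalizer (D.diagonalSubgroup K : Set (GL D.Idx K)))
    {t f : GL D.Idx K} (ht : t ∈ D.diagonalSubgroup K) (hf : f ∈ F) (hft : f * t * f⁻¹ ∈ D.diagonalSubgroup K)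
    (hz : t ∉ Zf F) : f ∈ normalizer (D.diagonalSubgroup K : Set (GL D.Idx K)) := by
  set C : Subgroup (GL D.Idx K) := F ⊓ centralizer {f * t * f⁻¹} with hC
  have hmem : ∀ x, x ∈ C ↔ x ∈ F ∧ x * (f * t * f⁻¹) = (f * t * f⁻¹) * x := fun x => by
    rw [hC, mem_inf, mem_centralizer_iff]
    constructor
    · exact fun h1 => ⟨h1.1, (h1.2 _ rfl).symm⟩
    · rintro ⟨h1, h2⟩
      refine ⟨h1, ?_⟩
      rintro y rfl
      exact h2.symm
  have hT : D.diagonalSubgroup K ≤ C := fun s hs => (hmem s).2 ⟨h.tor hs, tor_comm hD hs hft⟩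
  have hlt : C < F := by
    refine lt_of_le_of_ne inf_le_left fun heq => hz ?_
    refine mem_Zf.2 ⟨h.tor ht, fun x hx => ?_⟩
    have h1 : f * x * f⁻¹ ∈ C := by
      rw [heq]
      exact mul_mem (mul_mem hf hx) (inv_mem hf)
    have h2 := ((hmem _).1 h1).2
    have h3 : f * (x * t) * f⁻¹ = f * (t * x) * f⁻¹ := by
      calc f * (x * t) * f⁻¹ = f * x * f⁻¹ * (f * t * f⁻¹) := by group
        _ = f * t * f⁻¹ * (f * x * f⁻¹) := h2
        _ = f * (t * x) * f⁻¹ := by group
    exact mul_left_cancel (mul_right_cancel h3)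
  have hN := MinBad.le_norm h he hT hlt
  refine lt2 f hf fun s hs => hN ((hmem _).2 ⟨mul_mem (mul_mem hf (h.tor hs)) (inv_mem hf), ?_⟩)
  calc f * s * f⁻¹ * (f * t * f⁻¹) = f * (s * t) * f⁻¹ := by group
    _ = f * (t * s) * f⁻¹ := by rw [tor_comm hD hs ht]
    _ = f * t * f⁻¹ * (f * s * f⁻¹) := by group

end Cfsg.Agent.H186.OT
end

-- part: H194/OT/RankOneEnd
section
set_option linter.all false
open scoped Cfsg.Agent.FastGrp

/-!
# S2539, part 2.4: the end of the rank one case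
-/

set_option autoImplicit false

namespace Cfsg.Agent.H194.OT

open Cfsg Cfsg.Lie Cfsg.Lie.ChevalleyDatum
open Cfsg.Agent.H412.OT Cfsg.Agent.H186.OT

universe u

variable {D : ChevalleyDatum} {K : Type u} [Field K] {F : Subgroup (GL D.Idx K)}

theorem GS_mono {S S' : Set ℕ} (h : S ⊆ S') : GS D K S ≤ GS D K S' :=
  sup_le_sup_left (iSup₂_le fun r hr => le_iSup₂ (f := fun r (_ : r ∈ S') => D.rootSubgroup K r) r (h hr)) _

/-- **S2539, part 2.4** : if no root subgroup lies in the minimal counterexample `F` and `F ≤ ⟨T, X_a : a ∈ Psi⟩`, then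
`Psi` has at least two linearly independent roots. -/
theorem rank_one_false [Fintype K] {p : ℕ} (hy : Hyp K p D) (h : MinBad D K F) (he : SF D K F = ∅)
    (hC : F ≤ GS D K (Psi D K F)) {a : ℕ} (ha : a < D.nroots) (hP : Psi D K F ⊆ {a, D.neg a}) : False :=
  Cfsg.Agent.H186.OT.MinBad.not_le_norm h (rank_one_GS hy ha h.tor (hC.trans (GS_mono hP)) (by rw [he]; exact fun h => h)
    (by rw [he]; exact fun h => h))

end Cfsg.Agent.H194.OT
end

-- part: H712/OT/EvenDefs
section
set_option linter.all false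

/-!
# S2539, part 4 (q even): the abstract context (helper712)

`Ctx K Y T M Φ Ψ P` : `Y = F/Z`, `T` (the image of) the split torus, `M = N_Y(T)`, `Φ` the roots of `G`, `Ψ` the roots
trivial on `Z`, `P a b = ⟨a, b^∨⟩` (simply laced), the action of `M` on the roots, coroots, root characters, and the facts
2.1, 2.2, 2.5 of the plan.
-/

set_option autoImplicit false

namespace Cfsg.Agent.H712.OT

universe u v w

/-- Context of part 4 of the plan of S2539 (simply laced). -/
structure Ctx (K : Type u) [Field K] [Fintype K] (Y : Type v) [Group Y] (T M : Subgroup Y)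
    (Φ : Type w) (Ψ : Set Φ) (P : Φ → Φ → ℤ) where
  /-- the torus is in `M` -/
  TM : T ≤ M
  comm : ∀ s ∈ T, ∀ t ∈ T, s * t = t * s
  symm : ∀ a b, P a b = P b a
  self : ∀ a, P a a = 2
  P_abs : ∀ a b, |P a b| ≤ 2
  two : ∀ a b, P a b = 2 → a = b
  /-- negative root -/
  neg : Φ → Φ
  P_neg : ∀ a b, P (neg a) b = - P a b
  neg_mem : ∀ a ∈ Ψ, neg a ∈ Ψ
  /-- the action on the roots -/
  act : M →* Equiv.Perm Φ
  act_P : ∀ m x y, P (act m x) (act m y) = P x y
  act_mem : ∀ m x, x ∈ Ψ → act m x ∈ Ψ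
  /-- the torus acts trivially, the action of `M/T` on `Ψ` is faithful -/
  act_T : ∀ m : M, (m : Y) ∈ T ↔ ∀ x ∈ Ψ, act m x = x
  /-- coroots -/
  h : Φ → Kˣ →* Y
  h_mem : ∀ a c, h a c ∈ T
  /-- root characters -/
  χ : Φ → Y → Kˣ
  χ_mul : ∀ a ∈ Ψ, ∀ s ∈ T, ∀ t ∈ T, χ a (s * t) = χ a s * χ a t
  χ_h : ∀ a ∈ Ψ, ∀ b ∈ Ψ, ∀ c, χ b (h a c) = c ^ P b a
  χ_inj : ∀ t ∈ T, (∀ b ∈ Ψ, χ b t = 1) → t = 1
  χ_act : ∀ m : M, ∀ b ∈ Ψ, ∀ t ∈ T, χ (act m b) ((m : Y) * t * (m : Y)⁻¹) = χ b t
  conj_mem : ∀ m ∈ M, ∀ t ∈ T, m * t * m⁻¹ ∈ T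
  χ_neg : ∀ a ∈ Ψ, ∀ t ∈ T, χ (neg a) t = (χ a t)⁻¹
  add : ∀ a ∈ Ψ, ∀ b ∈ Ψ, P a b = -1 → ∃ c ∈ Ψ, (∀ x, P c x = P a x + P b x) ∧ ∀ t ∈ T, χ c t = χ a t * χ b t
  /-- 2.1 -/
  ti : ∀ f, f ∉ M → ∀ t ∈ T, f * t * f⁻¹ ∈ T → t = 1
  cent : ∀ t ∈ T, t ≠ 1 → ∀ g, g * t = t * g → g ∈ M
  /-- 2.3 -/
  irred : ∀ S : Set Φ, S ⊆ Ψ → S.Nonempty → S ≠ Ψ → ∃ a ∈ S, ∃ b ∈ Ψ, b ∉ S ∧ P a b ≠ 0
  /-- 2.4 -/
  rank : ∃ a ∈ Ψ, ∃ b ∈ Ψ, P a b = -1
  /-- 2.5 -/
  KK : ∀ f, f ∉ M → ∀ m : M, m ≠ 1 → f * (m : Y) * f⁻¹ ∈ T → ∀ l : List Φ,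
    (∀ x, (l.map fun a => P x (act m a)).sum = (l.map fun a => P x a).sum) →
    (∀ x, |(l.map fun a => P x a).sum| ≤ 4) → ∀ a ∈ Ψ, ((Fintype.card K - 1 : ℕ) : ℤ) ∣ (l.map fun b => P a b).sum
  /-- the rank of the root system is at most 8 -/
  basis : ∃ s : Fin 8 → Φ, ∀ a, ∃ c : Fin 8 → ℤ, ∀ x, P a x = ∑ i, c i * P (s i) x

end Cfsg.Agent.H712.OT
end

-- part: H186/OT/LT
section
set_option linter.all false
open scoped Cfsg.Agent.FastGrp

/-!
# The Laurent trick (helper186, after helper249), for S2539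

* `IsLaurent a D f` : `f : Kˣ → K` is a Laurent polynomial with exponents in `[a, a + D]`;
* `IsLaurent.eq_top` : a subgroup of `Kˣ` containing all `c` with `f c ≠ 0` is everything (`f 1 ≠ 0`, `D` small);
* `fix_of_laurent` : a one-parameter group `λ : Kˣ →* End V` with Laurent matrix coefficients permuting an independent
  family of nonzero subspaces fixes every member.
-/

set_option autoImplicit false

namespace Cfsg.Agent.H186.OT

open Polynomial

universe u v w

variable {K : Type u} [Field K]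

/-- `f : Kˣ → K` is a Laurent polynomial with exponents in `[a, a + D]`. -/
def IsLaurent (a : ℤ) (D : ℕ) (f : Kˣ → K) : Prop :=
  ∃ p : K[X], p.natDegree ≤ D ∧ ∀ c : Kˣ, f c = ((c ^ a : Kˣ) : K) * p.eval (c : K)

theorem IsLaurent.zero (a : ℤ) (D : ℕ) : IsLaurent a D (fun _ : Kˣ => (0 : K)) :=
  ⟨0, by simp, fun c => by simp⟩

theorem IsLaurent.add {a : ℤ} {D : ℕ} {f g : Kˣ → K} (hf : IsLaurent a D f) (hg : IsLaurent a D g) :
    IsLaurent a D (fun c => f c + g c) := by
  obtain ⟨p, hp, hpf⟩ := hf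
  obtain ⟨r, hr, hrg⟩ := hg
  exact ⟨p + r, (natDegree_add_le _ _).trans (max_le hp hr), fun c => by
    change f c + g c = _
    rw [hpf, hrg, eval_add, mul_add]⟩

theorem IsLaurent.const_mul {a : ℤ} {D : ℕ} {f : Kˣ → K} (hf : IsLaurent a D f) (x : K) :
    IsLaurent a D (fun c => x * f c) := by
  obtain ⟨p, hp, hpf⟩ := hf
  refine ⟨C x * p, (natDegree_C_mul_le _ _).trans hp, fun c => ?_⟩
  change x * f c = _
  rw [hpf, eval_mul, eval_C]
  ring

theorem IsLaurent.mul_const {a : ℤ} {D : ℕ} {f : Kˣ → K} (hf : IsLaurent a D f) (x : K) :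
    IsLaurent a D (fun c => f c * x) := by
  simpa only [mul_comm] using hf.const_mul x

theorem IsLaurent.sum {a : ℤ} {D : ℕ} {ι : Type*} (s : Finset ι) {f : ι → Kˣ → K} (hf : ∀ i ∈ s, IsLaurent a D (f i)) :
    IsLaurent a D (fun c => ∑ i ∈ s, f i c) := by
  classical
  induction s using Finset.induction_on with
  | empty => simpa using IsLaurent.zero a D
  | insert i s hi ih =>
      simp only [Finset.sum_insert hi]
      exact (hf i (Finset.mem_insert_self _ _)).add (ih fun j hj => hf j (Finset.mem_insert_of_mem hj))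

/-- a monomial -/
theorem IsLaurent.zpow {a : ℤ} {D : ℕ} {k : ℤ} (h1 : a ≤ k) (h2 : k ≤ a + D) :
    IsLaurent a D (fun c : Kˣ => ((c ^ k : Kˣ) : K)) := by
  refine ⟨X ^ (k - a).toNat, (natDegree_X_pow_le _).trans (by omega), fun c => ?_⟩
  have hk : a + ((k - a).toNat : ℤ) = k := by omega
  change ((c ^ k : Kˣ) : K) = _
  rw [eval_pow, eval_X, ← Units.val_pow_eq_pow_val, ← Units.val_mul, ← zpow_natCast, ← zpow_add, hk]

theorem IsLaurent.mono {a b : ℤ} {D E : ℕ} {f : Kˣ → K} (hf : IsLaurent a D f) (h1 : b ≤ a) (h2 : a + D ≤ b + E) :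
    IsLaurent b E f := by
  obtain ⟨p, hp, hpf⟩ := hf
  refine ⟨X ^ (a - b).toNat * p, ?_, fun c => ?_⟩
  · refine (natDegree_mul_le).trans ?_
    have := natDegree_X_pow_le (R := K) (a - b).toNat
    omega
  · have hk : b + ((a - b).toNat : ℤ) = a := by omega
    rw [hpf, eval_mul, eval_pow, eval_X, ← mul_assoc, ← Units.val_pow_eq_pow_val, ← Units.val_mul, ← zpow_natCast,
      ← zpow_add, hk]

/-- at most `D` zeros -/
theorem IsLaurent.card_zeros [Fintype K] [DecidableEq K] {a : ℤ} {D : ℕ} {f : Kˣ → K} (hf : IsLaurent a D f)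
    {c₀ : Kˣ} (h0 : f c₀ ≠ 0) : (Finset.univ.filter fun c : Kˣ => f c = 0).card ≤ D := by
  obtain ⟨p, hp, hpf⟩ := hf
  have hp0 : p ≠ 0 := by
    rintro rfl
    exact h0 (by rw [hpf]; simp)
  refine le_trans ?_ ((card_roots' p).trans hp)
  rw [← Finset.card_image_of_injective (Finset.univ.filter fun c : Kˣ => f c = 0) Units.val_injective]
  refine le_trans (Finset.card_le_card (t := p.roots.toFinset) ?_) (Multiset.toFinset_card_le _)
  intro x hx
  obtain ⟨c, hc, rfl⟩ := Finset.mem_image.1 hx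
  rw [Multiset.mem_toFinset, mem_roots hp0, IsRoot.def]
  have h1 := (Finset.mem_filter.1 hc).2
  rw [hpf] at h1
  exact (mul_eq_zero.1 h1).resolve_left (Units.ne_zero _)

/-- a subgroup containing all `c` with `f c ≠ 0` is everything -/
theorem IsLaurent.eq_top [Fintype K] {a : ℤ} {D s : ℕ} {f : Kˣ → K} (hf : IsLaurent a D f) {c₀ : Kˣ} (h0 : f c₀ ≠ 0)
    (hs : ∀ d : ℕ, d ∣ Fintype.card K - 1 → d ≠ 1 → s ≤ d)
    (hD : s * D < (s - 1) * (Fintype.card K - 1))
    (H : Subgroup Kˣ) (hH : ∀ c, f c ≠ 0 → c ∈ H) : H = ⊤ := by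
  classical
  by_contra hne
  have hcard : Fintype.card Kˣ = Fintype.card K - 1 := Fintype.card_units K
  have hidx : s ≤ H.index := by
    refine hs _ ?_ (fun h => hne (Subgroup.index_eq_one.1 h))
    rw [← hcard, ← Nat.card_eq_fintype_card]
    exact H.index_dvd_card
  have hmul : Nat.card H * H.index = Fintype.card K - 1 := by
    rw [← hcard, ← Nat.card_eq_fintype_card]
    exact H.card_mul_index
  have h1 := hf.card_zeros h0
  have h2 : (Finset.univ.filter fun c : Kˣ => ¬ f c = 0).card ≤ Nat.card H := by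
    have hc2 : Nat.card H = (Finset.univ.filter fun c : Kˣ => c ∈ H).card := by
      rw [Nat.card_eq_fintype_card, Fintype.card_subtype]
    rw [hc2]
    refine Finset.card_le_card fun c hc => ?_
    exact Finset.mem_filter.2 ⟨Finset.mem_univ _, hH c (Finset.mem_filter.1 hc).2⟩
  have h3 : (Finset.univ.filter fun c : Kˣ => f c = 0).card + (Finset.univ.filter fun c : Kˣ => ¬ f c = 0).card
      = Fintype.card K - 1 := by
    rw [Finset.card_filter_add_card_filter_not, Finset.card_univ, hcard]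
  set n := Fintype.card K - 1 with hn
  have h4 : n ≤ D + Nat.card H := by omega
  have h5 : s * Nat.card H ≤ n := by
    rw [← hmul, mul_comm]
    exact Nat.mul_le_mul_left _ hidx
  have h6 : s * n ≤ s * D + n := by
    calc s * n ≤ s * (D + Nat.card H) := Nat.mul_le_mul_left _ h4
      _ = s * D + s * Nat.card H := by ring
      _ ≤ s * D + n := by omega
  have h7 : (s - 1) * n = s * n - n := by rw [Nat.sub_mul, one_mul]
  omega

/-- **The Laurent trick.** -/
theorem fix_of_laurent [Fintype K] {V : Type v} [AddCommGroup V] [Module K V] {a : ℤ} {D s : ℕ}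
    (hs : ∀ d : ℕ, d ∣ Fintype.card K - 1 → d ≠ 1 → s ≤ d) (hD : s * D < (s - 1) * (Fintype.card K - 1))
    (lam : Kˣ →* Module.End K V)
    (hL : ∀ (φ : Module.Dual K V) (x : V), IsLaurent a D (fun c => φ (lam c x)))
    {ι : Type w} (W : ι → Submodule K V) (hind : iSupIndep W) (hne : ∀ i, W i ≠ ⊥)
    (hperm : ∀ c i, ∃ j, (W i).map (lam c) = W j) (c : Kˣ) (i : ι) : (W i).map (lam c) = W i := by
  -- the stabiliser of `W i`
  let H : Subgroup Kˣ :=
    { carrier := {c | (W i).map (lam c) = W i}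
      one_mem' := by
        change (W i).map (lam 1) = W i
        rw [map_one]
        exact Submodule.map_id _
      mul_mem' := by
        intro x y hx hy
        change (W i).map (lam (x * y)) = W i
        rw [map_mul, Module.End.mul_eq_comp, Submodule.map_comp, hy, hx]
      inv_mem' := by
        intro x hx
        change (W i).map (lam x⁻¹) = W i
        conv_lhs => rw [← (show (W i).map (lam x) = W i from hx)]
        rw [← Submodule.map_comp, ← Module.End.mul_eq_comp, ← map_mul, inv_mul_cancel, map_one]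
        exact Submodule.map_id _ }
  obtain ⟨x, hx, hx0⟩ := (Submodule.ne_bot_iff _).1 (hne i)
  have hxn : x ∉ ⨆ j, ⨆ _ : j ≠ i, W j := fun h => hx0 ((Submodule.disjoint_def.1 (hind i)) x hx h)
  obtain ⟨φ, hφx, hφ⟩ := Submodule.exists_le_ker_of_notMem hxn
  have hH : H = ⊤ := by
    refine (hL φ x).eq_top (c₀ := 1) ?_ hs hD H fun c hc => ?_
    · simpa using hφx
    · obtain ⟨j, hj⟩ := hperm c i
      by_cases hji : j = i
      · subst hji
        exact hj
      · exfalso
        apply hc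
        have h1 : lam c x ∈ W j := hj ▸ Submodule.mem_map_of_mem hx
        have h2 : lam c x ∈ ⨆ j, ⨆ _ : j ≠ i, W j := (le_iSup₂_of_le (f := fun j (_ : j ≠ i) => W j) j hji le_rfl) h1
        exact LinearMap.mem_ker.1 (hφ h2)
  have : c ∈ H := hH ▸ Subgroup.mem_top c
  exact this

/-- `q ≥ 13`, windows `D ≤ 5`: the arithmetical hypotheses with `s = 2`. -/
theorem arith_two {n D : ℕ} (hD : 2 * D < n) :
    (∀ d : ℕ, d ∣ n → d ≠ 1 → 2 ≤ d) ∧ 2 * D < (2 - 1) * n := by
  refine ⟨fun d hd h1 => ?_, by omega⟩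
  have : d ≠ 0 := by
    rintro rfl
    have := Nat.eq_zero_of_zero_dvd hd
    omega
  omega

end Cfsg.Agent.H186.OT
end

-- part: H412/OT/NoLong
section
prune_inst 0x402210000000000000003c0684000590004b0800c84000440008ae2000002e00040010041228000800000000000800200000000000000000000104010000000290080000000000000080000000000000000000000000000000000004200000000
set_option linter.all false
open scoped Cfsg.Agent.FastGrp

-- part: H927/SzRoot
section
/-!
# Long roots, and the Moufang step for torus invariant subgroups (S2539, part 1)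
-/

set_option autoImplicit false

namespace Cfsg.Agent.H927.Sz

open Cfsg.Lie Cfsg.Agent.ChevalleyStructure Cfsg.Agent.ChevalleyStructure.RootCombGood
  Cfsg.Agent.ChevalleyStructure.RootWord Cfsg.Agent.ChevalleyStructure.RootVec
  Cfsg.Agent.ChevalleyStructure.RootVecTab Cfsg.Agent.ChevalleyStructure.RootSupport
  Cfsg.Agent.ChevalleyStructure.Elts Cfsg.Agent.ChevalleyStructure.BruhatSplit
  Cfsg.Agent.H86.Lev Cfsg.Agent.H86.Graded Cfsg.Agent.H86.Par Cfsg.Agent.H92.ChevCent

universe u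

variable {D : ChevalleyDatum} {K : Type u} [Field K]

/-- `r` is a long root: conjugate to the highest root -/
def IsLong (D : ChevalleyDatum) (r : ℕ) : Prop :=
  r < D.nroots ∧ ∃ w : List ℕ, (∀ a ∈ w, a < D.rank) ∧ wact D w r = top D

theorem isLong_top (hD : InList D) : IsLong D (top D) := ⟨top_lt hD, [], by simp, rfl⟩

theorem IsLong.map (hD : InList D) {r : ℕ} (h : IsLong D r) {v : List ℕ} (hv : ∀ a ∈ v, a < D.rank) :
    IsLong D (wact D v r) := by
  have G := good hD
  obtain ⟨hr, w, hw, e⟩ := h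
  have hvr : ∀ a ∈ v.reverse, a < D.rank := fun a ha => hv a (by simpa using ha)
  refine ⟨wact_lt G hv hr, w ++ v.reverse, ?_, ?_⟩
  · intro a ha
    rcases List.mem_append.1 ha with h | h
    · exact hw a h
    · exact hvr a h
  · rw [wact_append, wact_reverse G hv hr, e]

theorem IsLong.neg (hD : InList D) {r : ℕ} (h : IsLong D r) : IsLong D (D.neg r) := by
  obtain ⟨w, hw, h1, -⟩ := exists_refl_word hD h.1
  rw [← h1]
  exact h.map hD hw

theorem isLong_iff (hD : InList D) {isL : ℕ → Bool} (H : HiP D isL) {r : ℕ} (hr : r < D.nroots) :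
    IsLong D r ↔ isL r = true := by
  constructor
  · rintro ⟨-, w, hw, e⟩
    have hwr : ∀ a ∈ w.reverse, a < D.rank := fun a ha => hw a (by simpa using ha)
    have := wact_isL hD H w.reverse (top D) hwr (top_lt hD) H.isL_top
    rwa [← e, wact_reverse (good hD) hw hr] at this
  · intro h
    obtain ⟨w, hw, e⟩ := long_to_top hD H _ r rfl hr h
    exact ⟨hr, w, hw, e⟩

theorem IsLong.car_bound (hD : InList D) {r : ℕ} (h : IsLong D r) {s : ℕ} (hs : s < D.nroots) :
    -2 ≤ car D r s ∧ car D r s ≤ 2 := by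
  obtain ⟨hr, w, hw, e⟩ := h
  have h1 := car_wact (good hD) hw hr hs
  rw [e] at h1
  rw [← h1]
  exact ⟨(hiT hD).low _ (wact_lt (good hD) hw hs), (hiT hD).high _ (wact_lt (good hD) hw hs)⟩

theorem IsLong.eq_of_car (hD : InList D) {r : ℕ} (h : IsLong D r) {s : ℕ} (hs : s < D.nroots)
    (h2 : car D r s = 2) : s = r := by
  obtain ⟨hr, w, hw, e⟩ := h
  have h1 := car_wact (good hD) hw hr hs
  rw [e] at h1
  have h3 := (hiT hD).top _ (wact_lt (good hD) hw hs) (h1.trans h2)
  exact wact_inj (good hD) hw hs hr (h3.trans e.symm)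

/-- `N` moves a long root to the top -/
theorem IsLong.exists_n (hD : InList D) (K : Type u) [Field K] {r : ℕ} (h : IsLong D r) :
    ∃ n ∈ D.monomialSubgroup K, ∃ w : List ℕ, (∀ a ∈ w, a < D.rank) ∧ Acts n w ∧ wact D w r = top D ∧
      wact D w (D.neg r) = 0 := by
  obtain ⟨hr, w, hw, e⟩ := h
  obtain ⟨n, hn, hact⟩ := exists_NL_acts hD K w hw
  refine ⟨n, NL_le D hn, w, hw, hact, e, ?_⟩
  rw [wact_neg (good hD) hw hr, e, neg_top hD]

theorem Acts.cj_eq {n : GL D.Idx K} {w : List ℕ} (h : Acts n w) {r : ℕ} (hr : r < D.nroots) :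
    cj n (D.rootSubgroup K r) = D.rootSubgroup K (wact D w r) := h r hr

/-- action of `N` on the groups `Q` -/
theorem cj_Q (hD : InList D) {n : GL D.Idx K} {w : List ℕ} (hw : ∀ a ∈ w, a < D.rank) (hact : Acts n w) {β : ℕ}
    (hβ : β < D.nroots) : cj n (Q D K β) = Q D K (wact D w β) := by
  have G := good hD
  have key : ∀ (n : GL D.Idx K) (w : List ℕ), (∀ a ∈ w, a < D.rank) → Acts n w → ∀ β < D.nroots,
      cj n (Q D K β) ≤ Q D K (wact D w β) := by
    intro n w hw hact β hβ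
    rw [cj_le_iff, Q_le_iff hD]
    intro r hr h t
    rw [mem_cj, inv_inv]
    obtain ⟨t', e⟩ := acts_conj hD hact hr t
    rw [e]
    refine xG_mem_Q hD (wact_lt G hw hr) ?_ t'
    rw [car_wact G hw hβ hr]
    exact h
  refine le_antisymm (key n w hw hact β hβ) ?_
  have hwr : ∀ a ∈ w.reverse, a < D.rank := fun a ha => hw a (by simpa using ha)
  have := key n⁻¹ w.reverse hwr (Acts.inv G hact hw) (wact D w β) (wact_lt G hw hβ)
  rw [wact_reverse G hw hβ] at this
  have h2 := cj_mono (g := n) this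
  rwa [cj_cj_inv] at h2

theorem mono_cj_T (hD : InList D) {n : GL D.Idx K} (hn : n ∈ D.monomialSubgroup K) :
    cj n (D.diagonalSubgroup K) = D.diagonalSubgroup K := by
  have h := Cfsg.Agent.S1038.result (F := K) D hD
  have key : ∀ n ∈ D.monomialSubgroup K, cj n (D.diagonalSubgroup K) ≤ D.diagonalSubgroup K := by
    intro n hn x hx
    rw [mem_cj] at hx
    have hN := diagonal_le_monomial D K hx
    have h2 := h.conj_mem ⟨n⁻¹ * x * n, hN⟩ hx ⟨n, hn⟩
    have e : n * (n⁻¹ * x * n) * n⁻¹ = x := by group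
    have h3 : n * (n⁻¹ * x * n) * n⁻¹ ∈ D.diagonalSubgroup K := h2
    rwa [e] at h3
  refine le_antisymm (key n hn) ?_
  have := cj_mono (g := n) (key n⁻¹ (Subgroup.inv_mem _ hn))
  rwa [cj_cj_inv] at this

/-! ### root subgroups as long root subgroups -/

theorem IsLong.lr (hD : InList D) (K : Type u) [Field K] {r : ℕ} (h : IsLong D r) : LR D K (D.rootSubgroup K r) := by
  obtain ⟨n, hn, w, hw, hact, e, -⟩ := h.exists_n hD K
  refine ⟨n⁻¹, Subgroup.inv_mem _ (monomial_le_group hD K hn), ?_⟩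
  rw [← cj_eq_iff, Acts.cj_eq hact h.1, e]

theorem IsLong.opp (hD : InList D) (K : Type u) [Field K] {r : ℕ} (h : IsLong D r) :
    Opp (D.rootSubgroup K r) (D.rootSubgroup K (D.neg r)) := by
  obtain ⟨n, hn, w, hw, hact, e, e'⟩ := h.exists_n hD K
  refine ⟨n⁻¹, Subgroup.inv_mem _ (monomial_le_group hD K hn), ?_, ?_⟩
  · rw [← cj_eq_iff, Acts.cj_eq hact h.1, e]
  · rw [← cj_eq_iff, Acts.cj_eq hact (RootWord.neg_lt (good hD) h.1), e']

/-- torus invariant case, standard position -/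
theorem torus_aux (hD : InList D) [Finite K] {c : K} (hc0 : c ≠ 0) (hc1 : c ≠ 1) (hc2 : c ^ 2 ≠ 1)
    {F : Subgroup (GL D.Idx K)} (hT : D.diagonalSubgroup K ≤ F) (hA : XT D K ≤ F) {q : GL D.Idx K}
    (hq : q ∈ Q D K (top D)) (hB : cj q (XB D K) ≤ F) : q ∈ F := by
  have hh : hG hD (top D) c ∈ F := hT (hG_mem_diagonal hD (top_lt hD) hc0)
  have hn : cj (hG hD (top D) c) (XB D K) = XB D K := acts_of_mem_diagonal hD (good hD)
    (hG_mem_diagonal hD (top_lt hD) hc0) 0 (zero_lt hD)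
  have h1 : cj (hG hD (top D) c * q * (hG hD (top D) c)⁻¹) (XB D K) ≤ F := by
    have h2 := cj_le_of_mem hh hB
    rw [← cj_mul] at h2
    have e : hG hD (top D) c * q = hG hD (top D) c * q * (hG hD (top D) c)⁻¹ * hG hD (top D) c := by group
    rw [e, cj_mul, hn] at h2
    exact h2
  have hq2 := hG_conj_Q hD hc0 hq
  have hQX := Q_cj_XT (K := K) hD hq
  obtain ⟨v, hv, e, hv2⟩ := moufang hD hc0 hc1 hc2 hA hB h1 (opp_of_Q hD hq) (opp_of_Q hD hq2)
  have hvQ : v ∈ Q D K (top D) := by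
    have := hv2 q (Q_le_group hD hq) hQX.symm
    rwa [cj_of_mem hq] at this
  rw [← cj_mul] at e
  have e2 := Q_unique hD hq2 (Subgroup.mul_mem _ hvQ hq) e
  have h1 : q⁻¹ ∈ F ⊓ Q D K (top D) := by
    refine mem_of_comm (Q := Q D K (top D)) inf_le_right (h := hG hD (top D) c)
      (fun v hv h => Q_fix hD hc0 hc1 hc2 hv h) (fun v hv => ?_) (Subgroup.inv_mem _ hq) ?_
    · exact ⟨F.mul_mem (F.mul_mem hh hv.1) (F.inv_mem hh), hG_conj_Q hD hc0 hv.2⟩
    · have e3 : (q⁻¹)⁻¹ * (hG hD (top D) c * q⁻¹ * (hG hD (top D) c)⁻¹) =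
          q * (hG hD (top D) c * q * (hG hD (top D) c)⁻¹)⁻¹ := by group
      have e4 : q * (v * q)⁻¹ = v⁻¹ := by group
      rw [e3, e2, e4]
      exact ⟨F.inv_mem hv, Subgroup.inv_mem _ hvQ⟩
  have := F.inv_mem h1.1
  rwa [inv_inv] at this

/-- **torus invariant case**: `T, X_r, B ≤ F`, `B` opposite to `X_r` -/
theorem torus_moufang (hD : InList D) [Finite K] {c : K} (hc0 : c ≠ 0) (hc1 : c ≠ 1) (hc2 : c ^ 2 ≠ 1)
    {F B : Subgroup (GL D.Idx K)} (hT : D.diagonalSubgroup K ≤ F) {r : ℕ} (hr : IsLong D r)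
    (hA : D.rootSubgroup K r ≤ F) (hB : B ≤ F) (hopp : Opp (D.rootSubgroup K r) B) :
    D.rootSubgroup K (D.neg r) ≤ F ∧ ∃ v ∈ F, v ∈ Q D K r ∧ B = cj v (D.rootSubgroup K (D.neg r)) := by
  obtain ⟨n, hn, w, hw, hact, e, e'⟩ := hr.exists_n hD K
  have hng := monomial_le_group hD K hn
  have h1 := hopp.cj hng
  have h2 : cj n (D.rootSubgroup K r) = XT D K := by rw [Acts.cj_eq hact hr.1, e]
  have h2' : cj n (D.rootSubgroup K (D.neg r)) = XB D K := by
    rw [Acts.cj_eq hact (RootWord.neg_lt (good hD) hr.1), e']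
  rw [h2] at h1
  obtain ⟨q, hq, e3⟩ := exists_Q_of_opp hD h1
  have h4 : q ∈ cj n F := by
    refine torus_aux hD hc0 hc1 hc2 ?_ ?_ hq ?_
    · rw [← mono_cj_T hD hn]; exact cj_mono hT
    · rw [← h2]; exact cj_mono hA
    · rw [← e3]; exact cj_mono hB
  rw [mem_cj] at h4
  have h5 : cj (n⁻¹ * q * n) (D.rootSubgroup K (D.neg r)) = B := by
    rw [mul_assoc, cj_mul, cj_mul, h2', ← e3, cj_inv_cj]
  refine ⟨?_, n⁻¹ * q * n, h4, ?_, h5.symm⟩
  · have := cj_le_of_mem (F.inv_mem h4) hB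
    rwa [← h5, cj_inv_cj] at this
  · have := cj_Q (K := K) hD hw hact hr.1
    rw [e] at this
    have h6 : q ∈ cj n (Q D K r) := by rw [this]; exact hq
    rwa [mem_cj] at h6

end Cfsg.Agent.H927.Sz
end

-- part: H927/SzPGrp
section
/-!
# Non-opposite long root subgroups generate a `p`-group (S2539, part 1)
-/

set_option autoImplicit false

namespace Cfsg.Agent.H927.Sz

open Cfsg.Lie Cfsg.Agent.ChevalleyStructure Cfsg.Agent.ChevalleyStructure.RootCombGood
  Cfsg.Agent.ChevalleyStructure.RootWord Cfsg.Agent.ChevalleyStructure.RootVec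
  Cfsg.Agent.ChevalleyStructure.RootVecTab Cfsg.Agent.ChevalleyStructure.RootSupport
  Cfsg.Agent.ChevalleyStructure.Elts Cfsg.Agent.ChevalleyStructure.BruhatSplit
  Cfsg.Agent.H86.Lev Cfsg.Agent.H86.Graded Cfsg.Agent.H86.Par Cfsg.Agent.H92.ChevCent

universe u

variable {D : ChevalleyDatum} {K : Type u} [Field K]

theorem xG_pow (hD : InList D) (r : ℕ) (t : K) (n : ℕ) : xG hD r t ^ n = xG hD r (n * t) := by
  induction n with
  | zero => rw [pow_zero, Nat.cast_zero, zero_mul, xG_zero]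
  | succ n ih => rw [pow_succ, ih, xG_add, Nat.cast_succ, add_mul, one_mul]

theorem root_isPGroup (hD : InList D) (p : ℕ) [CharP K p] (r : ℕ) : IsPGroup p (D.rootSubgroup K r) := by
  rintro ⟨x, hx⟩
  obtain ⟨t, rfl⟩ := (mem_rootSubgroup_iff hD _ _).1 hx
  refine ⟨1, Subtype.ext ?_⟩
  show xG hD r t ^ p ^ 1 = 1
  rw [pow_one, xG_pow, CharP.cast_eq_zero, zero_mul, xG_zero]

theorem IsPGroup_cj {G : Type*} [Group G] {p : ℕ} {A : Subgroup G} (h : IsPGroup p A) (g : G) :
    IsPGroup p (cj g A) := h.map _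

theorem root_le_normalizer (hD : InList D) {r : ℕ} {Y : Subgroup (GL D.Idx K)}
    (h : ∀ t : K, ∀ x ∈ Y, xG hD r t * x * (xG hD r t)⁻¹ ∈ Y) :
    D.rootSubgroup K r ≤ Subgroup.normalizer (Y : Set (GL D.Idx K)) := by
  intro g hg
  obtain ⟨t, rfl⟩ := (mem_rootSubgroup_iff hD _ _).1 hg
  refine mem_normalizer_of (h t) (fun x hx => ?_)
  have := h (-t) x hx
  rwa [← xG_inv, inv_inv] at this

/-- `X_a` and `X_β`, `β ≠ -a` long, generate a `p`-group -/
theorem top_root_isPGroup (hD : InList D) (p : ℕ) [CharP K p] {β : ℕ} (hl : IsLong D β) (h0 : β ≠ 0) :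
    IsPGroup p (XT D K ⊔ D.rootSubgroup K β : Subgroup (GL D.Idx K)) := by
  have G := good hD
  have hc := checked_of_mem hD
  obtain ⟨isL, H⟩ := exists_hip hD
  have hβ := hl.1
  have h1 := (hiT hD).low β hβ
  rcases (show 0 ≤ car D (top D) β ∨ car D (top D) β = -1 ∨ car D (top D) β = -2 by omega) with h | h | h
  · refine IsPGroup.to_sup_of_normal_right' (root_isPGroup hD p _) (root_isPGroup hD p _) ?_
    refine root_le_normalizer hD fun t x hx => ?_
    obtain ⟨u, rfl⟩ := (mem_rootSubgroup_iff hD _ _).1 hx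
    rw [← comm_top0 hD hβ h u t, mul_inv_cancel_right]
    exact hx
  · obtain ⟨γ, c, hcom, hc1, hγL, hcom'⟩ := chkLong_spec (H.long β hβ ((isLong_iff hD H hβ).1 hl) h)
    obtain ⟨hγ, -, -, hlev⟩ := commTerms_lin hc (lin_car hc (top D)) (r := top D) (s := β) (c := (γ, c, 1, 1))
      (by rw [hcom]; exact List.mem_singleton_self _)
    simp only [Nat.cast_one, one_mul, car_top hD, h] at hlev
    have hlev' : car D (top D) γ = 1 := by
      show car D (top D) (γ, c, 1, 1).1 = 1
      rw [hlev]; norm_num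
    clear hlev
    replace hγ : γ < D.nroots := hγ
    have hβγ : ∀ u v : K, xG hD γ v * xG hD β u = xG hD β u * xG hD γ v := by
      intro u v
      have hne1 : γ ≠ β := by rintro rfl; omega
      have hne2 : γ ≠ D.neg β := by
        rintro rfl
        have h2 := commTerms_rt hc (r := top D) (s := β) (u := D.neg β) (C := c) (i := 1) (j := 1)
          (by rw [hcom]; exact List.mem_singleton_self _)
        obtain ⟨h3, h4, h5, -, -, h6⟩ := h2
        have h7 := lin_car hc β (top D) β (D.neg β) (-2) 0 (top_lt hD) hβ h3 (fun i _ => by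
          have h8 := h6 i
          rw [rt_neg hc hβ] at h8
          push_cast at h8
          linarith only [h8])
        have h9 := G.car_self hβ
        have h10 : car D β (top D) = -4 := by rw [h7, h9]; norm_num
        have h11 := (hl.car_bound hD (top_lt hD)).1
        omega
      rw [UnipProd.xG_comm hD hβ hγ hne1 hne2]
      have : D.commWord K β γ u v = [] := by
        unfold ChevalleyDatum.commWord
        rw [hcom']; rfl
      rw [this, wordG_nil, mul_one]
    have hY : IsPGroup p (D.rootSubgroup K β ⊔ D.rootSubgroup K γ : Subgroup (GL D.Idx K)) := by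
      refine IsPGroup.to_sup_of_normal_right' (root_isPGroup hD p _) (root_isPGroup hD p _) ?_
      refine root_le_normalizer hD fun t x hx => ?_
      obtain ⟨u, rfl⟩ := (mem_rootSubgroup_iff hD _ _).1 hx
      rw [← hβγ, mul_inv_cancel_right]
      exact hx
    have hZ : IsPGroup p (XT D K ⊔ (D.rootSubgroup K β ⊔ D.rootSubgroup K γ) : Subgroup (GL D.Idx K)) := by
      refine IsPGroup.to_sup_of_normal_right' (root_isPGroup hD p _) hY ?_
      refine root_le_normalizer hD fun t x hx => ?_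
      have hle : D.rootSubgroup K β ⊔ D.rootSubgroup K γ ≤
          (D.rootSubgroup K β ⊔ D.rootSubgroup K γ).comap (MulAut.conj (xG hD (top D) t)).toMonoidHom := by
        refine sup_le ?_ ?_
        · intro y hy
          obtain ⟨u, rfl⟩ := (mem_rootSubgroup_iff hD _ _).1 hy
          show xG hD (top D) t * xG hD β u * (xG hD (top D) t)⁻¹ ∈ D.rootSubgroup K β ⊔ D.rootSubgroup K γ
          have h3 := long_comm hD hβ h hcom (-t) u
          have h4 : xG hD (top D) t * xG hD β u * (xG hD (top D) t)⁻¹ =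
              xG hD β u * xG hD γ ((c : K) * (- -t) * u) := by
            rw [xG_inv, mul_assoc, h3, ← mul_assoc, ← mul_assoc, xG_add, add_neg_cancel, xG_zero, one_mul]
          rw [h4]
          exact Subgroup.mul_mem _ ((le_sup_left : D.rootSubgroup K β ≤ _) (xG_mem_rootSubgroup hD _ _))
            ((le_sup_right : D.rootSubgroup K γ ≤ _) (xG_mem_rootSubgroup hD _ _))
        · intro y hy
          obtain ⟨u, rfl⟩ := (mem_rootSubgroup_iff hD _ _).1 hy
          show xG hD (top D) t * xG hD γ u * (xG hD (top D) t)⁻¹ ∈ D.rootSubgroup K β ⊔ D.rootSubgroup K γ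
          rw [← comm_top0 hD hγ (by omega) u t, mul_inv_cancel_right]
          exact (le_sup_right : D.rootSubgroup K γ ≤ _) hy
      exact hle hx
    exact hZ.to_le (sup_le_sup_left le_sup_left _)
  · exfalso
    apply h0
    refine (hi0 hD).top β hβ ?_
    rw [car0 hD, h]; norm_num

/-- Bruhat decomposition for pairs: `(X_a, g X_a g⁻¹) = (X_a, b X_β b⁻¹)` -/
theorem exists_rel (hD : InList D) {g : GL D.Idx K} (hg : g ∈ D.group K) :
    ∃ b ∈ P K D, ∃ β, IsLong D β ∧ cj g (XT D K) = cj b (D.rootSubgroup K β) := by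
  obtain ⟨b, hb, n, hn, b', hb', rfl⟩ := Cfsg.Agent.S1100.exists_bruhat hD hg
  have hbP := borel_le_P (F := K) hD hb
  have hbP' := borel_le_P (F := K) hD hb'
  obtain ⟨w, hw, hact⟩ := exists_acts hD hn
  refine ⟨b, hbP, wact D w (top D), (isLong_top hD).map hD hw, ?_⟩
  rw [cj_mul, P_cj_XT hbP', cj_mul, Acts.cj_eq hact (top_lt hD)]

/-- **non-opposite long root subgroups generate a `p`-group** -/
theorem isPGroup_of_not_opp (hD : InList D) (p : ℕ) [CharP K p] {A B : Subgroup (GL D.Idx K)}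
    (hA : LR D K A) (hB : LR D K B) (h : ¬ Opp A B) : IsPGroup p (A ⊔ B : Subgroup (GL D.Idx K)) := by
  obtain ⟨g, hg, rfl⟩ := hA
  obtain ⟨g', hg', rfl⟩ := hB
  obtain ⟨b, hb, β, hβ, e⟩ := exists_rel hD (Subgroup.mul_mem _ (Subgroup.inv_mem _ hg) hg')
  have h0 : β ≠ 0 := by
    rintro rfl
    apply h
    obtain ⟨q, hq, l, hl, rfl⟩ := P_decomp hD hb
    have h1 := (opp_of_Q hD hq).cj hg
    have hl2 : cj l (XB D K) = XB D K := cj_eq_self_iff.2 hl.2
    rw [cj_mul q, show cj l (D.rootSubgroup K 0) = XB D K from hl2] at e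
    rw [← e, ← cj_mul, mul_inv_cancel_left] at h1
    exact h1
  have h1 : cj g (XT D K) ⊔ cj g' (XT D K) = cj (g * b) (XT D K ⊔ D.rootSubgroup K β) := by
    rw [cj_sup, cj_mul g b (XT D K), P_cj_XT hb, cj_mul g b, ← e, ← cj_mul g, mul_inv_cancel_left]
  rw [h1]
  exact IsPGroup_cj (top_root_isPGroup hD p hβ h0) _

end Cfsg.Agent.H927.Sz
end

-- part: H412/OT/Opp
section
/-!
# S2539, part 1: a long root subgroup of `F` is opposite to one of its `F`-conjugates (helper412)
-/

set_option autoImplicit false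

namespace Cfsg.Agent.H412.OT

open Cfsg.Lie Cfsg.Agent.ChevalleyStructure Cfsg.Agent.ChevalleyStructure.Elts Cfsg.Agent.H927.Sz
  Cfsg.Agent.H86.Lev Cfsg.Agent.H86.Graded Cfsg.Agent.H86.Par

universe u

/-- Baer–Suzuki inside a subgroup `F` with `O_p(F) = 1` -/
theorem exists_not_isPGroup {G : Type*} [Group G] [Finite G] {p : ℕ} [Fact p.Prime] {F A : Subgroup G}
    (hAF : A ≤ F) (hne : A ≠ ⊥)
    (hop : ∀ Q : Subgroup G, Q ≤ F → IsPGroup p Q → F ≤ Subgroup.normalizer (Q : Set G) → Q = ⊥) :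
    ∃ f ∈ F, ¬ IsPGroup p (A ⊔ A.map (MulAut.conj f).toMonoidHom : Subgroup G) := by
  by_contra hcon
  push Not at hcon
  have hX : ∀ g : F, IsPGroup p (A.subgroupOf F ⊔ (A.subgroupOf F).map (MulAut.conj g).toMonoidHom :
      Subgroup F) := by
    intro g
    have h1 := hcon g g.2
    have h2 : (A.subgroupOf F ⊔ (A.subgroupOf F).map (MulAut.conj g).toMonoidHom : Subgroup F) ≤
        (A ⊔ A.map (MulAut.conj (g : G)).toMonoidHom).subgroupOf F := by
      refine sup_le ?_ ?_
      · intro x hx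
        exact Subgroup.mem_subgroupOf.2 (Subgroup.mem_sup_left (Subgroup.mem_subgroupOf.1 hx))
      · rintro _ ⟨x, hx, rfl⟩
        refine Subgroup.mem_subgroupOf.2 (Subgroup.mem_sup_right ?_)
        exact ⟨x, Subgroup.mem_subgroupOf.1 hx, rfl⟩
    exact (h1.comap_of_injective F.subtype F.subtype_injective).to_le h2
  have h3 := Cfsg.Agent.Involutions.BaerSuzuki.baer_suzuki_subgroup (A.subgroupOf F) hX
  have h4 : (Subgroup.normalClosure ((A.subgroupOf F : Subgroup F) : Set F)).map F.subtype = ⊥ := by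
    refine hop _ ?_ (h3.map _) ?_
    · rintro _ ⟨x, -, rfl⟩
      exact x.2
    · intro x hx
      rw [Subgroup.mem_normalizer_iff]
      have key : ∀ y ∈ F, ∀ z : G,
          z ∈ (Subgroup.normalClosure ((A.subgroupOf F : Subgroup F) : Set F)).map F.subtype →
          y * z * y⁻¹ ∈ (Subgroup.normalClosure ((A.subgroupOf F : Subgroup F) : Set F)).map F.subtype := by
        rintro y hy _ ⟨z, hz, rfl⟩
        exact ⟨⟨y, hy⟩ * z * ⟨y, hy⟩⁻¹, Subgroup.normalClosure_normal.conj_mem z hz ⟨y, hy⟩, rfl⟩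
      intro z
      constructor
      · exact key x hx z
      · intro hz
        have := key x⁻¹ (inv_mem hx) _ hz
        simpa only [mul_assoc, _root_.Subgroup.mem_map, _root_.Subgroup.subtype_apply, _root_.Subtype.exists, _root_.exists_and_right, _root_.exists_eq_right, _root_.inv_mul_cancel_left, _root_.inv_inv, _root_.inv_mul_cancel, _root_.mul_one] using this
  refine hne ?_
  rw [eq_bot_iff, ← h4]
  intro x hx
  exact ⟨⟨x, hAF hx⟩, Subgroup.subset_normalClosure (Subgroup.mem_subgroupOf.2 hx), rfl⟩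

variable {D : ChevalleyDatum} {K : Type u} [Field K]

theorem LR_ne_bot (hD : InList D) {A : Subgroup (GL D.Idx K)} (hA : LR D K A) : A ≠ ⊥ := by
  obtain ⟨g, hg, rfl⟩ := hA
  intro e
  have h2 := congrArg (Cfsg.Agent.H927.Sz.cj g⁻¹) e
  rw [cj_inv_cj] at h2
  have h3 : Cfsg.Agent.H927.Sz.cj g⁻¹ (⊥ : Subgroup (GL D.Idx K)) = ⊥ := Subgroup.map_bot _
  exact Cfsg.Agent.H274.OT.root_ne_bot (K := K) hD (top_lt hD) (h2.trans h3)

/-- **a long root subgroup `A ≤ F` is opposite to an `F`-conjugate** (Baer–Suzuki, `O_p(F) = 1`) -/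
theorem MinBad.exists_opp [Fintype K] {F : Subgroup (GL D.Idx K)} {p : ℕ} [Fact p.Prime] [CharP K p]
    (hF : MinBad D K F) (h : Hyp K p D)
    {A : Subgroup (GL D.Idx K)} (hA : LR D K A) (hAF : A ≤ F) :
    ∃ f ∈ F, Opp A (Cfsg.Agent.H927.Sz.cj f A) := by
  have hfin : Finite (GL D.Idx K) := inferInstance
  obtain ⟨f, hf, h1⟩ := exists_not_isPGroup (p := p) hAF (LR_ne_bot h.inList hA)
    (fun Q h1 h2 h3 => hF.op h h1 h2 h3)
  refine ⟨f, hf, ?_⟩
  by_contra h2
  exact h1 (isPGroup_of_not_opp h.inList p hA (hA.cj (hF.le hf)) h2)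

end Cfsg.Agent.H412.OT
end

-- part: H927/SzLaur
section
/-!
# The Laurent trick for opposite long root subgroups (S2539, part 1)

`torus_stab` : `Opp A B`, `f ∈ G`, `s` long: a subgroup `S ≤ Kˣ` containing all `c` with `f h_s(c) f⁻¹ A (..)⁻¹`
opposite to `B` is everything.
-/

set_option autoImplicit false

namespace Cfsg.Agent.H927.Sz

open Cfsg.Lie Cfsg.Agent.ChevalleyStructure Cfsg.Agent.ChevalleyStructure.RootCombGood
  Cfsg.Agent.ChevalleyStructure.RootWord Cfsg.Agent.ChevalleyStructure.RootVec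
  Cfsg.Agent.ChevalleyStructure.RootVecTab Cfsg.Agent.ChevalleyStructure.RootSupport
  Cfsg.Agent.ChevalleyStructure.Elts Cfsg.Agent.ChevalleyStructure.BruhatSplit
  Cfsg.Agent.H86.Lev Cfsg.Agent.H86.Graded Cfsg.Agent.H86.Par Cfsg.Agent.H92.ChevCent
  Cfsg.Agent.H186.OT

universe u

variable {D : ChevalleyDatum} {K : Type u} [Field K]

theorem pr_eq_car (D : ChevalleyDatum) (r s : ℕ) : Cfsg.Agent.H412.OT.pr D r s = car D r s := rfl

/-- exponent of `h_s(c)` at a basis vector -/
def ex (D : ChevalleyDatum) (s : ℕ) (j : D.Idx) : ℤ := Sum.elim (fun _ => 0) (fun u : Fin D.nroots => car D s u.val) j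

theorem hG_entry (hD : InList D) {s : ℕ} (hs : s < D.nroots) (c : Kˣ) :
    (hG hD s (c : K) : Matrix D.Idx D.Idx K) = Matrix.diagonal (fun j => ((c ^ ex D s j : Kˣ) : K)) := by
  rw [Cfsg.Agent.H412.OT.coe_hG_diag hD hs (Units.ne_zero c)]
  congr 1
  funext j
  rcases j with i | u
  · simp [ex]
  · simp [ex, pr_eq_car]

theorem laurent_entry (hD : InList D) {s : ℕ} (hs : s < D.nroots) {a : ℤ} {E : ℕ}
    (h1 : ∀ j, a ≤ ex D s j) (h2 : ∀ j, ex D s j ≤ a + E) (x y : GL D.Idx K) (i k : D.Idx) :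
    IsLaurent a E (fun c : Kˣ => ((x * hG hD s (c : K) * y : GL D.Idx K) : Matrix D.Idx D.Idx K) i k) := by
  have e : (fun c : Kˣ => ((x * hG hD s (c : K) * y : GL D.Idx K) : Matrix D.Idx D.Idx K) i k) =
      fun c : Kˣ => ∑ j, (x : Matrix D.Idx D.Idx K) i j * (((c ^ ex D s j : Kˣ) : K) *
        (y : Matrix D.Idx D.Idx K) j k) := by
    funext c
    rw [Units.val_mul, Units.val_mul, hG_entry hD hs c, Matrix.mul_apply]
    refine Finset.sum_congr rfl fun j _ => ?_
    rw [Matrix.mul_diagonal, mul_assoc]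
  rw [e]
  exact IsLaurent.sum _ fun j _ => ((IsLaurent.zpow (h1 j) (h2 j)).mul_const _).const_mul _

theorem IsLong.ex_bound (hD : InList D) {s : ℕ} (h : IsLong D s) (j : D.Idx) : -2 ≤ ex D s j ∧ ex D s j ≤ 2 := by
  rcases j with i | u
  · exact ⟨by simp [ex], by simp [ex]⟩
  · exact h.car_bound hD u.2

/-- **Laurent trick**: conjugates of the tori `h_s(K^*)` stabilise the components -/
theorem torus_stab (hD : InList D) [Finite K] (hK : 10 ≤ Nat.card K) {A B : Subgroup (GL D.Idx K)} (h : Opp A B)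
    {s : ℕ} (hs : IsLong D s) {f : GL D.Idx K} (hf : f ∈ D.group K) (S : Subgroup Kˣ)
    (hS : ∀ c : Kˣ, Opp (cj (f * hG hD s (c : K) * f⁻¹) A) B → c ∈ S) : S = ⊤ := by
  have := Fintype.ofFinite K
  obtain ⟨g, hg, hA, -⟩ := id h
  obtain ⟨g', hg', hB, -⟩ := h.symm hD
  have h1 := laurent_entry hD hs.1 (a := -2) (E := 4) (fun j => (hs.ex_bound hD j).1)
    (fun j => (hs.ex_bound hD j).2.trans (by norm_num)) (g'⁻¹ * f) (f⁻¹ * g) (iB hD) (iT hD)
  have e : ∀ c : Kˣ, g'⁻¹ * f * hG hD s (c : K) * (f⁻¹ * g) = g'⁻¹ * (f * hG hD s (c : K) * f⁻¹ * g) := by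
    intro c; group
  have hmem : ∀ c : Kˣ, f * hG hD s (c : K) * f⁻¹ ∈ D.group K := fun c =>
    Subgroup.mul_mem _ (Subgroup.mul_mem _ hf (hG_mem_group hD _ _)) (Subgroup.inv_mem _ hf)
  have key : ∀ c : Kˣ, ((g'⁻¹ * f * hG hD s (c : K) * (f⁻¹ * g) : GL D.Idx K) : Matrix D.Idx D.Idx K) (iB hD) (iT hD) ≠ 0 ↔
      Opp (cj (f * hG hD s (c : K) * f⁻¹) A) B := by
    intro c
    rw [e, hA, hB, ← cj_mul]
    have h2 := opp_iff_del hD (Subgroup.mul_mem _ (hmem c) hg) hg'
    constructor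
    · intro h3
      exact (h2.2 h3).symm hD
    · intro h3
      exact h2.1 (h3.symm hD)
  refine h1.eq_top (s := 2) (c₀ := 1) ?_ ?_ ?_ S fun c hc => hS c ((key c).1 hc)
  · rw [key]
    have e1 : hG hD s ((1 : Kˣ) : K) = 1 := by
      apply Units.ext
      rw [hG_entry hD hs.1]
      simp
    rw [e1, mul_one, mul_inv_cancel, cj_one]
    exact h
  · intro d hd hd1
    have hc : 0 < Fintype.card K - 1 := by
      rw [Nat.card_eq_fintype_card] at hK
      omega
    have := Nat.pos_of_dvd_of_pos hd hc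
    omega
  · rw [Nat.card_eq_fintype_card] at hK
    omega

/-! ### commutators with the torus -/

/-- the elements of `A` are commutators -/
theorem exists_comm (hD : InList D) {c : K} (hc0 : c ≠ 0) (hc2 : c ^ 2 ≠ 1) {g a : GL D.Idx K}
    (ha : a ∈ cj g (XT D K)) : ∃ a' ∈ cj g (XT D K),
      a = a' * (g * hG hD (top D) c * g⁻¹ * a' * (g * hG hD (top D) c * g⁻¹)⁻¹)⁻¹ := by
  obtain ⟨x, hx, rfl⟩ := ha
  obtain ⟨t, rfl⟩ := (mem_rootSubgroup_iff hD _ _).1 hx
  refine ⟨g * xG hD (top D) (t / (1 - c ^ 2)) * g⁻¹, conj_mem_cj (xG_mem_rootSubgroup hD _ _), ?_⟩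
  show g * xG hD (top D) t * g⁻¹ = _
  have h1 := Sz.hG_conj_xG hD (top_lt hD) hc0 (top_lt hD) (t / (1 - c ^ 2))
  rw [car_top hD] at h1
  have hne : (1 : K) - c ^ 2 ≠ 0 := sub_ne_zero.2 (Ne.symm hc2)
  have h2 : xG hD (top D) t = xG hD (top D) (t / (1 - c ^ 2)) *
      (hG hD (top D) c * xG hD (top D) (t / (1 - c ^ 2)) * (hG hD (top D) c)⁻¹)⁻¹ := by
    rw [h1, xG_inv, xG_add]
    congr 1
    rw [show (c : K) ^ (2 : ℤ) = c ^ 2 from by norm_cast]
    field_simp
    ring
  rw [h2]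
  group

/-- a subgroup normalised by `A` and containing the torus `h_{A,B}` contains `A` -/
theorem le_of_torus (hD : InList D) {c : K} (hc0 : c ≠ 0) (hc2 : c ^ 2 ≠ 1) {g : GL D.Idx K}
    {N : Subgroup (GL D.Idx K)} (hN : cj g (XT D K) ≤ Subgroup.normalizer (N : Set (GL D.Idx K)))
    (hc : g * hG hD (top D) c * g⁻¹ ∈ N) : cj g (XT D K) ≤ N := by
  intro a ha
  obtain ⟨a', ha', e⟩ := exists_comm hD hc0 hc2 ha
  set h := g * hG hD (top D) c * g⁻¹ with hh
  have e2 : a' * (h * a' * h⁻¹)⁻¹ = (a' * h * a'⁻¹) * h⁻¹ := by group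
  rw [e, e2]
  exact N.mul_mem ((Subgroup.mem_normalizer_iff.1 (hN ha') h).1 hc) (N.inv_mem hc)

/-- the torus of an opposite pair -/
theorem hG_mem_sup (hD : InList D) (c : K) (g : GL D.Idx K) :
    g * hG hD (top D) c * g⁻¹ ∈ cj g (XT D K) ⊔ cj g (XB D K) := by
  rw [← cj_sup]
  exact conj_mem_cj (hG_top_mem hD c)

end Cfsg.Agent.H927.Sz
end

-- part: H927/SzLong
section
/-!
# The two definitions of long roots agree (S2539)

`isLong_iff'` : `H412.OT.IsLong D r ↔ Sz.IsLong D r` for the six types of S2539.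
-/

set_option autoImplicit false

namespace Cfsg.Agent.H927.Sz

open Cfsg.Lie Cfsg.Agent.ChevalleyStructure Cfsg.Agent.ChevalleyStructure.RootCombGood
  Cfsg.Agent.ChevalleyStructure.RootWord Cfsg.Agent.ChevalleyStructure.Elts
  Cfsg.Agent.H86.Lev Cfsg.Agent.H86.Graded Cfsg.Agent.H86.Par

theorem short_G2 : ∀ r < chevG2.nroots, longG2 r = false →
    ∃ s < chevG2.nroots, s ≠ r ∧ s ≠ chevG2.neg r ∧ 2 ≤ car chevG2 r s := by decide +kernel

theorem short_F4 : ∀ r < chevF4.nroots, longF4 r = false →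
    ∃ s < chevF4.nroots, s ≠ r ∧ s ≠ chevF4.neg r ∧ 2 ≤ car chevF4 r s := by decide +kernel

/-- table facts -/
theorem exists_hip' {D : ChevalleyDatum} (h : D ∈ [chevG2, chevD4, chevF4, chevE6, chevE7, chevE8]) :
    ∃ isL : ℕ → Bool, HiP D isL ∧ ∀ r < D.nroots, isL r = false →
      ∃ s < D.nroots, s ≠ r ∧ s ≠ D.neg r ∧ 2 ≤ car D r s := by
  simp only [List.mem_cons, List.not_mem_nil, or_false] at h
  rcases h with rfl | rfl | rfl | rfl | rfl | rfl
  · exact ⟨_, hpG2, short_G2⟩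
  · exact ⟨_, hpD4, fun r _ h => absurd h (by simp)⟩
  · exact ⟨_, hpF4, short_F4⟩
  · exact ⟨_, hpE6, fun r _ h => absurd h (by simp)⟩
  · exact ⟨_, hpE7, fun r _ h => absurd h (by simp)⟩
  · exact ⟨_, hpE8, fun r _ h => absurd h (by simp)⟩

theorem isLong_iff' {D : ChevalleyDatum} (h : D ∈ [chevG2, chevD4, chevF4, chevE6, chevE7, chevE8]) {r : ℕ} :
    Cfsg.Agent.H412.OT.IsLong D r ↔ IsLong D r := by
  have hD : InList D := Cfsg.Agent.H412.OT.inList_of_mem h
  obtain ⟨isL, H, hsh⟩ := exists_hip' h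
  constructor
  · rintro ⟨hr, hall⟩
    rw [isLong_iff hD H hr]
    by_contra hne
    obtain ⟨s, hs, h1, h2, h3⟩ := hsh r hr (by simpa using hne)
    have h4 := hall s hs h1 h2
    rw [pr_eq_car] at h4
    have h5 := le_abs_self (car D r s)
    omega
  · intro hl
    refine ⟨hl.1, fun s hs h1 h2 => ?_⟩
    rw [pr_eq_car, abs_le]
    obtain ⟨h3, h4⟩ := hl.car_bound hD hs
    have h5 : car D r s ≠ 2 := fun e => h1 (hl.eq_of_car hD hs e)
    have h6 : car D r s ≠ -2 := by
      intro e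
      have h7 : car D r (D.neg s) = 2 := by
        rw [car_neg_right (good hD) r hs, e]; norm_num
      have h8 := hl.eq_of_car hD (RootWord.neg_lt (good hD) hs) h7
      exact h2 (by rw [← h8, RootWord.neg_neg (good hD) hs])
    omega

end Cfsg.Agent.H927.Sz
end

-- part: H249/OT/Graph
section
/-!
# The graph of long root subgroups in an overgroup of the torus (S2539, part 1) (helper249)

`F` a subgroup of `D.group K` containing `T = D.diagonalSubgroup K`, `r` a long root with `X_r ≤ F`.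

* `Adj F A B` : `A, B ≤ F` are opposite; `Con F` : its reflexive transitive closure; `St` : the stabiliser of a
  component;
* `NN` : the kernel of `F` on the components with at least two vertices; `lr_le_NN` : the long root subgroups `A ≤ F`
  with an opposite in `F` lie in `NN`;
* `con_conj` : the component of `X_r` consists of conjugates of `X_r` under `D_F`;
* `EE` : the normal closure of `X_r` in `F`; `EE_le_MF` : it is contained in `M_F`.
-/

set_option autoImplicit false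

namespace Cfsg.Agent.H249.OT

open Cfsg.Lie Cfsg.Agent.ChevalleyStructure Cfsg.Agent.ChevalleyStructure.RootCombGood
  Cfsg.Agent.ChevalleyStructure.RootWord Cfsg.Agent.ChevalleyStructure.Elts
  Cfsg.Agent.ChevalleyStructure.BruhatSplit
  Cfsg.Agent.H86.Lev Cfsg.Agent.H86.Graded Cfsg.Agent.H86.Par
  Cfsg.Agent.H927.Sz
open Cfsg.Agent.H412.OT (SF DF MF MinBad Hyp)

universe u

variable {D : ChevalleyDatum} {K : Type u} [Field K] {F : Subgroup (GL D.Idx K)}

/-- adjacent vertices in `F` : opposite long root subgroups -/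
def Adj (F A B : Subgroup (GL D.Idx K)) : Prop := A ≤ F ∧ B ≤ F ∧ Opp A B

theorem Adj.symm (hD : InList D) {A B : Subgroup (GL D.Idx K)} (h : Adj F A B) : Adj F B A :=
  ⟨h.2.1, h.1, h.2.2.symm hD⟩

theorem Adj.conj (hFG : F ≤ D.group K) {A B : Subgroup (GL D.Idx K)} (h : Adj F A B) {g : GL D.Idx K} (hg : g ∈ F) :
    Adj F (cj g A) (cj g B) := ⟨cj_le_of_mem hg h.1, cj_le_of_mem hg h.2.1, h.2.2.cj (hFG hg)⟩

/-- connected vertices -/
def Con (F : Subgroup (GL D.Idx K)) : Subgroup (GL D.Idx K) → Subgroup (GL D.Idx K) → Prop :=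
  Relation.ReflTransGen (Adj F)

theorem Con.refl (A : Subgroup (GL D.Idx K)) : Con F A A := Relation.ReflTransGen.refl

theorem Con.trans {A B C : Subgroup (GL D.Idx K)} (h : Con F A B) (h' : Con F B C) : Con F A C :=
  Relation.ReflTransGen.trans h h'

theorem Adj.con {A B : Subgroup (GL D.Idx K)} (h : Adj F A B) : Con F A B := Relation.ReflTransGen.single h

theorem Con.symm (hD : InList D) {A B : Subgroup (GL D.Idx K)} (h : Con F A B) : Con F B A := by
  induction h with
  | refl => exact Con.refl _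
  | tail _ h2 ih => exact (Adj.con (h2.symm hD)).trans ih

theorem Con.conj (hFG : F ≤ D.group K) {A B : Subgroup (GL D.Idx K)} (h : Con F A B) {g : GL D.Idx K} (hg : g ∈ F) :
    Con F (cj g A) (cj g B) := by
  induction h with
  | refl => exact Con.refl _
  | tail _ h2 ih => exact ih.trans (Adj.con (h2.conj hFG hg))

/-- the stabiliser of the component of `A` -/
def St (hD : InList D) (hFG : F ≤ D.group K) (A : Subgroup (GL D.Idx K)) : Subgroup (GL D.Idx K) where
  carrier := {g | g ∈ F ∧ Con F A (cj g A)}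
  one_mem' := ⟨one_mem F, by rw [cj_one]; exact Con.refl _⟩
  mul_mem' := fun {a b} ha hb => ⟨mul_mem ha.1 hb.1, by
    rw [cj_mul]
    exact ha.2.trans (Con.conj hFG hb.2 ha.1)⟩
  inv_mem' := fun {a} ha => ⟨inv_mem ha.1, by
    have := Con.conj hFG (Con.symm hD ha.2) (inv_mem ha.1)
    rwa [cj_inv_cj] at this⟩

/-- `h_s` is multiplicative -/
theorem hG_mul (hD : InList D) {s : ℕ} (hs : s < D.nroots) (c c' : Kˣ) :
    hG hD s ((c * c' : Kˣ) : K) = hG hD s (c : K) * hG hD s (c' : K) := by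
  apply Units.ext
  rw [hG_entry hD hs (c * c'), Units.val_mul (hG hD s (c : K)), hG_entry hD hs c, hG_entry hD hs c',
    Matrix.diagonal_mul_diagonal]
  congr 1
  funext j
  rw [mul_zpow, Units.val_mul]

theorem hG_one (hD : InList D) {s : ℕ} (hs : s < D.nroots) : hG hD s ((1 : Kˣ) : K) = 1 := by
  have h := hG_mul hD hs (1 : Kˣ) 1
  rw [mul_one] at h
  exact (mul_eq_left.1 h.symm)

theorem hG_inv (hD : InList D) {s : ℕ} (hs : s < D.nroots) (c : Kˣ) :
    hG hD s ((c⁻¹ : Kˣ) : K) = (hG hD s (c : K))⁻¹ := by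
  rw [eq_inv_iff_mul_eq_one, ← hG_mul hD hs, inv_mul_cancel, hG_one hD hs]

/-- the kernel of `F` on the components with at least two vertices -/
def NN (hD : InList D) (hFG : F ≤ D.group K) : Subgroup (GL D.Idx K) where
  carrier := {x | x ∈ F ∧ ∀ A B : Subgroup (GL D.Idx K), Adj F A B → Con F A (cj x A)}
  one_mem' := ⟨one_mem F, fun A B _ => by rw [cj_one]; exact Con.refl _⟩
  mul_mem' := fun {a b} ha hb => ⟨mul_mem ha.1 hb.1, fun A B h => by
    rw [cj_mul]
    exact (hb.2 A B h).trans (ha.2 _ _ (h.conj hFG hb.1))⟩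
  inv_mem' := fun {a} ha => ⟨inv_mem ha.1, fun A B h => by
    have h1 := ha.2 _ _ (h.conj hFG (inv_mem ha.1))
    rw [cj_cj_inv] at h1
    exact h1.symm hD⟩

theorem mem_NN (hD : InList D) (hFG : F ≤ D.group K) {x : GL D.Idx K} :
    x ∈ NN hD hFG ↔ x ∈ F ∧ ∀ A B : Subgroup (GL D.Idx K), Adj F A B → Con F A (cj x A) := Iff.rfl

theorem le_norm_NN (hD : InList D) (hFG : F ≤ D.group K) :
    F ≤ Subgroup.normalizer (NN hD hFG : Set (GL D.Idx K)) := by
  have key : ∀ f ∈ F, ∀ x ∈ NN hD hFG, f * x * f⁻¹ ∈ NN hD hFG := by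
    intro f hf x hx
    refine ⟨mul_mem (mul_mem hf hx.1) (inv_mem hf), fun A B h => ?_⟩
    have h1 := (hx.2 _ _ (h.conj hFG (inv_mem hf))).conj hFG hf
    rw [cj_cj_inv, ← cj_mul, ← cj_mul] at h1
    exact h1
  intro f hf
  rw [Subgroup.mem_normalizer_iff]
  intro x
  refine ⟨key f hf x, fun h1 => ?_⟩
  have h2 := key f⁻¹ (inv_mem hf) _ h1
  have e : f⁻¹ * (f * x * f⁻¹) * f⁻¹⁻¹ = x := by group
  rwa [e] at h2

theorem torus_mem_NN [Finite K] (hD : InList D) (hFG : F ≤ D.group K) (hK : 13 ≤ Nat.card K) {g : GL D.Idx K}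
    (hg : g ∈ D.group K) (h1 : cj g (XT D K) ≤ F) (h2 : cj g (XB D K) ≤ F) (c : Kˣ) :
    g * hG hD (top D) (c : K) * g⁻¹ ∈ NN hD hFG := by
  have hF : ∀ c : Kˣ, g * hG hD (top D) (c : K) * g⁻¹ ∈ F := fun c => (sup_le h1 h2) (hG_mem_sup hD _ _)
  refine ⟨hF c, fun A B h => ?_⟩
  let S : Subgroup Kˣ :=
    { carrier := {c | g * hG hD (top D) (c : K) * g⁻¹ ∈ St hD hFG A}
      one_mem' := by
        show g * hG hD (top D) ((1 : Kˣ) : K) * g⁻¹ ∈ St hD hFG A
        rw [hG_one hD (top_lt hD), mul_one, mul_inv_cancel]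
        exact one_mem _
      mul_mem' := fun {a b} ha hb => by
        show g * hG hD (top D) ((a * b : Kˣ) : K) * g⁻¹ ∈ St hD hFG A
        have e : g * hG hD (top D) ((a * b : Kˣ) : K) * g⁻¹ =
            (g * hG hD (top D) (a : K) * g⁻¹) * (g * hG hD (top D) (b : K) * g⁻¹) := by
          rw [hG_mul hD (top_lt hD)]; group
        rw [e]
        exact mul_mem ha hb
      inv_mem' := fun {a} ha => by
        show g * hG hD (top D) ((a⁻¹ : Kˣ) : K) * g⁻¹ ∈ St hD hFG A
        have e : g * hG hD (top D) ((a⁻¹ : Kˣ) : K) * g⁻¹ = (g * hG hD (top D) (a : K) * g⁻¹)⁻¹ := by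
          rw [hG_inv hD (top_lt hD)]; group
        rw [e]
        exact inv_mem ha }
  have hS : S = ⊤ := torus_stab hD (by omega) h.2.2 (isLong_top hD) hg S fun c hc =>
    ⟨hF c, h.con.trans (Adj.con ⟨h.2.1, cj_le_of_mem (hF c) h.1, hc.symm hD⟩)⟩
  have h3 : c ∈ S := by rw [hS]; trivial
  exact h3.2

/-- **Claim 1** -/
theorem lr_le_NN [Finite K] (hD : InList D) (hFG : F ≤ D.group K) (hK : 13 ≤ Nat.card K)
    {A B : Subgroup (GL D.Idx K)} (h : Adj F A B) : A ≤ NN hD hFG := by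
  obtain ⟨hA, hB, g, hg, rfl, rfl⟩ := h
  obtain ⟨c, hc0, -, hc2⟩ := exists_c K (by omega)
  exact le_of_torus hD hc0 hc2 (hA.trans (le_norm_NN hD hFG)) (torus_mem_NN hD hFG hK hg hA hB (Units.mk0 c hc0))

/-! ### the groups `Q D K r` are `p`-groups -/

theorem Q_top_le (hD : InList D) : Q D K (top D) ≤ D.posUnipotent K := by
  rw [Q_le_iff hD]
  intro r hr h t
  rcases RootWord.pos_or_neg (good hD) hr with h1 | h1
  · exact xG_mem_posUnipotent hD h1 t
  · have := neg_level hD h1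
    omega

theorem isPGroup_pos [Finite K] (hD : InList D) (p : ℕ) [Fact p.Prime] [CharP K p] :
    IsPGroup p ↥(D.posUnipotent K) := by
  have : Fintype K := Fintype.ofFinite K
  obtain ⟨n, -, hn⟩ := FiniteField.card K p
  refine IsPGroup.of_card (n := n * (D.nroots / 2)) ?_
  rw [Cfsg.Agent.S1027.result D hD, hn, pow_mul]

theorem isPGroup_Q [Finite K] (hD : InList D) (p : ℕ) [Fact p.Prime] [CharP K p] {r : ℕ} (hr : IsLong D r) :
    IsPGroup p ↥(Q D K r) := by
  obtain ⟨n, hn, w, hw, hact, e, -⟩ := hr.exists_n hD K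
  have h1 := cj_Q (K := K) hD hw hact hr.1
  rw [e] at h1
  have h2 : Q D K r = cj n⁻¹ (Q D K (top D)) := by rw [← h1, cj_inv_cj]
  rw [h2]
  exact IsPGroup_cj ((isPGroup_pos hD p).to_le (Q_top_le hD)) _

/-! ### the swapping element -/

theorem sl_conj (b : K) :
    (SL2Hom.up (1 : K) * SL2Hom.lo (-1) * SL2Hom.up 1) * SL2Hom.up b =
      SL2Hom.lo (-b) * (SL2Hom.up 1 * SL2Hom.lo (-1) * SL2Hom.up 1) := by
  have h : (!![1, (1 : K); 0, 1] * !![1, 0; -1, 1] * !![1, 1; 0, 1]) * !![1, b; 0, 1] =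
      !![1, 0; -b, 1] * (!![1, 1; 0, 1] * !![1, 0; -1, 1] * !![1, (1 : K); 0, 1]) := by
    ext i j
    (revert i j; simp only [Matrix.mul_apply, Fin.sum_univ_two, _root_.Fin.forall_fin_succ, _root_.Matrix.cons_mul, _root_.Nat.succ_eq_add_one, Nat.reduceAdd, _root_.Matrix.vecMul_cons, _root_.Matrix.head_cons, _root_.one_smul, _root_.Matrix.tail_cons, _root_.Matrix.empty_vecMul, _root_.add_zero, _root_.Matrix.add_cons, _root_.add_neg_cancel, _root_.zero_add, _root_.Matrix.empty_add_empty, _root_.zero_smul, _root_.Matrix.empty_mul, _root_.Equiv.symm_apply_apply, _root_.neg_smul, _root_.Matrix.neg_cons, _root_.Matrix.neg_empty, _root_.neg_add_cancel, _root_.Matrix.of_apply, _root_.Matrix.cons_val', _root_.Matrix.cons_val_fin_one, Fin.isValue, _root_.Matrix.cons_val_zero, _root_.Matrix.cons_val_one, _root_.mul_one, _root_.MulZeroClass.mul_zero, _root_.mul_neg, _root_.Matrix.cons_val_succ, _root_.forall_const, _root_.neg_zero, _root_.MulZeroClass.zero_mul, _root_.and_self,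 _root_.neg_mul, _root_.one_mul, _root_.implies_true])
  exact Subtype.ext h

/-- an element of `⟨X_r, X_{-r}⟩` swapping `X_r` and `X_{-r}` -/
theorem exists_swap_mem (hD : InList D) {r : ℕ} (hr : r < D.nroots) :
    ∃ n ∈ D.rootSubgroup K r ⊔ D.rootSubgroup K (D.neg r),
      cj n (D.rootSubgroup K r) = D.rootSubgroup K (D.neg r) := by
  obtain ⟨φ, hr1, hφ⟩ := Cfsg.Agent.S1030.result (F := K) D hD r hr
  have hup : ∀ t : K, φ (SL2Hom.up t) = xG hD r t := fun t => Units.ext ((hφ (SL2Hom.up t) t).1 rfl)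
  have hlo : ∀ t : K, φ (SL2Hom.lo t) = xG hD (D.neg r) t := fun t => Units.ext ((hφ (SL2Hom.lo t) t).2 rfl)
  set w : Matrix.SpecialLinearGroup (Fin 2) K := SL2Hom.up 1 * SL2Hom.lo (-1) * SL2Hom.up 1 with hw
  have key : ∀ b : K, φ w * xG hD r b * (φ w)⁻¹ = xG hD (D.neg r) (-b) := by
    intro b
    rw [mul_inv_eq_iff_eq_mul, ← hup, ← hlo, ← map_mul, ← map_mul, hw, sl_conj]
  refine ⟨φ w, ?_, ?_⟩
  · rw [← hr1]; exact ⟨w, rfl⟩
  · apply le_antisymm
    · rintro x ⟨y, hy, rfl⟩
      obtain ⟨b, rfl⟩ := (mem_rootSubgroup_iff hD _ _).1 hy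
      show φ w * xG hD r b * (φ w)⁻¹ ∈ _
      rw [key]
      exact xG_mem_rootSubgroup hD _ _
    · intro x hx
      obtain ⟨b, rfl⟩ := (mem_rootSubgroup_iff hD _ _).1 hx
      have := key (-b)
      rw [_root_.neg_neg] at this
      rw [← this]
      exact conj_mem_cj (xG_mem_rootSubgroup hD _ _)

/-! ### Claim 2 -/

section Six

variable [Finite K] {p : ℕ} [Fact p.Prime] [CharP K p]

/-- `T`-invariant `p`-subgroups of `F` lie in `D_F` -/
theorem inv_le_DF (hD : InList D) (hK : 13 ≤ Nat.card K) (hFG : F ≤ D.group K) {V : Subgroup (GL D.Idx K)}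
    (hV : V ≤ F) (hVp : IsPGroup p ↥V) (hT : D.diagonalSubgroup K ≤ Subgroup.normalizer (V : Set (GL D.Idx K))) :
    V ≤ DF D K F := by
  rw [Cfsg.Agent.H460.OT.inv_pgroup (p := p) hD hK (hV.trans hFG) hVp hT]
  exact iSup₂_le fun r hr => Cfsg.Agent.H412.OT.rootSubgroup_le_DF ⟨hr.1, hr.2.trans hV⟩

omit [Finite K] in
theorem tor_norm_inf_Q (hD : InList D) (hTF : D.diagonalSubgroup K ≤ F) (r : ℕ) :
    D.diagonalSubgroup K ≤ Subgroup.normalizer ((F ⊓ Q D K r : Subgroup (GL D.Idx K)) : Set (GL D.Idx K)) := by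
  intro t ht
  have key : ∀ t ∈ D.diagonalSubgroup K, ∀ x ∈ F ⊓ Q D K r, t * x * t⁻¹ ∈ F ⊓ Q D K r := fun t ht x hx =>
    ⟨F.mul_mem (F.mul_mem (hTF ht) hx.1) (F.inv_mem (hTF ht)), diag_conj_Q hD ht x hx.2⟩
  rw [Subgroup.mem_normalizer_iff]
  intro x
  refine ⟨fun hx => key t ht x hx, fun hx => ?_⟩
  have h1 := key t⁻¹ (inv_mem ht) _ hx
  have e : t⁻¹ * (t * x * t⁻¹) * t⁻¹⁻¹ = x := by group
  rwa [e] at h1

/-- **Claim 2** : the component of `X_r` consists of `D_F`-conjugates of `X_r` -/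
theorem con_conj (hD : InList D) (hK : 13 ≤ Nat.card K) (hTF : D.diagonalSubgroup K ≤ F) (hFG : F ≤ D.group K)
    {r : ℕ} (hr : IsLong D r) (hXr : D.rootSubgroup K r ≤ F) {A : Subgroup (GL D.Idx K)}
    (h : Con F (D.rootSubgroup K r) A) : ∃ d ∈ DF D K F, A = cj d (D.rootSubgroup K r) := by
  obtain ⟨c, hc0, hc1, hc2⟩ := exists_c K (by omega)
  obtain ⟨p, hpc⟩ := CharP.exists K
  have hpp : Fact p.Prime := ⟨CharP.char_is_prime K p⟩
  induction h with
  | refl => exact ⟨1, one_mem _, by rw [cj_one]⟩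
  | @tail B C _ h2 ih =>
    obtain ⟨d, hd, rfl⟩ := ih
    have hdF : d ∈ F := Cfsg.Agent.H412.OT.DF_le F hd
    have h3 := h2.conj hFG (inv_mem hdF)
    rw [cj_inv_cj] at h3
    obtain ⟨h4, v, hvF, hvQ, e⟩ := torus_moufang hD hc0 hc1 hc2 hTF hr hXr h3.2.1 h3.2.2
    obtain ⟨n, hn, en⟩ := exists_swap_mem (K := K) hD hr.1
    have hn' : n ∈ DF D K F :=
      (sup_le (Cfsg.Agent.H412.OT.rootSubgroup_le_DF ⟨hr.1, hXr⟩)
        (Cfsg.Agent.H412.OT.rootSubgroup_le_DF ⟨RootWord.neg_lt (good hD) hr.1, h4⟩)) hn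
    have hv : v ∈ DF D K F :=
      inv_le_DF (p := p) hD hK hFG (inf_le_left : F ⊓ Q D K r ≤ F)
        ((isPGroup_Q hD p hr).to_le inf_le_right) (tor_norm_inf_Q hD hTF r) ⟨hvF, hvQ⟩
    refine ⟨d * (v * n), mul_mem hd (mul_mem hv hn'), ?_⟩
    rw [cj_mul, cj_mul, en, ← e, cj_cj_inv]

end Six

/-! ### the normal closure of `X_r` in `F` -/

/-- the subgroup generated by the conjugates of `X_r` in `F` -/
def EE (F : Subgroup (GL D.Idx K)) (r : ℕ) : Subgroup (GL D.Idx K) :=
  ⨆ f ∈ F, cj f (D.rootSubgroup K r)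

theorem cj_le_EE {r : ℕ} {f : GL D.Idx K} (hf : f ∈ F) : cj f (D.rootSubgroup K r) ≤ EE F r :=
  le_iSup₂ (f := fun f (_ : f ∈ F) => cj f (D.rootSubgroup K r)) f hf

theorem root_le_EE {r : ℕ} : D.rootSubgroup K r ≤ EE F r := by
  have := cj_le_EE (F := F) (r := r) (one_mem F)
  rwa [cj_one] at this

theorem EE_le {r : ℕ} (h : D.rootSubgroup K r ≤ F) : EE F r ≤ F :=
  iSup₂_le fun _ hf => cj_le_of_mem hf h

theorem cj_EE_le {r : ℕ} {f : GL D.Idx K} (hf : f ∈ F) : cj f (EE F r) ≤ EE F r := by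
  rw [cj_le_iff]
  refine iSup₂_le fun g hg => ?_
  rw [← cj_le_iff, ← cj_mul]
  exact cj_le_EE (mul_mem hf hg)

theorem cj_EE {r : ℕ} {f : GL D.Idx K} (hf : f ∈ F) : cj f (EE F r) = EE F r := by
  refine le_antisymm (cj_EE_le hf) ?_
  have := cj_mono (g := f) (cj_EE_le (r := r) (inv_mem hf))
  rwa [cj_cj_inv] at this

theorem le_norm_EE (F : Subgroup (GL D.Idx K)) (r : ℕ) : F ≤ Subgroup.normalizer (EE F r : Set (GL D.Idx K)) :=
  fun _ hf => cj_eq_self_iff.1 (cj_EE hf)

/-- **Claim 3** -/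
theorem EE_le_MF [Fintype K] {p : ℕ} [Fact p.Prime] [CharP K p] (hH : Hyp K p D) (hF : MinBad D K F) {r : ℕ}
    (hr : IsLong D r) (hXr : D.rootSubgroup K r ≤ F) {B : Subgroup (GL D.Idx K)}
    (hB : Adj F (D.rootSubgroup K r) B) : EE F r ≤ MF D K F := by
  have hD : InList D := hH.inList
  have hK := Cfsg.Agent.H274.OT.card13 hH
  have h1 : EE F r ≤ NN hD hF.le :=
    iSup₂_le fun f hf => lr_le_NN hD hF.le hK (hB.conj hF.le hf)
  intro x hx
  obtain ⟨hxF, hcon'⟩ := (mem_NN hD hF.le).1 (h1 hx)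
  have hcon := hcon' _ _ hB
  obtain ⟨d, hd, e⟩ := con_conj hD hK hF.tor hF.le hr hXr hcon
  have hdF : d ∈ F := Cfsg.Agent.H412.OT.DF_le F hd
  have h2 : d⁻¹ * x ∈ MF D K F := by
    refine hF.root hH (r := r) ⟨hr.1, hXr⟩ ⟨F.mul_mem (F.inv_mem hdF) hxF, cj_eq_self_iff.1 ?_⟩
    rw [cj_mul, e, cj_inv_cj]
  have h3 := mul_mem (Cfsg.Agent.H412.OT.DF_le_MF F hd) h2
  rwa [mul_inv_cancel_left] at h3

end Cfsg.Agent.H249.OT
end

-- part: H249/OT/Abs
section
/-!
# Abstract lemmas for the end of part 1 of S2539 (helper249)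

* `relIndex_sup_dvd` : `|A C : A B|` divides `|C : B|`;
* `exists_conj_le` : Sylow's theorem for a maximal `p`-subgroup `P` of `N ≤ G`;
* `frattini` : `E ≤ N ≤ F ≤ N(E)`, `P` a maximal `p`-subgroup of `N`: `F = E N_F(P ∩ E)`.
-/

set_option autoImplicit false

namespace Cfsg.Agent.H249.OT.Abs

variable {G : Type*} [Group G]


theorem mem_map_conj {g x : G} {A : Subgroup G} :
    x ∈ A.map (MulAut.conj g).toMonoidHom ↔ g⁻¹ * x * g ∈ A := by
  constructor
  · rintro ⟨y, hy, rfl⟩
    show g⁻¹ * (g * y * g⁻¹) * g ∈ A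
    have e : g⁻¹ * (g * y * g⁻¹) * g = y := by group
    rwa [e]
  · intro h
    refine ⟨_, h, ?_⟩
    show g * (g⁻¹ * x * g) * g⁻¹ = x
    group

theorem map_conj_of_norm {g : G} {A : Subgroup G} (h : g ∈ Subgroup.normalizer (A : Set G)) :
    A.map (MulAut.conj g).toMonoidHom = A := by
  ext x
  rw [mem_map_conj]
  have h1 := Subgroup.mem_normalizer_iff.1 h (g⁻¹ * x * g)
  rw [h1]
  have e : g * (g⁻¹ * x * g) * g⁻¹ = x := by group
  rw [e]

theorem norm_of_map_conj {g : G} {A : Subgroup G} (h : A.map (MulAut.conj g).toMonoidHom = A) :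
    g ∈ Subgroup.normalizer (A : Set G) := by
  rw [Subgroup.mem_normalizer_iff]
  intro x
  constructor
  · intro hx
    rw [← h]
    exact ⟨x, hx, rfl⟩
  · intro hx
    rw [← h, mem_map_conj] at hx
    have e : g⁻¹ * (g * x * g⁻¹) * g = x := by group
    rwa [e] at hx

theorem map_conj_mul (g h : G) (A : Subgroup G) :
    A.map (MulAut.conj (g * h)).toMonoidHom = (A.map (MulAut.conj h).toMonoidHom).map (MulAut.conj g).toMonoidHom := by
  ext x
  rw [mem_map_conj, mem_map_conj, mem_map_conj]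
  have e : (g * h)⁻¹ * x * (g * h) = h⁻¹ * (g⁻¹ * x * g) * h := by group
  rw [e]

theorem map_conj_one (A : Subgroup G) : A.map (MulAut.conj (1 : G)).toMonoidHom = A := by
  ext x
  rw [mem_map_conj]
  simp

variable [Finite G] {p : ℕ} [Fact p.Prime]

theorem exists_conj_le {N P : Subgroup G} (hPN : P ≤ N) (hPp : IsPGroup p P)
    (hmax : ∀ P' : Subgroup G, IsPGroup p P' → P ≤ P' → P' ≤ N → P' = P) {Q : Subgroup G} (hQN : Q ≤ N)
    (hQ : IsPGroup p Q) : ∃ n ∈ N, Q ≤ P.map (MulAut.conj n).toMonoidHom := by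
  let PS : Sylow p ↥N :=
    { toSubgroup := P.subgroupOf N
      isPGroup' := hPp.comap_of_injective N.subtype Subtype.val_injective
      is_maximal' := fun {Q'} hQ' hle => by
        have h1 : Q'.map N.subtype = P := by
          refine hmax _ (hQ'.map _) ?_ (Subgroup.map_subtype_le _)
          intro x hx
          exact ⟨⟨x, hPN hx⟩, hle hx, rfl⟩
        rw [← h1]
        exact (Subgroup.comap_map_eq_self_of_injective N.subtype_injective Q').symm }
  obtain ⟨S, hS⟩ := (hQ.comap_of_injective N.subtype Subtype.val_injective : IsPGroup p ↥(Q.subgroupOf N)).exists_le_sylow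
  obtain ⟨n, hn⟩ := MulAction.exists_smul_eq ↥N PS S
  refine ⟨n, n.2, fun x hx => ?_⟩
  have h1 : (⟨x, hQN hx⟩ : ↥N) ∈ S := hS hx
  rw [← hn, ← SetLike.mem_coe, Sylow.coe_smul] at h1
  obtain ⟨y, hy, hyx⟩ := Set.mem_smul_set.1 h1
  refine ⟨y, hy, ?_⟩
  have h2 := congrArg (Subtype.val : ↥N → G) hyx
  exact h2

theorem eq_of_le_conj {P Q : Subgroup G} {n : G} (h : P ≤ Q)
    (hQ : Q ≤ P.map (MulAut.conj n).toMonoidHom) : Q = P := by
  symm
  apply Subgroup.eq_of_le_of_card_ge h
  calc Nat.card Q ≤ Nat.card (P.map (MulAut.conj n).toMonoidHom) := Subgroup.card_le_of_le hQ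
    _ = Nat.card P := Subgroup.card_map_of_injective (MulAut.conj n).injective

theorem frattini {N E F P : Subgroup G} (hEN : E ≤ N) (hNF : N ≤ F)
    (hEF : F ≤ Subgroup.normalizer (E : Set G)) (hPN : P ≤ N) (hPp : IsPGroup p P)
    (hmax : ∀ P' : Subgroup G, IsPGroup p P' → P ≤ P' → P' ≤ N → P' = P) {f : G} (hf : f ∈ F) :
    ∃ e ∈ E, e * f ∈ Subgroup.normalizer ((P ⊓ E : Subgroup G) : Set G) := by
  have hconj : ∀ n ∈ F, (P.map (MulAut.conj n).toMonoidHom) ⊓ E = (P ⊓ E).map (MulAut.conj n).toMonoidHom := by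
    intro n hn
    rw [Subgroup.map_inf _ _ _ (MulAut.conj n).injective, map_conj_of_norm (hEF hn)]
  have hmaxE : ∀ P' : Subgroup G, IsPGroup p P' → P ⊓ E ≤ P' → P' ≤ E → P' = P ⊓ E := by
    intro P' hP' h1 h2
    obtain ⟨n, hn, h3⟩ := exists_conj_le hPN hPp hmax (h2.trans hEN) hP'
    refine eq_of_le_conj (n := n) h1 ?_
    rw [← hconj n (hNF hn)]
    exact le_inf h3 h2
  have hPE : IsPGroup p ↥(P ⊓ E) := hPp.to_le inf_le_left
  obtain ⟨e, he, h1⟩ := exists_conj_le (inf_le_right : P ⊓ E ≤ E) hPE hmaxE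
    (Q := (P ⊓ E).map (MulAut.conj f).toMonoidHom) (by
      rw [← hconj f hf]; exact inf_le_right) (hPE.map _)
  refine ⟨e⁻¹, inv_mem he, norm_of_map_conj ?_⟩
  have h2 : (P ⊓ E).map (MulAut.conj f).toMonoidHom = (P ⊓ E).map (MulAut.conj e).toMonoidHom := by
    apply Subgroup.eq_of_le_of_card_ge h1
    rw [Subgroup.card_map_of_injective (MulAut.conj e).injective,
      Subgroup.card_map_of_injective (MulAut.conj f).injective]
  rw [map_conj_mul, h2, ← map_conj_mul, inv_mul_cancel, map_conj_one]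

end Cfsg.Agent.H249.OT.Abs
end

-- part: H927/SzPsl
section
/-!
# The group generated by opposite long root subgroups is perfect and has no small quotients (S2539, part 1)
-/

set_option autoImplicit false

namespace Cfsg.Agent.H927.Sz

open Cfsg.Lie Cfsg.Agent.ChevalleyStructure Cfsg.Agent.ChevalleyStructure.RootCombGood
  Cfsg.Agent.ChevalleyStructure.RootWord Cfsg.Agent.ChevalleyStructure.Elts
  Cfsg.Agent.H86.Lev Cfsg.Agent.H86.Graded Cfsg.Agent.H86.Par
  Cfsg.Agent.LieClassical.SLTwoUnipotent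

open Matrix (SpecialLinearGroup)

universe u

variable {D : ChevalleyDatum} {K : Type u} [Field K]

/-- homomorphism from `SL₂` onto `A ⊔ B` -/
theorem Opp.exists_phi (hD : InList D) {A B : Subgroup (GL D.Idx K)} (h : Opp A B) :
    ∃ φ : _root_.Matrix.SpecialLinearGroup (Fin 2) K →* GL D.Idx K, φ.range = A ⊔ B := by
  obtain ⟨g, hg, rfl, rfl⟩ := h
  obtain ⟨φ, -, hφ⟩ := Cfsg.Agent.S1030.result (F := K) D hD (top D) (top_lt hD)
  have hu : ∀ t : K, φ (u t) = xG hD (top D) t := fun t => Units.ext ((hφ (u t) t).1 rfl)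
  have hl : ∀ t : K, φ (l t) = xG hD 0 t := fun t => Units.ext (by
    have := (hφ (l t) t).2 rfl
    rw [neg_top hD] at this
    exact this)
  refine ⟨(MulAut.conj g).toMonoidHom.comp φ, ?_⟩
  rw [← cj_sup, MonoidHom.range_comp]
  show Sz.cj g φ.range = _
  congr 1
  refine le_antisymm ?_ (sup_le ?_ ?_)
  · have h1 : (XT D K ⊔ XB D K).comap φ = ⊤ := by
      refine eq_top_of_u_mem_of_l_mem _ (fun x => ?_) (fun x => ?_)
      · show φ (u x) ∈ XT D K ⊔ XB D K
        rw [hu]; exact (le_sup_left : XT D K ≤ _) (xG_mem_rootSubgroup hD _ _)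
      · show φ (l x) ∈ XT D K ⊔ XB D K
        rw [hl]; exact (le_sup_right : XB D K ≤ _) (xG_mem_rootSubgroup hD _ _)
    rintro _ ⟨x, rfl⟩
    have : x ∈ (XT D K ⊔ XB D K).comap φ := by rw [h1]; trivial
    exact this
  · intro x hx
    obtain ⟨t, rfl⟩ := (mem_rootSubgroup_iff hD _ _).1 hx
    exact ⟨u t, hu t⟩
  · intro x hx
    obtain ⟨t, rfl⟩ := (mem_rootSubgroup_iff hD _ _).1 hx
    exact ⟨l t, hl t⟩

theorem num_aux : ∀ q < 1118, 13 ≤ q → q * (q ^ 2 - 1) ∣ 1393459200 → q = 15 := by decide +kernel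

theorem num {q : ℕ} (hq : 13 ≤ q) (h : q * (q ^ 2 - 1) ∣ 1393459200) : q = 15 := by
  refine num_aux q ?_ hq h
  by_contra hlt
  push Not at hlt
  have h1 := Nat.le_of_dvd (by norm_num) h
  have h2 : 1118 ^ 2 ≤ q ^ 2 := Nat.pow_le_pow_left hlt 2
  have h3 : 1118 * (1118 ^ 2 - 1) ≤ q * (q ^ 2 - 1) := Nat.mul_le_mul hlt (by omega)
  norm_num only [] at h3
  omega

theorem card_ne_fifteen (K : Type u) [Field K] [Fintype K] : Fintype.card K ≠ 15 := by
  intro h
  obtain ⟨p, hp⟩ := CharP.exists K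
  obtain ⟨n, hpp, hn⟩ := FiniteField.card K p
  rw [h] at hn
  have h3 : 3 ∣ p ^ (n : ℕ) := by rw [← hn]; norm_num
  have h5 : 5 ∣ p ^ (n : ℕ) := by rw [← hn]; norm_num
  have e3 := (Nat.prime_dvd_prime_iff_eq (by norm_num) hpp).1 (Nat.Prime.dvd_of_dvd_pow (by norm_num) h3)
  have e5 := (Nat.prime_dvd_prime_iff_eq (by norm_num) hpp).1 (Nat.Prime.dvd_of_dvd_pow (by norm_num) h5)
  omega

theorem card_center_le (K : Type u) [Field K] [Fintype K] :
    Nat.card (Subgroup.center (_root_.Matrix.SpecialLinearGroup (Fin 2) K)) ≤ 2 := by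
  classical
  have h1 : ∀ x ∈ Subgroup.center (_root_.Matrix.SpecialLinearGroup (Fin 2) K), x = 1 ∨ x = -1 := by
    intro x hx
    obtain ⟨r, hr, hx⟩ := Matrix.SpecialLinearGroup.mem_center_iff.1 hx
    rw [Fintype.card_fin] at hr
    rcases mul_self_eq_one_iff.1 (by rw [← sq]; exact hr : r * r = 1) with h | h
    · left
      apply Subtype.ext
      rw [← hx, h]
      simp
    · right
      apply Subtype.ext
      rw [← hx, h]
      ext i j
      (revert i j; simp only [_root_.Fin.forall_fin_succ, _root_.Matrix.scalar_apply, _root_.Matrix.SpecialLinearGroup.coe_neg, _root_.Matrix.SpecialLinearGroup.coe_one, _root_.Matrix.neg_apply, Fin.isValue, _root_.Fin.succ_zero_eq_one, _root_.IsEmpty.forall_iff, _root_.and_true, _root_.Matrix.diagonal_apply_eq, _root_.Matrix.one_apply_eq, _root_.ne_eq, _root_.zero_ne_one, _root_.not_false_eq_true, _root_.Matrix.diagonal_apply_ne, Nat.reduceAdd, _root_.Matrix.one_apply_ne, _root_.neg_zero, _root_.and_self, _root_.Fin.succ_ne_zero,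 _root_.true_and])
  have h2 : (Subgroup.center (_root_.Matrix.SpecialLinearGroup (Fin 2) K) : Set (_root_.Matrix.SpecialLinearGroup (Fin 2) K)) ⊆
      (({1, -1} : Finset (_root_.Matrix.SpecialLinearGroup (Fin 2) K)) : Set (_root_.Matrix.SpecialLinearGroup (Fin 2) K)) := by
    intro x hx
    rcases h1 x hx with h | h <;> simp only [h, _root_.Finset.coe_insert, _root_.Finset.coe_singleton, _root_.Set.mem_insert_iff, _root_.Set.mem_singleton_iff, _root_.true_or, _root_.or_true]
  have h3 := Set.ncard_le_ncard h2 (Finset.finite_toSet _)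
  rw [Set.ncard_coe_finset] at h3
  exact h3.trans Finset.card_le_two

/-- homomorphisms of `SL₂(q)` into small groups are trivial -/
theorem hom_trivial [Fintype K] (hK : 13 ≤ Fintype.card K) {Y : Type*} [Group Y] [Finite Y]
    (hY : Nat.card Y ∣ 696729600) (ψ : _root_.Matrix.SpecialLinearGroup (Fin 2) K →* Y) (x : _root_.Matrix.SpecialLinearGroup (Fin 2) K) :
    ψ x = 1 := by
  rcases Cfsg.Agent.H334.Symp.El.sl_normal (F := K) (by omega) ψ.ker inferInstance with h | h
  · exact MonoidHom.mem_ker.1 (by rw [h]; trivial)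
  · exfalso
    have h1 : Nat.card ψ.ker * Nat.card ψ.range = Nat.card (_root_.Matrix.SpecialLinearGroup (Fin 2) K) := by
      rw [← Subgroup.index_ker, Subgroup.card_mul_index]
    have h2 : Nat.card ψ.ker ≤ 2 := (Subgroup.card_le_of_le h).trans (card_center_le K)
    have h3 : Nat.card ψ.range ∣ 696729600 := (Subgroup.card_subgroup_dvd_card _).trans hY
    have h4 : 0 < Nat.card ψ.ker := Nat.card_pos
    have h5 : Nat.card ψ.ker ∣ 2 := (Nat.dvd_prime Nat.prime_two).2 (by omega)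
    have h6 : Nat.card (_root_.Matrix.SpecialLinearGroup (Fin 2) K) ∣ 1393459200 := by
      rw [← h1, show (1393459200 : ℕ) = 2 * 696729600 by norm_num]
      exact Nat.mul_dvd_mul h5 h3
    rw [Cfsg.Agent.ClassicalGeometry.PSL2Basic.card_SL2] at h6
    exact card_ne_fifteen K (num hK h6)

/-- **no small quotients** -/
theorem Opp.le_of_index (hD : InList D) [Finite K] (hK : 13 ≤ Nat.card K) {A B M N : Subgroup (GL D.Idx K)}
    (h : Opp A B) (hA : A ≤ M) (hB : B ≤ M) (hN : (N.subgroupOf M).Normal) (hidx : N.relIndex M ∣ 696729600) :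
    A ⊔ B ≤ N := by
  have := Fintype.ofFinite K
  rw [Nat.card_eq_fintype_card] at hK
  obtain ⟨φ, hφ⟩ := h.exists_phi hD
  have hle : ∀ x, φ x ∈ M := fun x => (sup_le hA hB) (by rw [← hφ]; exact ⟨x, rfl⟩)
  let ψ : _root_.Matrix.SpecialLinearGroup (Fin 2) K →* (M ⧸ N.subgroupOf M) :=
    (QuotientGroup.mk' (N.subgroupOf M)).comp (φ.codRestrict M hle)
  have hfin : Finite (GL D.Idx K) := inferInstance
  have key := hom_trivial hK (Y := M ⧸ N.subgroupOf M) hidx ψ
  intro y hy
  rw [← hφ] at hy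
  obtain ⟨x, rfl⟩ := hy
  have h1 : (QuotientGroup.mk' (N.subgroupOf M)) ⟨φ x, hle x⟩ = 1 := key x
  rw [QuotientGroup.mk'_apply, QuotientGroup.eq_one_iff] at h1
  exact h1

end Cfsg.Agent.H927.Sz
end

-- part: H249/OT/NoAdj
section
/-!
# End of part 1 of S2539 (helper249)

`no_adj` : a least bad overgroup `F` of the torus contains no long root subgroup `X_r` with an opposite long root
subgroup in `F`.
-/

set_option autoImplicit false

namespace Cfsg.Agent.H249.OT

open Cfsg.Lie Cfsg.Agent.ChevalleyStructure Cfsg.Agent.ChevalleyStructure.RootCombGood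
  Cfsg.Agent.ChevalleyStructure.RootWord Cfsg.Agent.ChevalleyStructure.Elts
  Cfsg.Agent.ChevalleyStructure.BruhatSplit
  Cfsg.Agent.H86.Lev Cfsg.Agent.H86.Graded Cfsg.Agent.H86.Par
  Cfsg.Agent.H927.Sz
open Cfsg.Agent.H412.OT (SF DF MF MinBad Hyp GS)

universe u

variable {D : ChevalleyDatum} {K : Type u} [Field K] {F : Subgroup (GL D.Idx K)}

theorem norm_inf {G : Type*} [Group G] {A B C : Subgroup G} (hA : C ≤ Subgroup.normalizer (A : Set G))
    (hB : C ≤ Subgroup.normalizer (B : Set G)) : C ≤ Subgroup.normalizer ((A ⊓ B : Subgroup G) : Set G) := by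
  intro c hc
  apply Abs.norm_of_map_conj
  rw [Subgroup.map_inf _ _ _ (MulAut.conj c).injective, Abs.map_conj_of_norm (hA hc), Abs.map_conj_of_norm (hB hc)]

/-- **no adjacent long root subgroups** in a least bad overgroup of `T` -/
theorem no_adj [Fintype K] {p : ℕ} [Fact p.Prime] [CharP K p] (hH : Hyp K p D) (hF : MinBad D K F) {r : ℕ}
    (hr : IsLong D r) (hXr : D.rootSubgroup K r ≤ F) {B : Subgroup (GL D.Idx K)}
    (hB : Adj F (D.rootSubgroup K r) B) : False := by
  have hD : InList D := hH.inList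
  have hK := Cfsg.Agent.H274.OT.card13 hH
  have hfin : Finite (GL D.Idx K) := inferInstance
  obtain ⟨c, hc0, hc1, hc2⟩ := exists_c K (by omega)
  have hE1 := EE_le_MF hH hF hr hXr hB
  obtain ⟨hXn, -⟩ := torus_moufang hD hc0 hc1 hc2 hF.tor hr hXr hB.2.1 hB.2.2
  obtain ⟨n, hn, en⟩ := exists_swap_mem (K := K) hD hr.1
  have hnF : n ∈ F := (sup_le hXr hXn) hn
  have hE2 : ∀ f ∈ F, cj f (D.rootSubgroup K (D.neg r)) ≤ EE F r := by
    intro f hf
    rw [← en, ← cj_mul]
    exact cj_le_EE (F.mul_mem hf hnF)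
  have hEN : EE F r ≤ D.diagonalSubgroup K ⊔ DF D K F :=
    iSup₂_le fun f hf => le_sup_left.trans
      (Opp.le_of_index hD hK ((hr.opp hD K).cj (hF.le hf)) ((cj_le_EE hf).trans hE1) ((hE2 f hf).trans hE1)
        (Cfsg.Agent.H412.OT.MF_normal hH hF.le) (Cfsg.Agent.H412.OT.MF_index hH hF.tor hF.le))
  have hNF : D.diagonalSubgroup K ⊔ DF D K F ≤ F := sup_le hF.tor (Cfsg.Agent.H412.OT.DF_le F)
  obtain ⟨P, hPN, hPp, hTP, -, -, hX, hmax, -⟩ := Cfsg.Agent.H460.OT.GS_struct (p := p)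
    (Cfsg.Agent.H274.OT.mem7 hH.mem) hK hF.tor (Cfsg.Agent.H650.OT.SF_closed (p := p) hH hF.le)
  have hne : P ⊓ EE F r ≠ ⊥ := by
    intro h0
    rcases hX r ⟨hr.1, hXr⟩ with h1 | h1
    · apply Cfsg.Agent.H274.OT.root_ne_bot (K := K) hD hr.1
      rw [eq_bot_iff, ← h0]
      exact le_inf h1 root_le_EE
    · apply Cfsg.Agent.H274.OT.root_ne_bot (K := K) hD (RootWord.neg_lt (good hD) hr.1)
      rw [eq_bot_iff, ← h0]
      have h2 := hE2 1 (one_mem F)
      rw [cj_one] at h2
      exact le_inf h1 h2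
  have hloc := hF.loc hH (Q := P ⊓ EE F r) (inf_le_right.trans (EE_le hXr)) (hPp.to_le inf_le_left) hne
    (norm_inf hTP (hF.tor.trans (le_norm_EE F r)))
  have hle : F ≤ MF D K F := by
    intro f hf
    obtain ⟨e, he, h1⟩ := Abs.frattini hEN hNF (le_norm_EE F r) hPN hPp hmax hf
    have h2 : e * f ∈ MF D K F := hloc ⟨F.mul_mem (EE_le hXr he) hf, h1⟩
    have h3 := (MF D K F).mul_mem ((MF D K F).inv_mem (hE1 he)) h2
    rwa [inv_mul_cancel_left] at h3
  exact lt_irrefl _ (lt_of_lt_of_le (hF.MF_lt hH) hle)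

end Cfsg.Agent.H249.OT
end

-- part: H412/OT/NoLong
section
/-!
# S2539, part 1: a least non-good `F` contains no long root subgroup `X_r` (helper412, helper249, helper927)
-/

set_option autoImplicit false

namespace Cfsg.Agent.H412.OT

open Cfsg.Lie Cfsg.Agent.ChevalleyStructure Cfsg.Agent.ChevalleyStructure.Elts

universe u

variable {D : ChevalleyDatum} {K : Type u} [Field K] [Fintype K] {F : Subgroup (GL D.Idx K)} {p : ℕ}

/-- **Part 1** -/
theorem no_long [Fact p.Prime] [CharP K p] (h : Hyp K p D) (hF : MinBad D K F) {r : ℕ} (hr : IsLong D r) :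
    ¬ D.rootSubgroup K r ≤ F := by
  intro hX
  have hr' := (Cfsg.Agent.H927.Sz.isLong_iff' h.mem).1 hr
  have hlr := hr'.lr h.inList K
  obtain ⟨f, hf, ho⟩ := hF.exists_opp h hlr hX
  exact Cfsg.Agent.H249.OT.no_adj h hF hr' hX (B := Cfsg.Agent.H927.Sz.cj f (D.rootSubgroup K r))
    ⟨hX, Cfsg.Agent.H927.Sz.cj_le_of_mem hf hX, ho⟩

/-- `S_F` contains no long root -/
theorem not_mem_SF_of_long [Fact p.Prime] [CharP K p] (h : Hyp K p D) (hF : MinBad D K F) {r : ℕ}
    (hr : IsLong D r) : r ∉ SF D K F := fun hm => no_long h hF hr hm.2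

end Cfsg.Agent.H412.OT
end

private theorem dce_98fb20c0bd13 : _root_.True := by
  try have : _root_.True := by simp only [_root_.Cfsg.Agent.H927.Sz.ex.eq_1]
  exact _root_.True.intro
end

-- part: H428/OT/Lau
section
prune_inst 0x34100500542012000018000022003c42ba000402004b0800e14000040c89ac43a0410e21b2700210113224ec28380068135c006942080000080004004001048180804000b248010426000f808880000000000000000000000000000000000000200000000
set_option linter.all false
open scoped Cfsg.Agent.FastGrp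

/-!
# The Laurent trick for subgroups of diagonal matrices (helper428), for S2539

* `dco e : Kˣ →* GL ι K`, `c ↦ diag (c ^ e i)`;
* `lau` : `T ≤ GL ι K` diagonal, `g ∈ GL ι K`, `g * dco e c * g⁻¹ ∈ N(T)` for all `c`, small window: then
  `g * dco e c * g⁻¹` centralises `T` for all `c`.
-/

set_option autoImplicit false

namespace Cfsg.Agent.H428.OT

open Cfsg.Agent.H186.OT
open scoped Matrix MatrixGroups

universe u v

variable {K : Type u} [Field K] {ι : Type v} [Fintype ι] [DecidableEq ι]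

/-- the one-parameter group `c ↦ diag (c ^ e i)` -/
def dco (e : ι → ℤ) : Kˣ →* GL ι K where
  toFun c :=
    { val := Matrix.diagonal fun i => ((c ^ e i : Kˣ) : K)
      inv := Matrix.diagonal fun i => (((c ^ e i)⁻¹ : Kˣ) : K)
      val_inv := by
        rw [Matrix.diagonal_mul_diagonal, ← Matrix.diagonal_one]
        congr 1
        funext i
        rw [← Units.val_mul, mul_inv_cancel, Units.val_one]
      inv_val := by
        rw [Matrix.diagonal_mul_diagonal, ← Matrix.diagonal_one]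
        congr 1
        funext i
        rw [← Units.val_mul, inv_mul_cancel, Units.val_one] }
  map_one' := by
    apply Units.ext
    show Matrix.diagonal (fun i => (((1 : Kˣ) ^ e i : Kˣ) : K)) = 1
    rw [← Matrix.diagonal_one]
    congr 1
    funext i
    rw [one_zpow, Units.val_one]
  map_mul' c d := by
    apply Units.ext
    show Matrix.diagonal (fun i => (((c * d) ^ e i : Kˣ) : K)) =
      Matrix.diagonal (fun i => ((c ^ e i : Kˣ) : K)) * Matrix.diagonal (fun i => ((d ^ e i : Kˣ) : K))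
    rw [Matrix.diagonal_mul_diagonal]
    congr 1
    funext i
    rw [mul_zpow, Units.val_mul]

theorem coe_dco (e : ι → ℤ) (c : Kˣ) :
    ((dco (K := K) e c : GL ι K) : Matrix ι ι K) = Matrix.diagonal fun i => ((c ^ e i : Kˣ) : K) := rfl

/-- the conjugated one-parameter group in `End V`, `V = K ^ ι` -/
noncomputable def lam (g : GL ι K) (e : ι → ℤ) : Kˣ →* Module.End K (ι → K) :=
  ((Matrix.toLinAlgEquiv' : Matrix ι ι K ≃ₐ[K] ((ι → K) →ₗ[K] (ι → K))) : Matrix ι ι K →* Module.End K (ι → K)).comp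
    ((Units.coeHom (Matrix ι ι K)).comp ((MulAut.conj g).toMonoidHom.comp (dco e)))

theorem lam_apply (g : GL ι K) (e : ι → ℤ) (c : Kˣ) (x : ι → K) :
    lam g e c x = ((g * dco e c * g⁻¹ : GL ι K) : Matrix ι ι K) *ᵥ x := rfl

/-- **The Laurent form of the matrix coefficients.** -/
theorem isLaurent_lam (g : GL ι K) {e : ι → ℤ} {a : ℤ} {D : ℕ} (he : ∀ i, a ≤ e i ∧ e i ≤ a + D)
    (φ : Module.Dual K (ι → K)) (x : ι → K) : IsLaurent a D (fun c => φ (lam g e c x)) := by
  set y : ι → K := ((g⁻¹ : GL ι K) : Matrix ι ι K) *ᵥ x with hy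
  have key : ∀ c : Kˣ, φ (lam g e c x) =
      ∑ j, ((c ^ e j : Kˣ) : K) * (y j * φ (((g : GL ι K) : Matrix ι ι K) *ᵥ Pi.single j 1)) := by
    intro c
    have h1 : lam g e c x = ∑ j, (((c ^ e j : Kˣ) : K) * y j) • (((g : GL ι K) : Matrix ι ι K) *ᵥ Pi.single j 1) := by
      rw [lam_apply, Units.val_mul, Units.val_mul, ← Matrix.mulVec_mulVec, ← Matrix.mulVec_mulVec, ← hy, coe_dco]
      have h2 : (Matrix.diagonal fun i => ((c ^ e i : Kˣ) : K)) *ᵥ y =
          ∑ j, (((c ^ e j : Kˣ) : K) * y j) • (Pi.single j (1 : K) : ι → K) := by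
        funext i
        rw [Matrix.mulVec_diagonal, Finset.sum_apply, Finset.sum_eq_single i]
        · rw [Pi.smul_apply, Pi.single_eq_same, smul_eq_mul, mul_one]
        · intro j _ hj
          rw [Pi.smul_apply, Pi.single_eq_of_ne (Ne.symm hj), smul_zero]
        · intro h
          exact absurd (Finset.mem_univ i) h
      rw [h2, Matrix.mulVec_sum]
      refine Finset.sum_congr rfl fun j _ => ?_
      rw [Matrix.mulVec_smul]
    rw [h1, map_sum]
    refine Finset.sum_congr rfl fun j _ => ?_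
    rw [map_smul, smul_eq_mul, mul_assoc]
  have h3 : (fun c => φ (lam g e c x)) = fun c : Kˣ =>
      ∑ j, ((c ^ e j : Kˣ) : K) * (y j * φ (((g : GL ι K) : Matrix ι ι K) *ᵥ Pi.single j 1)) := funext key
  rw [h3]
  exact IsLaurent.sum _ fun j _ => (IsLaurent.zpow (he j).1 (he j).2).mul_const _

section Wt

variable (T : Subgroup (GL ι K))

/-- the `i`-th weight of a group of diagonal matrices -/
def wt (i : ι) : ↥T → K := fun t => ((t : GL ι K) : Matrix ι ι K) i i

/-- the weight space of `χ` -/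
def wsp (χ : ↥T → K) : Submodule K (ι → K) where
  carrier := {v | ∀ t : ↥T, ((t : GL ι K) : Matrix ι ι K) *ᵥ v = χ t • v}
  zero_mem' := fun t => by rw [Matrix.mulVec_zero, smul_zero]
  add_mem' := fun {a b} ha hb t => by rw [Matrix.mulVec_add, ha t, hb t, smul_add]
  smul_mem' := fun c {a} ha t => by rw [Matrix.mulVec_smul, ha t, smul_comm]

theorem mem_wsp {χ : ↥T → K} {v : ι → K} :
    v ∈ wsp T χ ↔ ∀ t : ↥T, ((t : GL ι K) : Matrix ι ι K) *ᵥ v = χ t • v := Iff.rfl

variable {T}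

/-- all elements of `T` are diagonal matrices -/
def IsDiagSub (T : Subgroup (GL ι K)) : Prop :=
  ∀ t ∈ T, ∃ d : ι → K, ((t : GL ι K) : Matrix ι ι K) = Matrix.diagonal d

variable (hT : IsDiagSub T)

include hT

theorem coe_eq (t : ↥T) : ((t : GL ι K) : Matrix ι ι K) = Matrix.diagonal fun i => wt T i t := by
  obtain ⟨d, hd⟩ := hT t.1 t.2
  rw [hd]
  congr 1
  funext i
  show d i = ((t : GL ι K) : Matrix ι ι K) i i
  rw [hd, Matrix.diagonal_apply_eq]

theorem mem_wsp_iff {χ : ↥T → K} {v : ι → K} : v ∈ wsp T χ ↔ ∀ i, v i ≠ 0 → wt T i = χ := by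
  rw [mem_wsp]
  constructor
  · intro h i hi
    funext t
    have h1 := congrFun (h t) i
    rw [coe_eq hT t, Matrix.mulVec_diagonal, Pi.smul_apply, smul_eq_mul] at h1
    exact mul_right_cancel₀ hi h1
  · intro h t
    funext i
    rw [coe_eq hT t, Matrix.mulVec_diagonal, Pi.smul_apply, smul_eq_mul]
    by_cases hi : v i = 0
    · rw [hi, mul_zero, mul_zero]
    · rw [h i hi]

theorem single_mem_wsp (i : ι) (x : K) : (Pi.single i x : ι → K) ∈ wsp T (wt T i) := by
  rw [mem_wsp_iff hT]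
  intro j hj
  by_cases h : j = i
  · rw [h]
  · exact absurd (Pi.single_eq_of_ne h _) hj

theorem iSupIndep_wsp : iSupIndep fun χ : Set.range (wt T) => wsp T χ.1 := by
  intro χ
  rw [Submodule.disjoint_def]
  intro v hv hv'
  have h1 : (⨆ ψ : Set.range (wt T), ⨆ _ : ψ ≠ χ, wsp T ψ.1) ≤
      { carrier := {v | ∀ i, wt T i = χ.1 → v i = 0}
        zero_mem' := fun _ _ => rfl
        add_mem' := fun {a b} ha hb i hi => by rw [Pi.add_apply, ha i hi, hb i hi, add_zero]
        smul_mem' := fun c {a} ha i hi => by rw [Pi.smul_apply, ha i hi, smul_zero] } := by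
    refine iSup₂_le fun ψ hψ w hw i hi => ?_
    by_contra h0
    exact hψ (Subtype.ext (((mem_wsp_iff hT).1 hw i h0).symm.trans hi))
  funext i
  by_contra h0
  exact h0 (h1 hv' i ((mem_wsp_iff hT).1 hv i h0))

theorem wsp_ne_bot (χ : Set.range (wt T)) : wsp T χ.1 ≠ ⊥ := by
  obtain ⟨-, i, rfl⟩ := χ
  rw [Submodule.ne_bot_iff]
  exact ⟨_, single_mem_wsp hT i 1, by simp⟩

omit hT in
/-- the normaliser permutes the weight spaces -/
theorem map_wsp {n : GL ι K} (hn : n ∈ Subgroup.normalizer (T : Set (GL ι K))) (χ : ↥T → K) :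
    (wsp T χ).map (Matrix.toLin' (n : Matrix ι ι K)) =
      wsp T fun t => χ ⟨n⁻¹ * t * n, by
        have := (Subgroup.mem_normalizer_iff.1 (inv_mem hn) (t : GL ι K)).1 t.2
        rwa [inv_inv] at this⟩ := by
  ext v
  rw [Submodule.mem_map]
  constructor
  · rintro ⟨u, hu, rfl⟩ t
    rw [mem_wsp] at hu
    have h1 := hu ⟨n⁻¹ * t * n, by
        have := (Subgroup.mem_normalizer_iff.1 (inv_mem hn) (t : GL ι K)).1 t.2
        rwa [inv_inv] at this⟩
    rw [Matrix.toLin'_apply, ← Matrix.mulVec_smul, ← h1, Matrix.mulVec_mulVec, Matrix.mulVec_mulVec,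
      ← Units.val_mul, ← Units.val_mul]
    congr 2
    group
  · intro hv
    refine ⟨((n⁻¹ : GL ι K) : Matrix ι ι K) *ᵥ v, ?_, ?_⟩
    · intro t
      have ht : n * t * n⁻¹ ∈ T := (Subgroup.mem_normalizer_iff.1 hn (t : GL ι K)).1 t.2
      have h1 := hv ⟨n * t * n⁻¹, ht⟩
      have h2 : (⟨n⁻¹ * ((⟨n * t * n⁻¹, ht⟩ : ↥T) : GL ι K) * n, by
        have := (Subgroup.mem_normalizer_iff.1 (inv_mem hn) ((⟨n * t * n⁻¹, ht⟩ : ↥T) : GL ι K)).1 ht
        rwa [inv_inv] at this⟩ : ↥T) = t := by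
        apply Subtype.ext
        show n⁻¹ * (n * t * n⁻¹) * n = t
        group
      simp only [h2] at h1
      rw [← Matrix.mulVec_smul, ← h1, Matrix.mulVec_mulVec, Matrix.mulVec_mulVec, ← Units.val_mul, ← Units.val_mul]
      congr 2
      group
    · rw [Matrix.toLin'_apply, Matrix.mulVec_mulVec, ← Units.val_mul, mul_inv_cancel, Units.val_one,
        Matrix.one_mulVec]

theorem exists_map_wsp {n : GL ι K} (hn : n ∈ Subgroup.normalizer (T : Set (GL ι K))) (χ : Set.range (wt T)) :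
    ∃ ψ : Set.range (wt T), (wsp T χ.1).map (Matrix.toLin' (n : Matrix ι ι K)) = wsp T ψ.1 := by
  refine ⟨⟨_, ?_⟩, map_wsp hn χ.1⟩
  have h1 : (wsp T χ.1).map (Matrix.toLin' (n : Matrix ι ι K)) ≠ ⊥ := by
    intro h0
    apply wsp_ne_bot hT χ
    rw [Submodule.eq_bot_iff]
    intro v hv
    have h2 : Matrix.toLin' (n : Matrix ι ι K) v ∈ (⊥ : Submodule K (ι → K)) := h0 ▸ Submodule.mem_map_of_mem hv
    rw [Submodule.mem_bot, Matrix.toLin'_apply] at h2
    have h3 : ((n⁻¹ : GL ι K) : Matrix ι ι K) *ᵥ ((n : Matrix ι ι K) *ᵥ v) = 0 := by rw [h2, Matrix.mulVec_zero]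
    rwa [Matrix.mulVec_mulVec, ← Units.val_mul, inv_mul_cancel, Units.val_one, Matrix.one_mulVec] at h3
  rw [map_wsp hn] at h1
  obtain ⟨v, hv, hv0⟩ := (Submodule.ne_bot_iff _).1 h1
  obtain ⟨i, hi⟩ := Function.ne_iff.1 hv0
  exact ⟨i, (mem_wsp_iff hT).1 hv i hi⟩

/-- an element fixing all weight spaces centralises `T` -/
theorem comm_of_map_wsp {n : GL ι K}
    (h : ∀ χ : Set.range (wt T), (wsp T χ.1).map (Matrix.toLin' (n : Matrix ι ι K)) = wsp T χ.1) :
    ∀ t ∈ T, n * t = t * n := by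
  intro t ht
  apply Units.ext
  rw [Units.val_mul, Units.val_mul]
  apply Matrix.toLin'.injective
  apply (Pi.basisFun K ι).ext
  intro i
  rw [Pi.basisFun_apply, Matrix.toLin'_apply, Matrix.toLin'_apply, ← Matrix.mulVec_mulVec, ← Matrix.mulVec_mulVec]
  have h1 := (mem_wsp T).1 (single_mem_wsp hT i 1) ⟨t, ht⟩
  have h2 : (n : Matrix ι ι K) *ᵥ (Pi.single i 1 : ι → K) ∈ wsp T (wt T i) := by
    rw [← h ⟨wt T i, i, rfl⟩]
    exact Submodule.mem_map_of_mem (single_mem_wsp hT i 1)
  rw [h1, Matrix.mulVec_smul, (mem_wsp T).1 h2 ⟨t, ht⟩]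

/-- **The Laurent trick for groups of diagonal matrices.** -/
theorem lau [Fintype K] {a : ℤ} {D s : ℕ}
    (hs : ∀ d : ℕ, d ∣ Fintype.card K - 1 → d ≠ 1 → s ≤ d) (hD : s * D < (s - 1) * (Fintype.card K - 1))
    {e : ι → ℤ} (he : ∀ i, a ≤ e i ∧ e i ≤ a + D) (g : GL ι K)
    (hN : ∀ c, g * dco e c * g⁻¹ ∈ Subgroup.normalizer (T : Set (GL ι K))) (c : Kˣ) :
    ∀ t ∈ T, (g * dco e c * g⁻¹) * t = t * (g * dco e c * g⁻¹) := by
  apply comm_of_map_wsp hT
  intro χ
  exact fix_of_laurent hs hD (lam g e) (isLaurent_lam g he) (fun χ : Set.range (wt T) => wsp T χ.1)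
    (iSupIndep_wsp hT) (wsp_ne_bot hT) (fun c χ => exists_map_wsp hT (hN c) χ) c χ

end Wt

end Cfsg.Agent.H428.OT
end

-- part: H893/OT/KPrime
section
set_option linter.all false
open scoped Cfsg.Agent.FastGrp

/-!
# S2539, (K') (helper893)

* `lau_sq` : the Laurent trick for the window `2 D ≤ q - 1` (equality allowed): squares;
* `hL hD l c = ∏_{r ∈ l} h_r(c)`; `ex D l x = ∑_{r ∈ l} ⟨x, r^∨⟩`;
* `kprime` : `F` a least bad group, `S_F = ∅`, `g ∈ F - N(T)`, `g m g⁻¹ ∈ T`, `m ∉ Z(F)`, `m` centralises `hL l c` for all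
  `c`, `|∑ ⟨x, r^∨⟩| ≤ w` for all roots `x`, `4 w ≤ q - 1` (or `2 s w < (s - 1)(q - 1)`): then
  `∑_{r ∈ l} ⟨a, r^∨⟩ = 0` for all `a ∈ Ψ`;
* `kprime_one` : one root, `q ≥ 13`: `⟨a, r^∨⟩ = 0` for all `a ∈ Ψ`.
-/

set_option autoImplicit false
set_option linter.unusedSectionVars false

namespace Cfsg.Agent.H893.OT

open Subgroup Cfsg.Lie Cfsg.Agent.H412.OT Cfsg.Agent.H186.OT
open Cfsg.Agent.ChevalleyStructure Cfsg.Agent.ChevalleyStructure.Elts
open scoped Matrix MatrixGroups

universe u v w'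

section Laurent

variable {K : Type u} [Field K] [Fintype K]

/-- window `2 D ≤ q - 1`: the stabiliser contains all squares -/
theorem sq_mem_of_laurent {a : ℤ} {D : ℕ} {f : Kˣ → K} (hf : IsLaurent a D f) {c₀ : Kˣ} (h0 : f c₀ ≠ 0)
    (hD : 2 * D ≤ Fintype.card K - 1) (H : Subgroup Kˣ) (hH : ∀ c, f c ≠ 0 → c ∈ H) (c : Kˣ) : c ^ 2 ∈ H := by
  classical
  have hcard : Fintype.card Kˣ = Fintype.card K - 1 := Fintype.card_units K
  have hmul : Nat.card H * H.index = Fintype.card K - 1 := by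
    rw [← hcard, ← Nat.card_eq_fintype_card]
    exact H.card_mul_index
  have h1 := hf.card_zeros h0
  have h2 : (Finset.univ.filter fun c : Kˣ => ¬ f c = 0).card ≤ Nat.card H := by
    have hc2 : Nat.card H = (Finset.univ.filter fun c : Kˣ => c ∈ H).card := by
      rw [Nat.card_eq_fintype_card, Fintype.card_subtype]
    rw [hc2]
    refine Finset.card_le_card fun c hc => ?_
    exact Finset.mem_filter.2 ⟨Finset.mem_univ _, hH c (Finset.mem_filter.1 hc).2⟩
  have h3 : (Finset.univ.filter fun c : Kˣ => f c = 0).card + (Finset.univ.filter fun c : Kˣ => ¬ f c = 0).card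
      = Fintype.card K - 1 := by
    rw [Finset.card_filter_add_card_filter_not, Finset.card_univ, hcard]
  set n := Fintype.card K - 1 with hn
  have h4 : n ≤ D + Nat.card H := by omega
  have hpos : 0 < Nat.card H := Nat.card_pos
  have h5 : H.index ≤ 2 := by
    by_contra hcon
    have h6 : 3 ≤ H.index := by omega
    have h7 : Nat.card H * 3 ≤ n := by
      rw [← hmul]
      exact Nat.mul_le_mul_left _ h6
    omega
  have h6 : H.index = 1 ∨ H.index = 2 := by
    have : H.index ≠ 0 := Subgroup.index_ne_zero_of_finite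
    omega
  rcases h6 with h6 | h6
  · rw [Subgroup.index_eq_one] at h6
    rw [h6]
    exact Subgroup.mem_top _
  · exact Subgroup.sq_mem_of_index_two h6 c

/-- the Laurent trick, window `2 D ≤ q - 1` -/
theorem fix_sq_of_laurent {V : Type v} [AddCommGroup V] [Module K V] {a : ℤ} {D : ℕ}
    (hD : 2 * D ≤ Fintype.card K - 1) (lam : Kˣ →* Module.End K V)
    (hL : ∀ (φ : Module.Dual K V) (x : V), IsLaurent a D (fun c => φ (lam c x)))
    {ι : Type w'} (W : ι → Submodule K V) (hind : iSupIndep W) (hne : ∀ i, W i ≠ ⊥)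
    (hperm : ∀ c i, ∃ j, (W i).map (lam c) = W j) (c : Kˣ) (i : ι) : (W i).map (lam (c ^ 2)) = W i := by
  -- the stabiliser of `W i`
  let H : Subgroup Kˣ :=
    { carrier := {c | (W i).map (lam c) = W i}
      one_mem' := by
        change (W i).map (lam 1) = W i
        rw [map_one]
        exact Submodule.map_id _
      mul_mem' := by
        intro x y hx hy
        change (W i).map (lam (x * y)) = W i
        rw [map_mul, Module.End.mul_eq_comp, Submodule.map_comp, hy, hx]
      inv_mem' := by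
        intro x hx
        change (W i).map (lam x⁻¹) = W i
        conv_lhs => rw [← (show (W i).map (lam x) = W i from hx)]
        rw [← Submodule.map_comp, ← Module.End.mul_eq_comp, ← map_mul, inv_mul_cancel, map_one]
        exact Submodule.map_id _ }
  obtain ⟨x, hx, hx0⟩ := (Submodule.ne_bot_iff _).1 (hne i)
  have hxn : x ∉ ⨆ j, ⨆ _ : j ≠ i, W j := fun h => hx0 ((Submodule.disjoint_def.1 (hind i)) x hx h)
  obtain ⟨φ, hφx, hφ⟩ := Submodule.exists_le_ker_of_notMem hxn
  have hH : c ^ 2 ∈ H := by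
    refine sq_mem_of_laurent (hL φ x) (c₀ := 1) ?_ hD H (fun c hc => ?_) c
    · simpa using hφx
    · obtain ⟨j, hj⟩ := hperm c i
      by_cases hji : j = i
      · subst hji
        exact hj
      · exfalso
        apply hc
        have h1 : lam c x ∈ W j := hj ▸ Submodule.mem_map_of_mem hx
        have h2 : lam c x ∈ ⨆ j, ⨆ _ : j ≠ i, W j := (le_iSup₂_of_le (f := fun j (_ : j ≠ i) => W j) j hji le_rfl) h1
        exact LinearMap.mem_ker.1 (hφ h2)
  exact hH

variable {ι : Type v} [Fintype ι] [DecidableEq ι] {T : Subgroup (GL ι K)}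

/-- **The Laurent trick for groups of diagonal matrices**, window `2 D ≤ q - 1`. -/
theorem lau_sq (hT : H428.OT.IsDiagSub T) {a : ℤ} {D : ℕ} (hD : 2 * D ≤ Fintype.card K - 1)
    {e : ι → ℤ} (he : ∀ i, a ≤ e i ∧ e i ≤ a + D) (g : GL ι K)
    (hN : ∀ c, g * H428.OT.dco e c * g⁻¹ ∈ Subgroup.normalizer (T : Set (GL ι K))) (c : Kˣ) :
    ∀ t ∈ T, (g * H428.OT.dco e (c ^ 2) * g⁻¹) * t = t * (g * H428.OT.dco e (c ^ 2) * g⁻¹) := by
  apply H428.OT.comm_of_map_wsp hT
  intro χ
  exact fix_sq_of_laurent hD (H428.OT.lam g e) (H428.OT.isLaurent_lam g he)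
    (fun χ : Set.range (H428.OT.wt T) => H428.OT.wsp T χ.1)
    (H428.OT.iSupIndep_wsp hT) (H428.OT.wsp_ne_bot hT) (fun c χ => H428.OT.exists_map_wsp hT (hN c) χ) c χ

end Laurent

section Cochar

variable {D : ChevalleyDatum} {K : Type u} [Field K]

open scoped Classical in
/-- the exponents of `∏_{r ∈ l} h_r` on the adjoint module -/
def ex (D : ChevalleyDatum) (l : List ℕ) : D.Idx → ℤ :=
  Sum.elim (fun _ => 0) (fun s => (l.map fun r => pr D r s).sum)

/-- `∏_{r ∈ l} h_r(c)` -/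
noncomputable def hL (hD : InList D) (l : List ℕ) (c : K) : GL D.Idx K := (l.map fun r => hG hD r c).prod

theorem hL_mem (hD : InList D) {l : List ℕ} (hl : ∀ r ∈ l, r < D.nroots) {c : K} (hc : c ≠ 0) :
    hL hD l c ∈ D.diagonalSubgroup K := by
  refine Subgroup.list_prod_mem _ fun x hx => ?_
  obtain ⟨r, hr, rfl⟩ := List.mem_map.1 hx
  exact hG_mem hD (hl r hr) hc

theorem coe_hL (hD : InList D) {l : List ℕ} (hl : ∀ r ∈ l, r < D.nroots) {c : K} (hc : c ≠ 0) :
    (hL hD l c : Matrix D.Idx D.Idx K) = Matrix.diagonal (fun x => c ^ ex D l x) := by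
  induction l with
  | nil =>
    show ((1 : GL D.Idx K) : Matrix D.Idx D.Idx K) = _
    rw [Units.val_one, ← Matrix.diagonal_one]
    congr 1
    funext x
    rcases x with i | s
    · exact (zpow_zero c).symm
    · exact (zpow_zero c).symm
  | cons r l ih =>
    have h1 : hL hD (r :: l) c = hG hD r c * hL hD l c := by
      rw [hL, hL, List.map_cons, List.prod_cons]
    rw [h1, Units.val_mul, ih fun x hx => hl x (List.mem_cons_of_mem _ hx),
      coe_hG_diag hD (hl r List.mem_cons_self) hc, Matrix.diagonal_mul_diagonal]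
    congr 1
    funext x
    rcases x with i | s
    · simp only [ex, Sum.elim_inl, zpow_zero, mul_one]
    · simp only [ex, Sum.elim_inr, List.map_cons, List.sum_cons]
      rw [zpow_add₀ hc]

theorem dco_eq (hD : InList D) {l : List ℕ} (hl : ∀ r ∈ l, r < D.nroots) (c : Kˣ) :
    H428.OT.dco (ex D l) c = hL hD l (c : K) := by
  apply Units.ext
  rw [H428.OT.coe_dco, coe_hL hD hl c.ne_zero]
  congr 1
  funext x
  rw [Units.val_zpow_eq_zpow_val]

theorem chi_hL (hD : InList D) {l : List ℕ} (hl : ∀ r ∈ l, r < D.nroots) {c : K} (hc : c ≠ 0) {s : ℕ}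
    (hs : s < D.nroots) : chi D K (hL hD l c) s = c ^ (l.map fun r => pr D r s).sum := by
  rw [chi, dif_pos hs, coe_hL hD hl hc, Matrix.diagonal_apply_eq]
  rfl

theorem isDiag (hD : InList D) : H428.OT.IsDiagSub (D.diagonalSubgroup K) := fun _ ht => ⟨_, coe_tor hD ht⟩

/-- elements of `T` are determined by the values of the roots -/
theorem eq_of_chi (hD : InList D) {t t' : GL D.Idx K} (ht : t ∈ D.diagonalSubgroup K)
    (ht' : t' ∈ D.diagonalSubgroup K) (h : ∀ s < D.nroots, chi D K t s = chi D K t' s) : t = t' := by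
  apply Units.ext
  rw [coe_tor hD ht, coe_tor hD ht']
  congr 1
  funext x
  rcases x with i | s
  · rfl
  · rw [Sum.elim_inr, Sum.elim_inr]
    exact h s s.2

/-- `m` fixes `∏ h_r(c)` if the permutation afforded by `m` fixes `∑ r^∨` as a function on the roots -/
theorem comm_hL (hD : InList D) {m : GL D.Idx K}
    (hm : m ∈ normalizer (D.diagonalSubgroup K : Set (GL D.Idx K))) {w : ℕ → ℕ}
    (hsur : ∀ s < D.nroots, ∃ x < D.nroots, w x = s)
    (hchi : ∀ t ∈ D.diagonalSubgroup K, ∀ s < D.nroots, chi D K (m * t * m⁻¹) (w s) = chi D K t s)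
    {l : List ℕ} (hl : ∀ r ∈ l, r < D.nroots)
    (hlw : ∀ x < D.nroots, (l.map fun r => pr D r (w x)).sum = (l.map fun r => pr D r x).sum) {c : K} (hc : c ≠ 0) :
    m * hL hD l c = hL hD l c * m := by
  have h1 : m * hL hD l c * m⁻¹ = hL hD l c := by
    apply eq_of_chi hD ((mem_normalizer_iff.1 hm _).1 (hL_mem hD hl hc)) (hL_mem hD hl hc)
    intro s hs
    obtain ⟨x, hx, rfl⟩ := hsur s hs
    rw [hchi _ (hL_mem hD hl hc) x hx, chi_hL hD hl hc hx, chi_hL hD hl hc hs, hlw x hx]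
  rwa [mul_inv_eq_iff_eq_mul] at h1

variable [Fintype K]

theorem exists_gen (K : Type u) [Field K] [Fintype K] : ∃ γ : Kˣ, orderOf γ = Fintype.card K - 1 := by
  classical
  obtain ⟨γ, hγ⟩ := IsCyclic.exists_generator (α := Kˣ)
  refine ⟨γ, ?_⟩
  rw [orderOf_eq_card_of_forall_mem_zpowers hγ, Nat.card_units, Nat.card_eq_fintype_card]

theorem dvd_of_zpow {γ : Kˣ} (hγ : orderOf γ = Fintype.card K - 1) {a : ℤ} (h : ((γ : K)) ^ a = 1) :
    ((Fintype.card K - 1 : ℕ) : ℤ) ∣ a := by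
  rw [← hγ]
  apply orderOf_dvd_iff_zpow_eq_one.2
  apply Units.ext
  rw [Units.val_zpow_eq_zpow_val, h, Units.val_one]

variable {F : Subgroup (GL D.Idx K)}

/-- the conjugates `g h g⁻¹`, `h` a torus element centralised by `m`, normalise `T` -/
theorem conj_mem_norm (hD : InList D) (h : MinBad D K F) (he : SF D K F = ∅)
    {g m : GL D.Idx K} (hg : g ∈ F) (hgm : g * m * g⁻¹ ∈ D.diagonalSubgroup K) (hmZ : m ∉ Zf F)
    {x : GL D.Idx K} (hx : x ∈ F) (hxm : m * x = x * m) :
    g * x * g⁻¹ ∈ normalizer (D.diagonalSubgroup K : Set (GL D.Idx K)) := by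
  set C : Subgroup (GL D.Idx K) := F ⊓ centralizer {g * m * g⁻¹} with hC
  have hmem : ∀ x, x ∈ C ↔ x ∈ F ∧ x * (g * m * g⁻¹) = (g * m * g⁻¹) * x := fun x => by
    rw [hC, mem_inf, mem_centralizer_iff]
    constructor
    · exact fun h1 => ⟨h1.1, (h1.2 _ rfl).symm⟩
    · rintro ⟨h1, h2⟩
      refine ⟨h1, ?_⟩
      rintro y rfl
      exact h2.symm
  have hT : D.diagonalSubgroup K ≤ C := fun s hs => (hmem s).2 ⟨h.tor hs, tor_comm hD hs hgm⟩
  have hlt : C < F := by
    refine lt_of_le_of_ne inf_le_left fun heq => hmZ ?_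
    have hmF : m ∈ F := by
      have h1 := mul_mem (mul_mem (inv_mem hg) (h.tor hgm)) hg
      have h2 : g⁻¹ * (g * m * g⁻¹) * g = m := by group
      rwa [h2] at h1
    refine mem_Zf.2 ⟨hmF, fun x hx => ?_⟩
    have h1 : g * x * g⁻¹ ∈ C := by
      rw [heq]
      exact mul_mem (mul_mem hg hx) (inv_mem hg)
    have h2 := ((hmem _).1 h1).2
    have h3 : g * (x * m) * g⁻¹ = g * (m * x) * g⁻¹ := by
      calc g * (x * m) * g⁻¹ = g * x * g⁻¹ * (g * m * g⁻¹) := by group
        _ = g * m * g⁻¹ * (g * x * g⁻¹) := h2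
        _ = g * (m * x) * g⁻¹ := by group
    exact mul_left_cancel (mul_right_cancel h3)
  refine MinBad.le_norm h he hT hlt ((hmem _).2 ⟨mul_mem (mul_mem hg hx) (inv_mem hg), ?_⟩)
  calc g * x * g⁻¹ * (g * m * g⁻¹) = g * (x * m) * g⁻¹ := by group
    _ = g * (m * x) * g⁻¹ := by rw [hxm]
    _ = g * m * g⁻¹ * (g * x * g⁻¹) := by group

/-- **(K')** divisibility forms: general window, `(s, E)` form. -/
theorem kprime_dvd (hD : InList D) (h : MinBad D K F) (he : SF D K F = ∅)
    (lt2 : ∀ g ∈ F, (∀ t ∈ D.diagonalSubgroup K, g * t * g⁻¹ ∈ normalizer (D.diagonalSubgroup K : Set (GL D.Idx K))) →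
      g ∈ normalizer (D.diagonalSubgroup K : Set (GL D.Idx K)))
    (cent : ∀ x ∈ F, (∀ t ∈ D.diagonalSubgroup K, x * t = t * x) → x ∈ D.diagonalSubgroup K)
    {g m : GL D.Idx K} (hg : g ∈ F) (hgN : g ∉ normalizer (D.diagonalSubgroup K : Set (GL D.Idx K)))
    (hgm : g * m * g⁻¹ ∈ D.diagonalSubgroup K) (hmZ : m ∉ Zf F)
    {l : List ℕ} (hl : ∀ r ∈ l, r < D.nroots) (hfix : ∀ c : K, c ≠ 0 → m * hL hD l c = hL hD l c * m)
    {a : ℤ} {E s : ℕ} (hs : ∀ d : ℕ, d ∣ Fintype.card K - 1 → d ≠ 1 → s ≤ d)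
    (hE : s * E < (s - 1) * (Fintype.card K - 1)) (ha : a ≤ 0 ∧ 0 ≤ a + E)
    (hw : ∀ x < D.nroots, a ≤ (l.map fun r => pr D r x).sum ∧ (l.map fun r => pr D r x).sum ≤ a + E) :
    ∀ b ∈ Psi D K F, ((Fintype.card K - 1 : ℕ) : ℤ) ∣ (l.map fun r => pr D r b).sum := by
  intro b hb
  obtain ⟨γ, hγ⟩ := exists_gen K
  have hF : ∀ c : Kˣ, hL hD l (c : K) ∈ F := fun c => h.tor (hL_mem hD hl c.ne_zero)
  have hlau : g * hL hD l (γ : K) * g⁻¹ ∈ D.diagonalSubgroup K := by
    apply cent _ (mul_mem (mul_mem hg (hF γ)) (inv_mem hg))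
    have h1 := Cfsg.Agent.H428.OT.lau (T := D.diagonalSubgroup K) (isDiag hD) (a := a) (D := E) (s := s) hs hE
      (e := ex D l) (fun x => by
        rcases x with i | x
        · simp only [ex, Sum.elim_inl]; exact ha
        · simp only [ex, Sum.elim_inr]
          exact hw x x.2) g
      (fun c => by
        rw [dco_eq hD hl]
        exact conj_mem_norm hD h he hg hgm hmZ (hF c) (hfix c c.ne_zero)) γ
    rwa [dco_eq hD hl] at h1
  have hZ : hL hD l (γ : K) ∈ Zf F := by
    by_contra h7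
    exact hgN (ti0 hD h he lt2 (hL_mem hD hl γ.ne_zero) hg hlau h7)
  have h8 := hb.2 _ hZ
  rw [chi_hL hD hl γ.ne_zero hb.1] at h8
  exact dvd_of_zpow hγ h8

/-- **(K')** divisibility form: window `2 E ≤ q - 1`. -/
theorem kprime_dvd_two (hD : InList D) (h : MinBad D K F) (he : SF D K F = ∅)
    (lt2 : ∀ g ∈ F, (∀ t ∈ D.diagonalSubgroup K, g * t * g⁻¹ ∈ normalizer (D.diagonalSubgroup K : Set (GL D.Idx K))) →
      g ∈ normalizer (D.diagonalSubgroup K : Set (GL D.Idx K)))
    (cent : ∀ x ∈ F, (∀ t ∈ D.diagonalSubgroup K, x * t = t * x) → x ∈ D.diagonalSubgroup K)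
    {g m : GL D.Idx K} (hg : g ∈ F) (hgN : g ∉ normalizer (D.diagonalSubgroup K : Set (GL D.Idx K)))
    (hgm : g * m * g⁻¹ ∈ D.diagonalSubgroup K) (hmZ : m ∉ Zf F)
    {l : List ℕ} (hl : ∀ r ∈ l, r < D.nroots) (hfix : ∀ c : K, c ≠ 0 → m * hL hD l c = hL hD l c * m)
    {a : ℤ} {E : ℕ} (hE : 2 * E ≤ Fintype.card K - 1) (ha : a ≤ 0 ∧ 0 ≤ a + E)
    (hw : ∀ x < D.nroots, a ≤ (l.map fun r => pr D r x).sum ∧ (l.map fun r => pr D r x).sum ≤ a + E) :
    ∀ b ∈ Psi D K F, ((Fintype.card K - 1 : ℕ) : ℤ) ∣ 2 * (l.map fun r => pr D r b).sum := by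
  intro b hb
  obtain ⟨γ, hγ⟩ := exists_gen K
  have hF : ∀ c : Kˣ, hL hD l (c : K) ∈ F := fun c => h.tor (hL_mem hD hl c.ne_zero)
  have hlau : g * hL hD l ((γ ^ 2 : Kˣ) : K) * g⁻¹ ∈ D.diagonalSubgroup K := by
    apply cent _ (mul_mem (mul_mem hg (hF _)) (inv_mem hg))
    have h1 := lau_sq (T := D.diagonalSubgroup K) (isDiag hD) (a := a) (D := E) hE
      (e := ex D l) (fun x => by
        rcases x with i | x
        · simp only [ex, Sum.elim_inl]; exact ha
        · simp only [ex, Sum.elim_inr]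
          exact hw x x.2) g
      (fun c => by
        rw [dco_eq hD hl]
        exact conj_mem_norm hD h he hg hgm hmZ (hF c) (hfix c c.ne_zero)) γ
    rwa [dco_eq hD hl] at h1
  have hZ : hL hD l ((γ ^ 2 : Kˣ) : K) ∈ Zf F := by
    by_contra h7
    exact hgN (ti0 hD h he lt2 (hL_mem hD hl (γ ^ 2).ne_zero) hg hlau h7)
  have h8 := hb.2 _ hZ
  rw [chi_hL hD hl (γ ^ 2).ne_zero hb.1, Units.val_pow_eq_pow_val, ← zpow_natCast, ← zpow_mul] at h8
  exact dvd_of_zpow hγ h8

/-- **(K')** : symmetric window, `4 w ≤ q - 1` or the `(s, E)` form. -/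
theorem kprime (hD : InList D) (h : MinBad D K F) (he : SF D K F = ∅)
    (lt2 : ∀ g ∈ F, (∀ t ∈ D.diagonalSubgroup K, g * t * g⁻¹ ∈ normalizer (D.diagonalSubgroup K : Set (GL D.Idx K))) →
      g ∈ normalizer (D.diagonalSubgroup K : Set (GL D.Idx K)))
    (cent : ∀ x ∈ F, (∀ t ∈ D.diagonalSubgroup K, x * t = t * x) → x ∈ D.diagonalSubgroup K)
    {g m : GL D.Idx K} (hg : g ∈ F) (hgN : g ∉ normalizer (D.diagonalSubgroup K : Set (GL D.Idx K)))
    (hgm : g * m * g⁻¹ ∈ D.diagonalSubgroup K) (hmZ : m ∉ Zf F)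
    {l : List ℕ} (hl : ∀ r ∈ l, r < D.nroots) (hfix : ∀ c : K, c ≠ 0 → m * hL hD l c = hL hD l c * m)
    {w : ℕ} (hq : 4 * w ≤ Fintype.card K - 1 ∨ ∃ s : ℕ, (∀ d : ℕ, d ∣ Fintype.card K - 1 → d ≠ 1 → s ≤ d) ∧
      s * (2 * w) < (s - 1) * (Fintype.card K - 1))
    (hw : ∀ x < D.nroots, |(l.map fun r => pr D r x).sum| ≤ w) :
    ∀ b ∈ Psi D K F, (l.map fun r => pr D r b).sum = 0 := by
  intro b hb
  have hb0 := abs_le.1 (hw b hb.1)
  have hwin : ∀ x < D.nroots, -(w : ℤ) ≤ (l.map fun r => pr D r x).sum ∧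
      (l.map fun r => pr D r x).sum ≤ -(w : ℤ) + ((2 * w : ℕ) : ℤ) := by
    intro x hx
    have h1 := abs_le.1 (hw x hx)
    refine ⟨h1.1, ?_⟩
    push_cast
    linarith [h1.2]
  have ha : -(w : ℤ) ≤ 0 ∧ (0 : ℤ) ≤ -(w : ℤ) + ((2 * w : ℕ) : ℤ) := by
    push_cast
    constructor <;> omega
  have hcard : 1 < Fintype.card K := Fintype.one_lt_card
  rcases hq with hq | ⟨s, hs, hq⟩
  · have h1 := kprime_dvd_two hD h he lt2 cent hg hgN hgm hmZ hl hfix (a := -(w : ℤ)) (E := 2 * w) (by omega) ha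
      hwin b hb
    have h2 : 2 * (l.map fun r => pr D r b).sum = 0 := by
      apply Int.eq_zero_of_abs_lt_dvd h1
      rw [abs_lt]
      have h4 : (4 : ℤ) * w ≤ ((Fintype.card K - 1 : ℕ) : ℤ) := by exact_mod_cast hq
      have h5 : (1 : ℤ) ≤ ((Fintype.card K - 1 : ℕ) : ℤ) := by
        have : 1 ≤ Fintype.card K - 1 := by omega
        exact_mod_cast this
      constructor <;> omega
    omega
  · have h1 := kprime_dvd hD h he lt2 cent hg hgN hgm hmZ hl hfix (a := -(w : ℤ)) (E := 2 * w) hs hq ha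
      hwin b hb
    apply Int.eq_zero_of_abs_lt_dvd h1
    have h6 : w < Fintype.card K - 1 := by
      by_contra hcon
      have h7 : Fintype.card K - 1 ≤ w := by omega
      have h8 : (s - 1) * (Fintype.card K - 1) ≤ s * (2 * w) :=
        Nat.mul_le_mul (Nat.sub_le _ _) (h7.trans (by omega))
      omega
    rw [abs_lt]
    constructor <;> omega

end Cochar

end Cfsg.Agent.H893.OT

private theorem dce_feb34f774f00 : _root_.True := by
  try have : _root_.True := by simp only [_root_.Cfsg.Agent.H893.OT.ex.eq_1]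
  try have : _root_.True := by simp only [_root_.Cfsg.Agent.H893.OT.hL.eq_1]
  exact _root_.True.intro
end
end
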